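import Cfsg.Agent.CosetEnum.Ly.BData

/-! Certificate of a coset enumeration (generated data, owner: helper28). -/

set_option autoImplicit false
set_option maxRecDepth 1000000

namespace Cfsg.Agent.CosetEnum.LYB

def ck0 : CK := .cons 32 32 0x108064000010008000800400019008800880240020002001000800480040020002000200100000400240020010001000100080048004008004 ( .cons 32 28 0x8800401200000120000400200004800110008004000e10001c20001000800090000009000008802400200100080040020110088004800006280020002001000800404200900080040004002001000 ( .nil ))

theorem part0 : chunks P L 64 ck0 0 60 = true := by decide +kernel

end Cfsg.Agent.CosetEnum.LYB
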