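/-!
Relations of the Lyons group (owner: helper66).

Letters: 1 a, 2 A, 3 m, 4 M, 5 n, 6 N, 7 c, 8 C, 9 b, 10 B, 11 d, 12 D, 13 e, 14 z, 15 Z (capitals are inverses,
m = a2 and n = a3 of the presentation).
-/

set_option autoImplicit false

namespace Cfsg.Agent.LyG

/-- mutually inverse letters of the subgroup -/
def ivH : List (Nat × Nat) := [(1, 2), (3, 4), (5, 6), (7, 8), (9, 10), (11, 12)]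

/-- mutually inverse letters -/
def ivG : List (Nat × Nat) := [(1, 2), (3, 4), (5, 6), (7, 8), (9, 10), (11, 12), (14, 15)]

/-- relations of the subgroup -/
def RLH : List (List Nat × Nat) := [([1], 8), ([9], 5), ([1, 9], 4), ([2, 2, 10, 1, 1, 9], 1), ([2, 10, 1, 9], 3), ([7], 5), ([8, 2, 8, 1, 7, 2, 7, 1], 5), ([8, 2, 8, 1, 8, 2, 7, 1, 7, 2, 8, 1, 7, 2, 7, 1], 1), ([2, 8, 8, 1, 8, 2, 7, 1, 7, 2, 7, 1, 8, 2, 8, 1, 7, 2, 7, 1], 1), ([10, 8, 9, 2, 8, 1, 8, 2, 7, 1, 7, 10, 7, 9, 8, 2, 8, 1, 7, 2, 7, 1], 1), ([9, 8, 10, 2, 8, 1, 8, 2, 7, 1, 7, 9, 7, 10, 8, 2, 8, 1, 7, 2, 7, 1], 1), ([8, 10, 8, 9, 7, 10, 7, 9, 8, 2, 8, 1, 7, 2, 7, 1, 8, 2, 8, 1, 7, 2, 7, 1], 1), ([8, 9, 8, 10, 7, 9, 7, 10, 2, 8, 1, 8, 2, 7, 1, 7, 2, 8, 1, 8,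 2, 7, 1, 7], 1), ([2, 8, 1, 10, 8, 9, 2, 7, 1, 10, 7, 9, 8, 2, 8, 1, 7, 2, 7, 1], 1), ([2, 8, 1, 9, 8, 10, 2, 7, 1, 9, 7, 10], 1), ([10, 8, 9, 9, 8, 10, 10, 7, 9, 9, 7, 10, 8, 2, 8, 1, 7, 2, 7, 1], 1), ([2, 2, 7, 1, 1, 7, 7], 1), ([2, 10, 7, 9, 1, 9, 8, 10, 8, 10, 7, 7, 9], 1), ([2, 9, 7, 10, 1, 9, 8, 10, 8, 9, 8, 10, 10, 7, 9, 2, 7, 1, 8], 1), ([2, 8, 2, 8, 1, 7, 2, 7, 1, 8, 1, 8, 2, 7, 1, 7, 2, 8, 1, 8, 2, 7, 1, 7], 1), ([10, 2, 7, 1, 9, 9, 7, 10, 7, 9, 7, 10, 10, 8, 9, 2, 8, 1], 1), ([10, 10, 7, 9, 7, 7, 9, 9, 8, 10, 8, 8], 1), ([10, 8, 2, 8, 1, 7, 2, 7, 1, 9, 2, 8, 1, 8, 2, 7, 1, 7], 1), ([13, 12, 8, 12, 9, 2, 10, 8, 12, 2, 8, 1, 8, 2, 7, 1, 9, 9], 1), ([13, 7, 13, 7, 10, 10, 8], 1), ([13, 10, 7, 9, 13, 1, 9, 7, 10, 7,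 2, 8, 10, 10], 1), ([13, 9, 7, 10, 13, 9, 8, 10, 10, 7, 10], 1), ([13, 8, 2, 8, 1, 7, 2, 7, 1, 13, 9, 7, 10, 8, 10, 7, 9, 8], 1), ([13, 1, 1, 13, 9, 7, 10, 2, 8, 1, 8, 2, 7, 9, 2, 10, 10, 2], 1), ([13, 9, 13, 9, 7, 7, 10, 10, 7, 9, 8], 1), ([13, 1, 9, 9, 1, 10, 1, 13, 9, 7, 10, 2, 8, 1, 8, 2, 7, 2], 1), ([13, 2, 7, 1, 13, 2, 8, 1, 13, 2, 7, 1, 9, 8, 10, 1, 10, 7, 9, 1, 1, 1], 1), ([11, 13, 10, 2, 7, 13, 2, 13, 2, 8, 2, 8, 1, 7, 2, 7, 1, 9, 7, 10, 7, 9, 1, 10, 10, 2], 1), ([11, 11, 2, 2, 2, 2], 1), ([10, 12, 9, 11], 1), ([12, 1, 11, 2, 2, 2], 1), ([11, 8, 2, 8, 1, 7, 2, 7, 1], 5), ([11, 8, 2, 8, 1, 7, 2, 7, 1, 11, 2, 8, 1, 8, 2, 7, 1, 7, 11, 8, 2, 8, 1, 7, 2, 7, 2], 1), ([4, 9, 1, 10], 1), ([6, 9, 3, 10], 1)]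

/-- relations with the last generator -/
def RLZ : List (List Nat × Nat) := [([14, 14, 2, 2], 1), ([15, 1, 14, 1, 1, 1], 1), ([15, 3, 14, 1, 1, 9, 1, 10], 1), ([15, 5, 14, 1, 9, 9, 2, 10, 10, 2], 1), ([15, 7, 14, 2, 10, 7, 2, 9, 7, 10, 1, 9, 1], 1), ([10, 10, 1, 9, 9, 14, 10, 10, 1, 9, 9, 14, 10, 10, 1, 9, 9, 14, 1, 1], 1), ([8, 12, 2, 8, 2, 9, 8, 12, 14, 2, 11, 10, 8, 2, 9, 8, 12, 9, 8, 10, 2, 8, 1, 10, 1, 9, 1, 10, 14, 2, 8, 12, 1, 8, 10, 1, 8, 12, 2, 8, 1, 7, 10, 10, 8, 10, 2, 10, 10, 14], 1), ([15, 12, 15, 2, 8, 12, 9, 2, 10, 8, 12, 9, 2, 10, 8, 10, 1, 10, 10, 1, 10, 14, 11, 14, 1, 9, 2, 9, 9, 2, 9, 9, 8, 1, 7, 9, 7, 10, 11, 7, 10, 10, 11, 7, 9, 7], 1), ([14, 9, 1, 10, 2, 10, 10, 2, 10, 7, 9, 9, 7, 9, 11, 7, 10, 10, 11,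 7, 9, 7, 14, 1, 10, 10, 2, 7, 9, 8, 9, 2, 8, 8, 11, 7, 1, 7, 2, 7, 10, 12, 15, 8, 10, 8, 12, 9, 9, 8, 12, 10, 8, 10, 10, 8, 9, 1, 9, 9, 1, 9, 2, 10, 15, 12, 1, 7, 9, 7, 2, 8, 12, 1, 10, 2, 7, 2, 10, 10, 2, 9, 2], 1), ([14, 9, 11, 14, 9, 9, 2, 10, 2, 9, 9, 8, 1, 7, 2, 8, 11, 8, 9, 9, 2, 7, 9, 15, 12, 10, 15, 8, 2, 7, 9, 8, 12, 7, 2, 7, 1, 7, 10, 2, 10, 2, 9], 1)]

/-- all relations -/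
def RLG : List (List Nat × Nat) := RLH ++ RLZ

end Cfsg.Agent.LyG
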