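import Cfsg.Agent.CosetEnum.Ly.TData

/-! Permutation table (generated data, owner: helper66). -/

set_option autoImplicit false
set_option maxRecDepth 1000000

namespace Cfsg.Agent.CosetEnum.LYT

theorem r8 : allR (tst P iv lets RL) 7200 900 = true := by decide +kernel

theorem o8 : allR (orbC P lets [] 0 19530) 7200 900 = true := by decide +kernel

theorem r9 : allR (tst P iv lets RL) 8100 900 = true := by decide +kernel

theorem o9 : allR (orbC P lets [] 0 19530) 8100 900 = true := by decide +kernel

end Cfsg.Agent.CosetEnum.LYT
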