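import Cfsg.Agent.CosetEnum.Level
import Cfsg.Agent.CosetEnum.Ly.TR0
import Cfsg.Agent.CosetEnum.Ly.TR1
import Cfsg.Agent.CosetEnum.Ly.TR2
import Cfsg.Agent.CosetEnum.Ly.TR3
import Cfsg.Agent.CosetEnum.Ly.TR4
import Cfsg.Agent.CosetEnum.Ly.TR5
import Cfsg.Agent.CosetEnum.Ly.TR6
import Cfsg.Agent.CosetEnum.Ly.TR7
import Cfsg.Agent.CosetEnum.Ly.TR8
import Cfsg.Agent.CosetEnum.Ly.TR9
import Cfsg.Agent.CosetEnum.Ly.TR10

/-! Permutation table (generated data, owner: helper66). -/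

set_option autoImplicit false
set_option maxRecDepth 1000000

namespace Cfsg.Agent.CosetEnum.LYT

theorem st : letsB 13 iv lets RL = true := by decide +kernel

theorem tabOK : TabOK P 13 iv lets RL := ⟨st, (((((((((((((((((((((Cov.of r0 rfl).trans (Cov.of r1 rfl)).trans (Cov.of r2 rfl)).trans (Cov.of r3 rfl)).trans (Cov.of r4 rfl)).trans (Cov.of r5 rfl)).trans (Cov.of r6 rfl)).trans (Cov.of r7 rfl)).trans (Cov.of r8 rfl)).trans (Cov.of r9 rfl)).trans (Cov.of r10 rfl)).trans (Cov.of r11 rfl)).trans (Cov.of r12 rfl)).trans (Cov.of r13 rfl)).trans (Cov.of r14 rfl)).trans (Cov.of r15 rfl)).trans (Cov.of r16 rfl)).trans (Cov.of r17 rfl)).trans (Cov.of r18 rfl)).trans (Cov.of r19 rfl)).trans (Cov.of r20 rfl)).trans (Cov.of r21 rfl)⟩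

theorem covO : Cov (orbC P lets [] 0 P.m) 0 P.m := (((((((((((((((((((((Cov.of o0 rfl).trans (Cov.of o1 rfl)).trans (Cov.of o2 rfl)).trans (Cov.of o3 rfl)).trans (Cov.of o4 rfl)).trans (Cov.of o5 rfl)).trans (Cov.of o6 rfl)).trans (Cov.of o7 rfl)).trans (Cov.of o8 rfl)).trans (Cov.of o9 rfl)).trans (Cov.of o10 rfl)).trans (Cov.of o11 rfl)).trans (Cov.of o12 rfl)).trans (Cov.of o13 rfl)).trans (Cov.of o14 rfl)).trans (Cov.of o15 rfl)).trans (Cov.of o16 rfl)).trans (Cov.of o17 rfl)).trans (Cov.of o18 rfl)).trans (Cov.of o19 rfl)).trans (Cov.of o20 rfl)).trans (Cov.of o21 rfl)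

end Cfsg.Agent.CosetEnum.LYT
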