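import Cfsg.Agent.CosetEnum.Rename
import Cfsg.Agent.CosetEnum.Level
import Cfsg.Agent.CosetEnum.Ly.Rels
import Cfsg.Agent.CosetEnum.Ly.A
import Cfsg.Agent.CosetEnum.Ly.B
import Cfsg.Agent.CosetEnum.Ly.P
import Cfsg.Agent.CosetEnum.Ly.H
import Cfsg.Agent.CosetEnum.Ly.T
import Cfsg.Agent.CosetEnum.Ly.X

/-!
`G₂(5)` as a presented group (owner: helper66).
-/

set_option autoImplicit false
set_option maxRecDepth 1000000

namespace Cfsg.Agent.LyG

open MulAction Cfsg.Agent.CosetEnum

section

variable {G : Type*} [Group G] {P : Par} [MulAction G (Fin P.m)] {g : ℕ → G} {lets : List ℕ}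

theorem chain_base [Finite G] (h : Acts G P g lets) {ls : List (ℕ × List ℕ)} {F : List ℕ}
    (hc : chainB P lets ls F = true) :
    (ls.map fun p => p.2.length).prod *
      Nat.card (fixF (P := P) (Subgroup.closure (g '' {x | x ∈ lets})) ((ls.map Prod.fst).reverse ++ F)) ≤
      Nat.card (fixF (P := P) (Subgroup.closure (g '' {x | x ∈ lets})) F) := by
  induction ls generalizing F with
  | nil => simp
  | cons p ls ih =>
    have hc' : @Bool.rec (fun _ => Bool) (@Bool.rec (fun _ => Bool) false (chainB P lets ls (p.1 :: F))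
      (lvB P lets F p.1 p.2 0)) false (Nat.ble P.m p.1) = true := hc
    obtain ⟨h1, h2⟩ := sel_true_right hc'
    obtain ⟨h3, h4⟩ := sel_true_left h2
    have hb := ble_false h1
    obtain ⟨S, hS, hS'⟩ := lvB_sound (b := ⟨p.1, hb⟩) h h3
    have h5 := ih h4
    set K := Subgroup.closure (g '' {x | x ∈ lets}) with hK
    set b : Fin P.m := ⟨p.1, hb⟩ with hbd
    have h6 : Nat.card (fixF (P := P) K F) =
        (MulAction.orbit (fixF (P := P) K F) b).ncard * Nat.card (fixF (P := P) K (p.1 :: F)) := by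
      have h1 := (MulAction.stabilizer (fixF (P := P) K F) b).card_mul_index
      rw [MulAction.index_stabilizer] at h1
      have h2 : Nat.card (MulAction.stabilizer (fixF (P := P) K F) b) = Nat.card (fixF (P := P) K (p.1 :: F)) := by
        apply Nat.card_congr
        refine ⟨fun k => ⟨(k : fixF (P := P) K F), ?_⟩, fun k => ⟨⟨k, ?_⟩, ?_⟩, fun k => rfl, fun k => rfl⟩
        · refine ⟨(k : fixF (P := P) K F).2.1, fun c hc => ?_⟩
          rcases List.mem_cons.1 hc with hc | hc
          · have : c = b := Fin.ext hc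
            rw [this]
            exact k.2
          · exact (k : fixF (P := P) K F).2.2 c hc
        · exact ⟨k.2.1, fun c hc => k.2.2 c (List.mem_cons_of_mem _ hc)⟩
        · exact k.2.2 b (by simp [hbd])
      rw [← h1, h2, mul_comm]
    have h7 : S.card ≤ (MulAction.orbit (fixF (P := P) K F) b).ncard := by
      rw [← Set.ncard_coe_finset]
      apply Set.ncard_le_ncard _ (Set.toFinite _)
      intro j hj
      obtain ⟨_, k, hk, hkb, hkF⟩ := hS' j hj
      exact ⟨⟨k, hk, hkF⟩, hkb⟩
    rw [List.map_cons, List.prod_cons, h6, ← hS, List.map_cons, List.reverse_cons, List.append_assoc, List.singleton_append,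
      mul_assoc]
    exact Nat.mul_le_mul h7 h5

end

/-- the presented group -/
abbrev QA : Type := QG 13 ivH RLH

abbrev qa : ℕ → QA := qg 13 ivH RLH

theorem UA : Univ qa 13 ivH RLH := univ_qg _ _ _

/-- order of the letters adapted to the enumeration -/
def pl9 : List ℕ := [1, 2, 9, 10, 7, 8, 11, 12, 13]

theorem cl_le {G : Type} [Group G] {g : ℕ → G} (hg : Good g 13 ivH RLH) : Cl g 13 ≤ ClL g pl9 := by
  have m : ∀ {x : ℕ}, pl9.contains x = true → g x ∈ ClL g pl9 := fun h => mem_ClL g (by simpa using h)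
  have i4 : g 4 = (g 3)⁻¹ := hg.inv 3
  have i6 : g 6 = (g 5)⁻¹ := hg.inv 5
  have r3 := hg.rel ([4, 9, 1, 10], 1) (by decide +kernel)
  have r5 := hg.rel ([6, 9, 3, 10], 1) (by decide +kernel)
  simp only [pow_one, List.map_cons, List.map_nil, List.prod_cons, List.prod_nil, mul_one] at r3 r5
  have m3 : g 3 ∈ ClL g pl9 := by
    rw [i4, inv_mul_eq_one] at r3
    rw [r3]
    exact mul_mem (m (by decide)) (mul_mem (m (by decide)) (m (by decide)))
  have m5 : g 5 ∈ ClL g pl9 := by
    rw [i6, inv_mul_eq_one] at r5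
    rw [r5]
    exact mul_mem (m (by decide)) (mul_mem m3 (m (by decide)))
  unfold Cl
  rw [Subgroup.closure_le]
  rintro _ ⟨x, hx, rfl⟩
  obtain ⟨h1, h2⟩ := isLet_iff.1 (show isLet 13 x = true from hx)
  have hx' : x = 3 ∨ x = 4 ∨ x = 5 ∨ x = 6 ∨ pl9.contains x = true := by
    interval_cases x <;> simp [pl9]
  rcases hx' with rfl | rfl | rfl | rfl | h
  · exact m3
  · show g 4 ∈ _
    rw [i4]; exact inv_mem m3
  · exact m5
  · show g 6 ∈ _
    rw [i6]; exact inv_mem m5
  · exact m h

theorem bdH {G : Type} [Group G] {g : ℕ → G} (hg : Good g 13 ivH RLH) : Bd (Cl g 13) 5859000000 := by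
  have g9 : Good (ren g 9 pl9) 9 LYH.iv LYH.RL := hg.ren (by decide +kernel)
  have h1 := (Bd.zero (ren g 9 pl9)).cl (M := 8) LYA.cert g9 (by decide +kernel) (by decide +kernel) (by norm_num) rfl
  have h2 := h1.cl (M := 480) LYB.cert g9 (by decide +kernel) (by decide +kernel) (by norm_num) rfl
  have h3 := h2.cl (M := 1500000) LYP.cert g9 (by decide +kernel) (by decide +kernel) (by norm_num) rfl
  have h4 := h3.cl (M := 5859000000) LYH.cert g9 (by decide +kernel) (by decide +kernel) (by norm_num) rfl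
  rw [Cl_ren g (k := 9) (pl := pl9) rfl] at h4
  have h5 : Cl g 13 = ClL g pl9 := by
    apply le_antisymm (cl_le hg)
    unfold ClL Cl
    apply Subgroup.closure_mono
    apply Set.image_mono
    intro x hx
    have hx : x ∈ pl9 := hx
    have h6 : pl9.all (fun x => isLet 13 x) = true := by decide
    exact (List.all_eq_true.1 h6) x hx
  rw [h5]
  exact h4

instance finite_QA : Finite QA := by
  haveI := (bdH UA.good).1
  rw [UA.top] at this
  exact Finite.of_equiv _ (Subgroup.topEquiv (G := QA)).toEquiv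

theorem card_QA_le : Nat.card QA ≤ 5859000000 := by
  have := (bdH UA.good).2
  rwa [UA.top, Nat.card_congr (Subgroup.topEquiv (G := QA)).toEquiv] at this

theorem TH : TabOK LYT.P 13 ivH LYT.lets RLH := by
  have h1 : LYT.iv = ivH := by decide +kernel
  have h2 : LYT.RL = RLH := by decide +kernel
  rw [← h1, ← h2]
  exact LYT.tabOK

/-- letters of the stabiliser -/
def lets8 : List ℕ := [1, 2, 3, 4, 5, 6, 7, 8]

/-- the first point -/
def o0 : Fin LYT.P.m := ⟨0, by show 0 < 19530; norm_num⟩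

theorem fix0 : lets8.all (fun x => Nat.beq (act LYT.P x 0) 0) = true := by decide +kernel

section

variable (A : MulAction QA (Fin LYT.P.m)) (hA : @Acts QA _ LYT.P A qa LYT.lets)

include hA

theorem acts8 : @Acts QA _ LYT.P A qa lets8 := by
  intro x hx i
  apply hA
  have h1 : lets8.all (fun x => LYT.lets.contains x) = true := by decide +kernel
  simpa using (List.all_eq_true.1 h1) x hx

theorem cl8_le : Subgroup.closure (qa '' {x | x ∈ lets8}) ≤ MulAction.stabilizer QA o0 := by
  rw [Subgroup.closure_le]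
  rintro _ ⟨x, hx, rfl⟩
  have h1 := acts8 A hA x hx o0
  have h2 := beq_true ((List.all_eq_true.1 fix0) x hx)
  have h3 : (qa x)⁻¹ • o0 = o0 := Fin.ext (h1.trans h2)
  show qa x • o0 = o0
  rw [inv_smul_eq_iff] at h3
  exact h3.symm

theorem c8_ge : 300000 * Nat.card (fixF (P := LYT.P) (Subgroup.closure (qa '' {x | x ∈ lets8})) [1, 3, 4]) ≤
    Nat.card (Subgroup.closure (qa '' {x | x ∈ lets8})) := by
  have h := chain_base (acts8 A hA) (F := []) LYT.chain
  have h1 : (LYT.ls.map fun p => p.2.length).prod = 300000 := by decide +kernel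
  have h2 : (LYT.ls.map Prod.fst).reverse ++ [] = [1, 3, 4] := by decide +kernel
  rw [h1, h2] at h
  refine h.trans ?_
  exact Nat.card_mono (Set.toFinite _) (fun x hx => hx.1)

theorem trans19530 : (orbit QA o0).ncard = 19530 := by
  have hinv : ∀ x ∈ LYT.lets, ∃ y ∈ LYT.lets, qa y = (qa x)⁻¹ := by
    intro x hx
    exact ⟨ivL ivH x, (TH.iv x hx).1, UA.good.inv x⟩
  have h1 := orbC_sound hA hinv (lo := 0) (hi := LYT.P.m) le_rfl (show 0 < 19530 by norm_num) LYT.covO
  have h2 : orbit (ClL qa LYT.lets) (⟨0, (show 0 < 19530 by norm_num).trans_le le_rfl⟩ : Fin LYT.P.m) = orbit QA o0 := by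
    ext i
    constructor
    · rintro ⟨k, rfl⟩
      exact ⟨k, rfl⟩
    · rintro ⟨k, rfl⟩
      have h3 : ClL qa LYT.lets = ⊤ := by
        rw [← UA.top]
        unfold ClL Cl
        congr 2
        ext x
        exact TH.mem_iff
      exact ⟨⟨k, by rw [h3]; trivial⟩, rfl⟩
  rw [← h2, h1]
  have h3 : {i : Fin LYT.P.m | 0 ≤ (i : ℕ) ∧ (i : ℕ) < LYT.P.m} = Set.univ := by
    ext i
    simp
  rw [h3, Set.ncard_univ, Nat.card_eq_fintype_card, Fintype.card_fin]
  rfl

theorem orders : Nat.card QA = 5859000000 ∧ Nat.card (Subgroup.closure (qa '' {x | x ∈ lets8})) = 300000 ∧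
    Nat.card (stabilizer QA o0) = 300000 := by
  have h1 := (stabilizer QA o0).card_mul_index
  rw [index_stabilizer, trans19530 A hA] at h1
  have h2 := card_QA_le
  have h3 := c8_ge A hA
  have h4 : 1 ≤ Nat.card (fixF (P := LYT.P) (Subgroup.closure (qa '' {x | x ∈ lets8})) [1, 3, 4]) := Nat.card_pos
  have h5 : Nat.card (Subgroup.closure (qa '' {x | x ∈ lets8})) ≤ Nat.card (stabilizer QA o0) :=
    Subgroup.card_le_of_le (cl8_le A hA)
  refine ⟨?_, ?_, ?_⟩ <;> omega

theorem stab0 : stabilizer QA o0 = Cl qa 8 := by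
  obtain ⟨_, h2, h3⟩ := orders A hA
  have h4 := Subgroup.eq_of_le_of_card_ge (cl8_le A hA) (by rw [h2, h3])
  rw [← h4]
  unfold Cl
  congr 2
  ext x
  simp only [Set.mem_ofPred_eq, isLet_iff, lets8, List.mem_cons, List.not_mem_nil, or_false]
  omega

theorem base_triv {k : QA} (h0 : k • o0 = o0) (h1 : ∀ c : Fin LYT.P.m, (c : ℕ) ∈ [1, 3, 4] → k • c = c) : k = 1 := by
  obtain ⟨_, h2, h3⟩ := orders A hA
  have h4 := Subgroup.eq_of_le_of_card_ge (cl8_le A hA) (by rw [h2, h3])
  have h5 := c8_ge A hA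
  rw [h2] at h5
  have h6 : Nat.card (fixF (P := LYT.P) (Subgroup.closure (qa '' {x | x ∈ lets8})) [1, 3, 4]) ≤ 1 := by omega
  have h7 : k ∈ fixF (P := LYT.P) (Subgroup.closure (qa '' {x | x ∈ lets8})) [1, 3, 4] := ⟨by rw [h4]; exact h0, h1⟩
  have h8 : Subsingleton (fixF (P := LYT.P) (Subgroup.closure (qa '' {x | x ∈ lets8})) [1, 3, 4]) :=
    (Finite.card_le_one_iff_subsingleton.1 h6)
  have h9 := Subsingleton.elim (⟨k, h7⟩ : fixF (P := LYT.P) (Subgroup.closure (qa '' {x | x ∈ lets8})) [1, 3, 4]) 1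
  exact congrArg Subtype.val h9

end

theorem card_QA : Nat.card QA = 5859000000 := by
  obtain ⟨A, hA, _⟩ := TH.exists_action UA
  exact (orders A hA).1

/-- two words are equal on the base points -/
noncomputable def eqB (u v : List ℕ) : Bool :=
  (wOK 13 u && wOK 13 v) && [0, 1, 3, 4].all (fun i => Nat.beq (actW LYT.P u i) (actW LYT.P v i))

theorem eqA {u v : List ℕ} (h : eqB u v = true) : (u.map qa).prod = (v.map qa).prod := by
  unfold eqB at h
  simp only [Bool.and_eq_true] at h
  obtain ⟨⟨hu, hv⟩, h⟩ := h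
  obtain ⟨A, hA, _⟩ := TH.exists_action UA
  have hl : ∀ u, wOK 13 u = true → ∀ x ∈ u, x ∈ LYT.lets := by
    intro u hu x hx
    simp only [wOK, List.all_eq_true] at hu
    exact TH.mem_iff.2 (hu x hx)
  have h0 : ∀ i : Fin LYT.P.m, (i : ℕ) ∈ [0, 1, 3, 4] →
      val (fun x => (qa x)⁻¹) u • i = val (fun x => (qa x)⁻¹) v • i := by
    intro i hi
    apply Fin.ext
    rw [hA.word (hl u hu), hA.word (hl v hv)]
    exact beq_true ((List.all_eq_true.1 h) i hi)
  have h1 : (val (fun x => (qa x)⁻¹) v)⁻¹ * val (fun x => (qa x)⁻¹) u = 1 := by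
    apply base_triv A hA
    · rw [mul_smul, h0 o0 (by simp [o0]), inv_smul_smul]
    · intro c hc
      rw [mul_smul, h0 c (by simp at hc ⊢; omega), inv_smul_smul]
  have h2 : val (fun x => (qa x)⁻¹) u = val (fun x => (qa x)⁻¹) v := (inv_mul_eq_one.1 h1).symm
  rw [val_inv, val_inv] at h2
  exact inv_injective h2

end Cfsg.Agent.LyG
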