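import Cfsg.Agent.CosetEnum.Ly.Cover
import Cfsg.Agent.CosetEnum.Ly.CD1

/-! Coverage of node 1 (generated, owner: helper66). -/

set_option autoImplicit false
set_option maxRecDepth 1000000

namespace Cfsg.Agent.LyG

open Cfsg.Agent.CosetEnum

theorem v1_0 : Nat.beq (vis0 LYT.P st1) mk1_0 = true := by decide +kernel

theorem g1_0 : bl1_0.all (fun b => gens1.contains b.1) = true := by decide +kernel

theorem c1_0 : covB LYT.P mk1_1 bl1_0 mk1_0 = true := by decide +kernel

theorem g1_1 : bl1_1.all (fun b => gens1.contains b.1) = true := by decide +kernel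

theorem c1_1 : covB LYT.P mk1_2 bl1_1 mk1_1 = true := by decide +kernel

theorem g1_2 : bl1_2.all (fun b => gens1.contains b.1) = true := by decide +kernel

theorem c1_2 : covB LYT.P mk1_3 bl1_2 mk1_2 = true := by decide +kernel

theorem g1_3 : bl1_3.all (fun b => gens1.contains b.1) = true := by decide +kernel

theorem c1_3 : covB LYT.P mk1_4 bl1_3 mk1_3 = true := by decide +kernel

theorem g1_4 : bl1_4.all (fun b => gens1.contains b.1) = true := by decide +kernel

theorem c1_4 : covB LYT.P mk1_5 bl1_4 mk1_4 = true := by decide +kernel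

theorem g1_5 : bl1_5.all (fun b => gens1.contains b.1) = true := by decide +kernel

theorem c1_5 : covB LYT.P mk1_6 bl1_5 mk1_5 = true := by decide +kernel

theorem g1_6 : bl1_6.all (fun b => gens1.contains b.1) = true := by decide +kernel

theorem c1_6 : covB LYT.P mk1_7 bl1_6 mk1_6 = true := by decide +kernel

theorem g1_7 : bl1_7.all (fun b => gens1.contains b.1) = true := by decide +kernel

theorem c1_7 : covB LYT.P mk1_8 bl1_7 mk1_7 = true := by decide +kernel

theorem g1_8 : bl1_8.all (fun b => gens1.contains b.1) = true := by decide +kernel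

theorem c1_8 : covB LYT.P mk1_9 bl1_8 mk1_8 = true := by decide +kernel

theorem g1_9 : bl1_9.all (fun b => gens1.contains b.1) = true := by decide +kernel

theorem c1_9 : covB LYT.P mk1_10 bl1_9 mk1_9 = true := by decide +kernel

theorem g1_10 : bl1_10.all (fun b => gens1.contains b.1) = true := by decide +kernel

theorem c1_10 : covB LYT.P mk1_11 bl1_10 mk1_10 = true := by decide +kernel

theorem g1_11 : bl1_11.all (fun b => gens1.contains b.1) = true := by decide +kernel

theorem c1_11 : covB LYT.P mk1_12 bl1_11 mk1_11 = true := by decide +kernel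

theorem g1_12 : bl1_12.all (fun b => gens1.contains b.1) = true := by decide +kernel

theorem c1_12 : covB LYT.P mk1_13 bl1_12 mk1_12 = true := by decide +kernel

theorem g1_13 : bl1_13.all (fun b => gens1.contains b.1) = true := by decide +kernel

theorem c1_13 : covB LYT.P mk1_14 bl1_13 mk1_13 = true := by decide +kernel

theorem cov1 : CovAll st1 gens1 := by
  intro V hs h
  rw [beq_true v1_0] at h
  replace h := piece hs g1_0 c1_0 h
  replace h := piece hs g1_1 c1_1 h
  replace h := piece hs g1_2 c1_2 h
  replace h := piece hs g1_3 c1_3 h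
  replace h := piece hs g1_4 c1_4 h
  replace h := piece hs g1_5 c1_5 h
  replace h := piece hs g1_6 c1_6 h
  replace h := piece hs g1_7 c1_7 h
  replace h := piece hs g1_8 c1_8 h
  replace h := piece hs g1_9 c1_9 h
  replace h := piece hs g1_10 c1_10 h
  replace h := piece hs g1_11 c1_11 h
  replace h := piece hs g1_12 c1_12 h
  replace h := piece hs g1_13 c1_13 h
  intro i hi
  apply h
  show (2 ^ 19530 - 1).testBit i = true
  rw [Nat.testBit_two_pow_sub_one]
  exact decide_eq_true hi

end Cfsg.Agent.LyG
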