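import Cfsg.Agent.CosetEnum.Ly.Cover
import Cfsg.Agent.CosetEnum.Ly.CD2

/-! Coverage of node 2 (generated, owner: helper66). -/

set_option autoImplicit false
set_option maxRecDepth 1000000

namespace Cfsg.Agent.LyG

open Cfsg.Agent.CosetEnum

theorem v2_0 : Nat.beq (vis0 LYT.P st2) mk2_0 = true := by decide +kernel

theorem g2_0 : bl2_0.all (fun b => gens2.contains b.1) = true := by decide +kernel

theorem c2_0 : covB LYT.P mk2_1 bl2_0 mk2_0 = true := by decide +kernel

theorem g2_1 : bl2_1.all (fun b => gens2.contains b.1) = true := by decide +kernel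

theorem c2_1 : covB LYT.P mk2_2 bl2_1 mk2_1 = true := by decide +kernel

theorem g2_2 : bl2_2.all (fun b => gens2.contains b.1) = true := by decide +kernel

theorem c2_2 : covB LYT.P mk2_3 bl2_2 mk2_2 = true := by decide +kernel

theorem g2_3 : bl2_3.all (fun b => gens2.contains b.1) = true := by decide +kernel

theorem c2_3 : covB LYT.P mk2_4 bl2_3 mk2_3 = true := by decide +kernel

theorem g2_4 : bl2_4.all (fun b => gens2.contains b.1) = true := by decide +kernel

theorem c2_4 : covB LYT.P mk2_5 bl2_4 mk2_4 = true := by decide +kernel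

theorem g2_5 : bl2_5.all (fun b => gens2.contains b.1) = true := by decide +kernel

theorem c2_5 : covB LYT.P mk2_6 bl2_5 mk2_5 = true := by decide +kernel

theorem g2_6 : bl2_6.all (fun b => gens2.contains b.1) = true := by decide +kernel

theorem c2_6 : covB LYT.P mk2_7 bl2_6 mk2_6 = true := by decide +kernel

theorem g2_7 : bl2_7.all (fun b => gens2.contains b.1) = true := by decide +kernel

theorem c2_7 : covB LYT.P mk2_8 bl2_7 mk2_7 = true := by decide +kernel

theorem g2_8 : bl2_8.all (fun b => gens2.contains b.1) = true := by decide +kernel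

theorem c2_8 : covB LYT.P mk2_9 bl2_8 mk2_8 = true := by decide +kernel

theorem g2_9 : bl2_9.all (fun b => gens2.contains b.1) = true := by decide +kernel

theorem c2_9 : covB LYT.P mk2_10 bl2_9 mk2_9 = true := by decide +kernel

theorem g2_10 : bl2_10.all (fun b => gens2.contains b.1) = true := by decide +kernel

theorem c2_10 : covB LYT.P mk2_11 bl2_10 mk2_10 = true := by decide +kernel

theorem g2_11 : bl2_11.all (fun b => gens2.contains b.1) = true := by decide +kernel

theorem c2_11 : covB LYT.P mk2_12 bl2_11 mk2_11 = true := by decide +kernel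

theorem g2_12 : bl2_12.all (fun b => gens2.contains b.1) = true := by decide +kernel

theorem c2_12 : covB LYT.P mk2_13 bl2_12 mk2_12 = true := by decide +kernel

theorem g2_13 : bl2_13.all (fun b => gens2.contains b.1) = true := by decide +kernel

theorem c2_13 : covB LYT.P mk2_14 bl2_13 mk2_13 = true := by decide +kernel

theorem cov2 : CovAll st2 gens2 := by
  intro V hs h
  rw [beq_true v2_0] at h
  replace h := piece hs g2_0 c2_0 h
  replace h := piece hs g2_1 c2_1 h
  replace h := piece hs g2_2 c2_2 h
  replace h := piece hs g2_3 c2_3 h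
  replace h := piece hs g2_4 c2_4 h
  replace h := piece hs g2_5 c2_5 h
  replace h := piece hs g2_6 c2_6 h
  replace h := piece hs g2_7 c2_7 h
  replace h := piece hs g2_8 c2_8 h
  replace h := piece hs g2_9 c2_9 h
  replace h := piece hs g2_10 c2_10 h
  replace h := piece hs g2_11 c2_11 h
  replace h := piece hs g2_12 c2_12 h
  replace h := piece hs g2_13 c2_13 h
  intro i hi
  apply h
  show (2 ^ 19530 - 1).testBit i = true
  rw [Nat.testBit_two_pow_sub_one]
  exact decide_eq_true hi

end Cfsg.Agent.LyG
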