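import Cfsg.Agent.CosetEnum.Ly.Cover
import Cfsg.Agent.CosetEnum.Ly.CD3

/-! Coverage of node 3 (generated, owner: helper66). -/

set_option autoImplicit false
set_option maxRecDepth 1000000

namespace Cfsg.Agent.LyG

open Cfsg.Agent.CosetEnum

theorem v3_0 : Nat.beq (vis0 LYT.P st3) mk3_0 = true := by decide +kernel

theorem g3_0 : bl3_0.all (fun b => gens3.contains b.1) = true := by decide +kernel

theorem c3_0 : covB LYT.P mk3_1 bl3_0 mk3_0 = true := by decide +kernel

theorem g3_1 : bl3_1.all (fun b => gens3.contains b.1) = true := by decide +kernel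

theorem c3_1 : covB LYT.P mk3_2 bl3_1 mk3_1 = true := by decide +kernel

theorem g3_2 : bl3_2.all (fun b => gens3.contains b.1) = true := by decide +kernel

theorem c3_2 : covB LYT.P mk3_3 bl3_2 mk3_2 = true := by decide +kernel

theorem g3_3 : bl3_3.all (fun b => gens3.contains b.1) = true := by decide +kernel

theorem c3_3 : covB LYT.P mk3_4 bl3_3 mk3_3 = true := by decide +kernel

theorem g3_4 : bl3_4.all (fun b => gens3.contains b.1) = true := by decide +kernel

theorem c3_4 : covB LYT.P mk3_5 bl3_4 mk3_4 = true := by decide +kernel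

theorem g3_5 : bl3_5.all (fun b => gens3.contains b.1) = true := by decide +kernel

theorem c3_5 : covB LYT.P mk3_6 bl3_5 mk3_5 = true := by decide +kernel

theorem g3_6 : bl3_6.all (fun b => gens3.contains b.1) = true := by decide +kernel

theorem c3_6 : covB LYT.P mk3_7 bl3_6 mk3_6 = true := by decide +kernel

theorem g3_7 : bl3_7.all (fun b => gens3.contains b.1) = true := by decide +kernel

theorem c3_7 : covB LYT.P mk3_8 bl3_7 mk3_7 = true := by decide +kernel

theorem g3_8 : bl3_8.all (fun b => gens3.contains b.1) = true := by decide +kernel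

theorem c3_8 : covB LYT.P mk3_9 bl3_8 mk3_8 = true := by decide +kernel

theorem g3_9 : bl3_9.all (fun b => gens3.contains b.1) = true := by decide +kernel

theorem c3_9 : covB LYT.P mk3_10 bl3_9 mk3_9 = true := by decide +kernel

theorem g3_10 : bl3_10.all (fun b => gens3.contains b.1) = true := by decide +kernel

theorem c3_10 : covB LYT.P mk3_11 bl3_10 mk3_10 = true := by decide +kernel

theorem g3_11 : bl3_11.all (fun b => gens3.contains b.1) = true := by decide +kernel

theorem c3_11 : covB LYT.P mk3_12 bl3_11 mk3_11 = true := by decide +kernel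

theorem g3_12 : bl3_12.all (fun b => gens3.contains b.1) = true := by decide +kernel

theorem c3_12 : covB LYT.P mk3_13 bl3_12 mk3_12 = true := by decide +kernel

theorem cov3 : CovAll st3 gens3 := by
  intro V hs h
  rw [beq_true v3_0] at h
  replace h := piece hs g3_0 c3_0 h
  replace h := piece hs g3_1 c3_1 h
  replace h := piece hs g3_2 c3_2 h
  replace h := piece hs g3_3 c3_3 h
  replace h := piece hs g3_4 c3_4 h
  replace h := piece hs g3_5 c3_5 h
  replace h := piece hs g3_6 c3_6 h
  replace h := piece hs g3_7 c3_7 h
  replace h := piece hs g3_8 c3_8 h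
  replace h := piece hs g3_9 c3_9 h
  replace h := piece hs g3_10 c3_10 h
  replace h := piece hs g3_11 c3_11 h
  replace h := piece hs g3_12 c3_12 h
  intro i hi
  apply h
  show (2 ^ 19530 - 1).testBit i = true
  rw [Nat.testBit_two_pow_sub_one]
  exact decide_eq_true hi

end Cfsg.Agent.LyG
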