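import Cfsg.Agent.CosetEnum.Ly.Cover
import Cfsg.Agent.CosetEnum.Ly.CD4

/-! Coverage of node 4 (generated, owner: helper66). -/

set_option autoImplicit false
set_option maxRecDepth 1000000

namespace Cfsg.Agent.LyG

open Cfsg.Agent.CosetEnum

theorem v4_0 : Nat.beq (vis0 LYT.P st4) mk4_0 = true := by decide +kernel

theorem g4_0 : bl4_0.all (fun b => gens4.contains b.1) = true := by decide +kernel

theorem c4_0 : covB LYT.P mk4_1 bl4_0 mk4_0 = true := by decide +kernel

theorem g4_1 : bl4_1.all (fun b => gens4.contains b.1) = true := by decide +kernel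

theorem c4_1 : covB LYT.P mk4_2 bl4_1 mk4_1 = true := by decide +kernel

theorem g4_2 : bl4_2.all (fun b => gens4.contains b.1) = true := by decide +kernel

theorem c4_2 : covB LYT.P mk4_3 bl4_2 mk4_2 = true := by decide +kernel

theorem g4_3 : bl4_3.all (fun b => gens4.contains b.1) = true := by decide +kernel

theorem c4_3 : covB LYT.P mk4_4 bl4_3 mk4_3 = true := by decide +kernel

theorem g4_4 : bl4_4.all (fun b => gens4.contains b.1) = true := by decide +kernel

theorem c4_4 : covB LYT.P mk4_5 bl4_4 mk4_4 = true := by decide +kernel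

theorem g4_5 : bl4_5.all (fun b => gens4.contains b.1) = true := by decide +kernel

theorem c4_5 : covB LYT.P mk4_6 bl4_5 mk4_5 = true := by decide +kernel

theorem g4_6 : bl4_6.all (fun b => gens4.contains b.1) = true := by decide +kernel

theorem c4_6 : covB LYT.P mk4_7 bl4_6 mk4_6 = true := by decide +kernel

theorem g4_7 : bl4_7.all (fun b => gens4.contains b.1) = true := by decide +kernel

theorem c4_7 : covB LYT.P mk4_8 bl4_7 mk4_7 = true := by decide +kernel

theorem g4_8 : bl4_8.all (fun b => gens4.contains b.1) = true := by decide +kernel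

theorem c4_8 : covB LYT.P mk4_9 bl4_8 mk4_8 = true := by decide +kernel

theorem g4_9 : bl4_9.all (fun b => gens4.contains b.1) = true := by decide +kernel

theorem c4_9 : covB LYT.P mk4_10 bl4_9 mk4_9 = true := by decide +kernel

theorem g4_10 : bl4_10.all (fun b => gens4.contains b.1) = true := by decide +kernel

theorem c4_10 : covB LYT.P mk4_11 bl4_10 mk4_10 = true := by decide +kernel

theorem g4_11 : bl4_11.all (fun b => gens4.contains b.1) = true := by decide +kernel

theorem c4_11 : covB LYT.P mk4_12 bl4_11 mk4_11 = true := by decide +kernel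

theorem g4_12 : bl4_12.all (fun b => gens4.contains b.1) = true := by decide +kernel

theorem c4_12 : covB LYT.P mk4_13 bl4_12 mk4_12 = true := by decide +kernel

theorem g4_13 : bl4_13.all (fun b => gens4.contains b.1) = true := by decide +kernel

theorem c4_13 : covB LYT.P mk4_14 bl4_13 mk4_13 = true := by decide +kernel

theorem cov4 : CovAll st4 gens4 := by
  intro V hs h
  rw [beq_true v4_0] at h
  replace h := piece hs g4_0 c4_0 h
  replace h := piece hs g4_1 c4_1 h
  replace h := piece hs g4_2 c4_2 h
  replace h := piece hs g4_3 c4_3 h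
  replace h := piece hs g4_4 c4_4 h
  replace h := piece hs g4_5 c4_5 h
  replace h := piece hs g4_6 c4_6 h
  replace h := piece hs g4_7 c4_7 h
  replace h := piece hs g4_8 c4_8 h
  replace h := piece hs g4_9 c4_9 h
  replace h := piece hs g4_10 c4_10 h
  replace h := piece hs g4_11 c4_11 h
  replace h := piece hs g4_12 c4_12 h
  replace h := piece hs g4_13 c4_13 h
  intro i hi
  apply h
  show (2 ^ 19530 - 1).testBit i = true
  rw [Nat.testBit_two_pow_sub_one]
  exact decide_eq_true hi

end Cfsg.Agent.LyG
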