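import Cfsg.Agent.KMat.PGrp
import Cfsg.Agent.CosetEnum.Ly.Rels
import Cfsg.Agent.CosetEnum.Ly.MatD0
import Cfsg.Agent.CosetEnum.Ly.MatD1

/-!
The matrices of degree 111 over the field of order 5 (owner: helper66).

Letters: 1 a, 2 A, 3 m, 4 M, 5 n, 6 N, 7 c, 8 C, 9 b, 10 B, 11 d, 12 D, 13 e, 14 z, 15 Z (capitals are inverses)
-/

set_option autoImplicit false
set_option maxRecDepth 1000000

namespace Cfsg.Agent.LyG

open Cfsg.Agent.CosetEnum Cfsg.Agent.KMat

/-- parameters -/
noncomputable def PM : Pm := pmP 111 12 5 3 3277 14 56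

/-- the matrices -/
noncomputable def ms : ℕ → ℕ := selM [0, mt1, mt2, mt3, mt4, mt5, mt6, mt7, mt8, mt9, mt10, mt11, mt12, mt13, mt14, mt15]

/-- the 15 letters -/
def letsM : List ℕ := [1, 2, 3, 4, 5, 6, 7, 8, 9, 10, 11, 12, 13, 14, 15]

theorem stM : letsB 15 ivG letsM RLG = true := by decide +kernel

theorem PM_ok : PM.OK := by
  refine pmP_ok (by norm_num) (by norm_num) (by norm_num) (by norm_num) (by norm_num) (by norm_num) (by norm_num) (by norm_num) ?_
  have h : ∀ x : Fin (2 ^ 12), 3277 * x.1 < 2 ^ (2 * 12) ∧ 3277 * x.1 / 2 ^ 14 = x.1 / 5 := by decide +kernel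
  exact fun x hx => h ⟨x, hx⟩

/-- all matrices are valid -/
theorem mokA : matB PM ms (List.range' 1 15) = true := by decide +kernel

/-- pairs of words to be tested -/
def prsM : List (List ℕ × List ℕ) := (letsM.map fun x => ([x, ivL ivG x], [])) ++ RLG.map fun p => (expand p, [])

end Cfsg.Agent.LyG
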