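import Cfsg.Agent.KMat.PCard
import Cfsg.Agent.CosetEnum.Ly.Mats
import Cfsg.Agent.CosetEnum.Ly.MatD2
import Cfsg.Agent.CosetEnum.Ly.MatD3

/-!
Words of the generators of `p`-subgroups and their relations (owner: helper66).
-/

set_option autoImplicit false
set_option maxRecDepth 1000000

namespace Cfsg.Agent.LyG

open Cfsg.Agent.CosetEnum Cfsg.Agent.KMat

/-- all the matrices -/
noncomputable def ms2 : ℕ → ℕ := selM [0, mt1, mt2, mt3, mt4, mt5, mt6, mt7, mt8, mt9, mt10, mt11, mt12, mt13, mt14, mt15, mt16, mt17, mt18, mt19, mt20, mt21, mt22, mt23, mt24, mt25, mt26, mt27, mt28, mt29, mt30, mt31, mt32, mt33]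

/-- words of the generators, in the letters of the matrices -/
def gw : ℕ → List ℕ
  | 16 => [3, 2, 7, 4, 7, 3, 5, 7, 9, 9, 13, 3, 13, 7, 14, 13, 14, 13, 6, 13]
  | 17 => [2, 8, 3, 8, 3, 8, 5, 10, 11, 7, 6, 13, 2, 13, 14, 10, 11, 8, 6, 13, 10]
  | 18 => [8, 5, 8, 2, 7, 5, 4, 10, 10, 11, 13, 2, 12, 8, 8, 14, 11, 7, 9, 7, 15, 11]
  | 19 => [7, 7, 3, 7, 1, 8, 4, 9, 9, 11, 7, 1, 4, 9, 14, 11, 13, 8, 12, 13, 15]
  | 20 => [1, 4]
  | 21 => [8, 6, 7, 3, 2, 8, 8, 9, 11, 8, 1, 8, 10, 1, 14, 13, 12, 8, 3, 13, 11]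
  | 22 => [7, 5, 4, 7, 5, 2, 7, 10, 11, 7, 5, 13, 8, 1, 14, 11, 14, 11, 14]
  | 23 => [1, 12, 9, 1, 12, 9, 1, 12, 9, 1, 12, 9]
  | 24 => [1, 4, 6, 4, 10]
  | 25 => [2, 6, 9, 14, 10, 1]
  | 26 => [6, 11, 14, 11, 14, 11, 14]
  | 27 => [8, 5, 2, 7, 3, 7, 7, 9, 9, 14, 13, 14, 13, 7, 14, 9, 11, 15, 9]
  | 28 => [1, 7, 2, 7, 3, 6, 7, 2, 11, 7, 13, 1, 3, 8, 14, 11, 7, 13, 14, 13, 14, 13, 7, 10]
  | 29 => [6, 7, 2, 7, 1, 8, 2, 8, 9, 11, 8, 9, 6, 14, 11, 13, 9, 8, 6, 13]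
  | 30 => [8, 5, 8, 3, 2, 8, 2, 8, 10, 11, 13, 1, 3, 13, 8, 14, 11, 13, 15, 7, 14, 13]
  | 31 => [1, 13, 11, 14]
  | 32 => [14, 13, 7]
  | 33 => [5, 15, 13]
  | _ => []

/-- the further matrices -/
def prsW : List (List ℕ × List ℕ) := [([16], [3, 2, 7, 4, 7, 3, 5, 7, 9, 9, 13, 3, 13, 7, 14, 13, 14, 13, 6, 13]), ([17], [2, 8, 3, 8, 3, 8, 5, 10, 11, 7, 6, 13, 2, 13, 14, 10, 11, 8, 6, 13, 10]), ([18], [8, 5, 8, 2, 7, 5, 4, 10, 10, 11, 13, 2, 12, 8, 8, 14, 11, 7, 9, 7, 15, 11]), ([19], [7, 7, 3, 7, 1, 8, 4, 9, 9, 11, 7, 1, 4, 9, 14, 11, 13, 8, 12, 13, 15]), ([20], [1, 4]), ([21], [8, 6, 7, 3, 2, 8, 8, 9, 11, 8, 1, 8, 10, 1, 14, 13, 12, 8, 3, 13, 11]), ([22], [7, 5, 4, 7, 5, 2, 7, 10, 11, 7, 5, 13, 8, 1, 14, 11, 14, 11, 14]), ([23], [1, 12, 9, 1, 12, 9, 1, 12, 9, 1, 12, 9]), ([24], [1, 4, 6, 4, 10]), ([25], [2, 6, 9, 14, 10, 1]), ([26], [6, 11, 14, 11, 14, 11, 14]), ([27], [8, 5, 2, 7, 3, 7, 7, 9,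 9, 14, 13, 14, 13, 7, 14, 9, 11, 15, 9]), ([28], [1, 7, 2, 7, 3, 6, 7, 2, 11, 7, 13, 1, 3, 8, 14, 11, 7, 13, 14, 13, 14, 13, 7, 10]), ([29], [6, 7, 2, 7, 1, 8, 2, 8, 9, 11, 8, 9, 6, 14, 11, 13, 9, 8, 6, 13]), ([30], [8, 5, 8, 3, 2, 8, 2, 8, 10, 11, 13, 1, 3, 13, 8, 14, 11, 13, 15, 7, 14, 13]), ([31], [1, 13, 11, 14]), ([32], [14, 13, 7]), ([33], [5, 15, 13])]

/-- the chain for the prime 3 -/
def prsC3 : List (List ℕ × List ℕ) := [([16, 16, 16], []), ([17, 17, 17], []), ([18, 18, 18], []), ([19, 19, 19], []), ([20, 20, 20], []), ([21, 21, 21], []), ([22, 22, 22, 22, 22, 22, 22, 22, 22], []), ([16, 17], [17, 16]), ([16, 18], [18, 16]), ([17, 18], [18, 17]), ([16, 19], [19, 17]), ([17, 19], [19, 17, 17, 18, 18]), ([18, 19], [19, 16, 16, 17, 18]), ([16, 20], [20, 16]), ([17, 20], [20, 17]), ([18, 20], [20, 18]), ([19, 20], [20, 19]), ([16, 21], [21, 16]), ([17, 21], [21, 17]), ([18, 21], [21, 18]),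 ([19, 21], [21, 16, 16, 17, 17, 18, 18, 19, 20, 20]), ([20, 21], [21, 20]), ([16, 22], [22, 18, 18, 20, 20, 21, 21]), ([17, 22], [22, 16, 16, 17, 18, 18, 20, 21, 21]), ([18, 22], [22, 16, 16, 20, 20, 21, 21]), ([19, 22], [22, 16, 17, 18, 19, 20, 20]), ([20, 22], [22, 20]), ([21, 22], [22, 16])]

/-- the chain for the prime 2 -/
def prsC2 : List (List ℕ × List ℕ) := [([23, 23], []), ([24, 24], []), ([25, 25, 25, 25], []), ([26, 26, 26, 26], []), ([27, 27, 27, 27, 27, 27, 27, 27], []), ([28, 28, 28, 28, 28, 28, 28, 28], []), ([29, 29, 29, 29, 29, 29, 29, 29], []), ([30, 30], []), ([23, 24], [24, 23]), ([23, 25], [25, 23]), ([24, 25], [25, 23, 24]), ([23, 26], [26, 23]), ([24, 26], [26, 24]), ([25, 26], [26, 23, 25]), ([23, 27], [27, 23]), ([24, 27], [27, 23, 24, 25, 26]), ([25, 27], [27, 23, 26]), ([26, 27], [27, 25]), ([23, 28], [28, 23]), ([24, 28], [28, 24, 25, 26]), ([25, 28], [28, 23, 26]),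 ([26, 28], [28, 25]), ([27, 28], [28, 23, 27]), ([23, 29], [29, 23]), ([24, 29], [29, 25, 27, 28]), ([25, 29], [29, 25]), ([26, 29], [29, 23, 26]), ([27, 29], [29, 25, 26, 27]), ([28, 29], [29, 24, 25, 27]), ([23, 30], [30, 23]), ([24, 30], [30, 23, 25, 26, 28, 29]), ([25, 30], [30, 25, 27, 28, 29]), ([26, 30], [30, 24, 29]), ([27, 30], [30, 24, 27, 28, 29]), ([28, 30], [30, 25, 26, 27, 29]), ([29, 30], [30, 23, 26, 28, 29])]

/-- the elements of large prime order -/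
def prsP : List (List ℕ × List ℕ) := [([31, 31, 31, 31, 31, 31, 31, 31, 31, 31, 31, 31, 31, 31, 31, 31, 31, 31, 31, 31, 31, 31, 31, 31, 31, 31, 31, 31, 31, 31, 31, 31, 31, 31, 31, 31, 31], []), ([32, 32, 32, 32, 32, 32, 32, 32, 32, 32, 32, 32, 32, 32, 32, 32, 32, 32, 32, 32, 32, 32, 32, 32, 32, 32, 32, 32, 32, 32, 32, 32, 32, 32, 32, 32, 32, 32, 32, 32, 32, 32, 32, 32, 32, 32, 32, 32, 32, 32, 32, 32, 32, 32, 32, 32, 32, 32, 32, 32, 32, 32, 32, 32, 32, 32, 32], []), ([33, 33, 33, 33, 33, 33, 33, 33, 33, 33, 33], [])]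

/-- all relations -/
def prsG : List (List ℕ × List ℕ) := prsW ++ (prsC3 ++ (prsC2 ++ prsP))

/-- a vector fixed by the first elements of the chain for the prime 3 -/
def fv3 : Nat := 0x2004002001001000000000002000003004003004001002000002003001001004001001000002001004002004000000000002000004003003000000003003001001000001002003001004000002003002001002002000004004002003004004001004003003004003002002001003001002000000001000000000001000001004001004003004000003003004001003003002004002003001002001000004004003000003001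

/-- a vector fixed by the first elements of the chain for the prime 2 -/
def fv2 : Nat := 0x4001000000001000002003002002003000002003001001004002001000003001004000004003004000003004004001002003003002003002000004001001003000004000002004000000000002002003002001000004002000001004001002000003001001002002000001003000002003003003000002003001004003004000002002001003000002002003001003003000001000000000000004002000000000

end Cfsg.Agent.LyG
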