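import Cfsg.Agent.CosetEnum.Ly.Cover

/-!
Index of `H` from the double cosets (owner: helper66).
-/

set_option autoImplicit false
set_option maxRecDepth 1000000

namespace Cfsg.Agent.LyG

open MulAction Cfsg.Agent.CosetEnum

local notation "sel(" c ", " a ", " b ")" => @Bool.rec (fun _ => Bool) b a c

/-- the `k`-th word -/
noncomputable def nthL (gens : List (List ℕ)) : ℕ → List ℕ :=
  @List.rec (List ℕ) (fun _ => ℕ → List ℕ) (fun _ => [])
    (fun a _ ih k => @Nat.rec (fun _ => List ℕ) a (fun k' _ => ih k') k) gens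

/-- action of a word in the words -/
noncomputable def actX (P : Par) (gens : List (List ℕ)) (w : List ℕ) : ℕ → ℕ :=
  @List.rec ℕ (fun _ => ℕ → ℕ) (fun i => i) (fun k _ ih i => forceN (actW P (nthL gens k) i) ih) w

/-- one level of the stabiliser chain -/
noncomputable def lvX (P : Par) (gens : List (List ℕ)) (F : List ℕ) (b : ℕ) (ws : List (List ℕ)) : ℕ → Bool :=
  @List.rec (List ℕ) (fun _ => ℕ → Bool) (fun _ => true)
    (fun w _ ih last => force (actX P gens w b) fun j => sel(Nat.ble last j,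
      sel(allL (fun b' => Nat.beq (actX P gens w b') b') F, ih (Nat.succ j), false), false)) ws

/-- the chain -/
noncomputable def chX (P : Par) (gens : List (List ℕ)) (ls : List (ℕ × List (List ℕ))) : List ℕ → Bool :=
  @List.rec (ℕ × List (List ℕ)) (fun _ => List ℕ → Bool) (fun _ => true)
    (fun p _ ih F => sel(Nat.ble P.m p.1, false, sel(lvX P gens F p.1 p.2 0, ih (p.1 :: F), false))) ls

theorem nthL_mem {gens : List (List ℕ)} (k : ℕ) : nthL gens k = [] ∨ nthL gens k ∈ gens := by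
  induction gens generalizing k with
  | nil => exact Or.inl rfl
  | cons a gens ih =>
    cases k with
    | zero => exact Or.inr (List.mem_cons_self (a := a))
    | succ k =>
      rcases ih k with h | h
      · exact Or.inl h
      · exact Or.inr (List.mem_cons_of_mem _ h)

section

variable {G : Type*} [Group G] {P : Par} [MulAction G (Fin P.m)] {K : Subgroup G} {gens : List (List ℕ)}
  {e : ℕ → G}

theorem actX_sound (he : ∀ k, e k ∈ K ∧ ∀ i : Fin P.m, ((e k • i : Fin P.m) : ℕ) = actW P (nthL gens k) i) (w : List ℕ) :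
    ∃ x ∈ K, ∀ i : Fin P.m, ((x • i : Fin P.m) : ℕ) = actX P gens w i := by
  induction w with
  | nil => exact ⟨1, K.one_mem, fun i => by rw [one_smul]; rfl⟩
  | cons k w ih =>
    obtain ⟨x, hx, hx'⟩ := ih
    refine ⟨x * e k, K.mul_mem hx (he k).1, fun i => ?_⟩
    rw [mul_smul, hx', (he k).2]
    show _ = forceN (actW P (nthL gens k) i) (actX P gens w)
    rw [forceN_eq]

theorem lvX_sound (he : ∀ k, e k ∈ K ∧ ∀ i : Fin P.m, ((e k • i : Fin P.m) : ℕ) = actW P (nthL gens k) i)
    {F : List ℕ} {b : Fin P.m} {ws : List (List ℕ)} {last : ℕ} (hl : lvX P gens F b ws last = true) :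
    ∃ S : Finset (Fin P.m), S.card = ws.length ∧ ∀ j ∈ S, last ≤ (j : ℕ) ∧
      ∃ k ∈ K, k • b = j ∧ ∀ c : Fin P.m, (c : ℕ) ∈ F → k • c = c := by
  induction ws generalizing last with
  | nil => exact ⟨∅, rfl, by simp⟩
  | cons c ws ih =>
    have hl' : force (actX P gens c b) (fun j =>
      @Bool.rec (fun _ => Bool) false (@Bool.rec (fun _ => Bool) false (lvX P gens F b ws (Nat.succ j))
      (allL (fun b' => Nat.beq (actX P gens c b') b') F)) (Nat.ble last j)) = true := hl
    rw [force_eq] at hl'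
    obtain ⟨h3, h4⟩ := sel_true_left hl'
    obtain ⟨h5, h6⟩ := sel_true_left h4
    obtain ⟨S, hS, hS'⟩ := ih h6
    obtain ⟨k, hkm, hw⟩ := actX_sound he c
    have hn : k • b ∉ S := by
      intro hmem
      have := (hS' _ hmem).1
      rw [hw] at this
      exact absurd this (Nat.not_succ_le_self _)
    refine ⟨insert (k • b) S, by rw [Finset.card_insert_of_notMem hn, hS]; rfl, ?_⟩
    intro j hj
    rcases Finset.mem_insert.1 hj with rfl | hj
    · refine ⟨by rw [hw]; exact ble_true h3, k, hkm, rfl, fun c' hc' => Fin.ext ?_⟩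
      rw [hw]
      exact beq_true (allL_sound h5 _ hc')
    · obtain ⟨h7, h8⟩ := hS' j hj
      refine ⟨?_, h8⟩
      rw [← hw] at h7
      have h9 := ble_true h3
      rw [← hw] at h9
      omega

theorem chX_sound [Finite G] (he : ∀ k, e k ∈ K ∧ ∀ i : Fin P.m, ((e k • i : Fin P.m) : ℕ) = actW P (nthL gens k) i)
    {ls : List (ℕ × List (List ℕ))} {F : List ℕ} (hc : chX P gens ls F = true) :
    (ls.map fun p => p.2.length).prod ≤ Nat.card (fixF (P := P) K F) := by
  induction ls generalizing F with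
  | nil => simpa using Nat.one_le_iff_ne_zero.2 Nat.card_pos.ne'
  | cons p ls ih =>
    have hc' : @Bool.rec (fun _ => Bool) (@Bool.rec (fun _ => Bool) false (chX P gens ls (p.1 :: F))
      (lvX P gens F p.1 p.2 0)) false (Nat.ble P.m p.1) = true := hc
    obtain ⟨h1, h2⟩ := sel_true_right hc'
    obtain ⟨h3, h4⟩ := sel_true_left h2
    have hb := ble_false h1
    obtain ⟨S, hS, hS'⟩ := lvX_sound (b := ⟨p.1, hb⟩) he h3
    have h5 := ih h4
    set b : Fin P.m := ⟨p.1, hb⟩ with hbd
    have h6 : Nat.card (fixF (P := P) K F) =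
        (MulAction.orbit (fixF (P := P) K F) b).ncard * Nat.card (fixF (P := P) K (p.1 :: F)) := by
      have h1 := (MulAction.stabilizer (fixF (P := P) K F) b).card_mul_index
      rw [MulAction.index_stabilizer] at h1
      have h2 : Nat.card (MulAction.stabilizer (fixF (P := P) K F) b) = Nat.card (fixF (P := P) K (p.1 :: F)) := by
        apply Nat.card_congr
        refine ⟨fun k => ⟨(k : fixF (P := P) K F), ?_⟩, fun k => ⟨⟨k, ?_⟩, ?_⟩, fun k => rfl, fun k => rfl⟩
        · refine ⟨(k : fixF (P := P) K F).2.1, fun c hc => ?_⟩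
          rcases List.mem_cons.1 hc with hc | hc
          · have : c = b := Fin.ext hc
            rw [this]
            exact k.2
          · exact (k : fixF (P := P) K F).2.2 c hc
        · exact ⟨k.2.1, fun c hc => k.2.2 c (List.mem_cons_of_mem _ hc)⟩
        · exact k.2.2 b (by simp [hbd])
      rw [← h1, h2, mul_comm]
    have h7 : S.card ≤ (MulAction.orbit (fixF (P := P) K F) b).ncard := by
      rw [← Set.ncard_coe_finset]
      apply Set.ncard_le_ncard _ (Set.toFinite _)
      intro j hj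
      obtain ⟨_, k, hk, hkb, hkF⟩ := hS' j hj
      exact ⟨⟨k, hk, hkF⟩, hkb⟩
    rw [List.map_cons, List.prod_cons, h6, ← hS]
    exact Nat.mul_le_mul h7 h5

end

section

variable {G : Type} [Group G] {g : ℕ → G} (hg : Good g 15 ivG RLG)

/-- the coset of `x` -/
def pt (g : ℕ → G) (x : G) : G ⧸ Cl g 13 := QuotientGroup.mk x⁻¹

theorem pt_eq {x y : G} : pt g x = pt g y ↔ x * y⁻¹ ∈ Cl g 13 := by
  unfold pt
  rw [QuotientGroup.eq, inv_inv]

include hg

theorem smul_pt (a : QA) (x : G) : th hg a • pt g x = pt g (x * th hg a⁻¹) := by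
  unfold pt
  rw [map_inv, mul_inv_rev, inv_inv]
  rfl

/-- lower bound of the stabiliser -/
theorem stab_ge {W : List ℕ} {ws : List (List ℕ)} (hws : All (fun s => Q g (W ++ s) W) ws)
    (hok : ws.all (wOK 13) = true) {ls : List (ℕ × List (List ℕ))}
    (hc : chX LYT.P ([] :: ws) ls [] = true)
    (A : MulAction QA (G ⧸ Cl g 13)) (hA : ∀ (a : QA) (x : G ⧸ Cl g 13), a • x = th hg a • x) :
    (ls.map fun p => p.2.length).prod ≤ Nat.card (stabilizer QA (pt g (ev g W))) := by
  obtain ⟨B, hB, _⟩ := TH.exists_action UA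
  have hfin := finite_QA
  have hl : ∀ u, wOK 13 u = true → ∀ x ∈ u, x ∈ LYT.lets := by
    intro u hu x hx
    simp only [wOK, List.all_eq_true] at hu
    exact TH.mem_iff.2 (hu x hx)
  have hok' : ∀ x, wOK 13 (nthL ([] :: ws) x) = true := by
    intro x
    rcases nthL_mem (gens := [] :: ws) x with h | h
    · rw [h]; rfl
    · rcases List.mem_cons.1 h with h | h
      · rw [h]; rfl
      · simp only [List.all_eq_true] at hok
        exact hok _ h
  have he : ∀ k, (ev qa (nthL ([] :: ws) k))⁻¹ ∈ stabilizer QA (pt g (ev g W)) ∧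
      ∀ i : Fin LYT.P.m, ((((ev qa (nthL ([] :: ws) k))⁻¹ • i : Fin LYT.P.m)) : ℕ) = actW LYT.P (nthL ([] :: ws) k) i := by
    intro k
    constructor
    · have h5 : Q g (W ++ nthL ([] :: ws) k) W := by
        have h0 : Q g (W ++ []) W := by
          unfold Q
          rw [List.append_nil, mul_inv_cancel]
          exact Subgroup.one_mem _
        rcases nthL_mem (gens := [] :: ws) k with h | h
        · rw [h]; exact h0
        · rcases List.mem_cons.1 h with h | h
          · rw [h]; exact h0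
          · exact hws.mem h
      unfold Q at h5
      show (ev qa (nthL ([] :: ws) k))⁻¹ • pt g (ev g W) = pt g (ev g W)
      rw [hA, smul_pt, inv_inv, th_word hg (hok' k), pt_eq, ← ev_app]
      exact h5
    · intro i
      have h3 := hB.word (hl _ (hok' k)) i
      rwa [val_inv] at h3
  refine (chX_sound he hc).trans ?_
  exact Nat.card_mono (Set.toFinite _) (fun x hx => hx.1)

/-- upper bound of the index -/
theorem index_le {Ws : List (List ℕ)} {cs : List ℕ} (hlen : Ws.length = cs.length) (h0 : [] ∈ Ws)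
    (hgd : ∀ W ∈ Ws, ∀ a, Gd hg Ws W a)
    (hst : ∀ (A : MulAction QA (G ⧸ Cl g 13)), (∀ (a : QA) (x : G ⧸ Cl g 13), a • x = th hg a • x) →
      ∀ p ∈ Ws.zip cs, 5859000000 ≤ p.2 * Nat.card (stabilizer QA (pt g (ev g p.1)))) (htop : Cl g 15 = ⊤) :
    Finite (G ⧸ Cl g 13) ∧ (Cl g 13).index ≤ cs.sum := by
  have hfin := finite_QA
  letI A : MulAction QA (G ⧸ Cl g 13) := MulAction.compHom _ (th hg)
  have hA : ∀ (a : QA) (x : G ⧸ Cl g 13), a • x = th hg a • x := fun _ _ => rfl
  have hst' := hst A hA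
  have horb : ∀ p ∈ Ws.zip cs, (orbit QA (pt g (ev g p.1))).ncard ≤ p.2 := by
    intro p hp
    have h1 := hst' p hp
    have h2 := (stabilizer QA (pt g (ev g p.1))).card_mul_index
    rw [index_stabilizer, card_QA] at h2
    rw [← h2, mul_comm] at h1
    exact Nat.le_of_mul_le_mul_right h1 Nat.card_pos
  have hcov : ∀ x : G, ∃ W ∈ Ws, pt g x ∈ orbit QA (pt g (ev g W)) := by
    have hu : ∀ x : G, (∃ W ∈ Ws, pt g x ∈ orbit QA (pt g (ev g W))) →
        ∃ W ∈ Ws, pt g (x * g 14) ∈ orbit QA (pt g (ev g W)) := by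
      rintro x ⟨W, hW, a, ha⟩
      have h1 : th hg a • pt g (ev g W) = pt g x := ha
      rw [smul_pt, eq_comm, pt_eq] at h1
      obtain ⟨W', hW', b, hb⟩ := hgd W hW a⁻¹
      refine ⟨W', hW', b⁻¹, ?_⟩
      show th hg b⁻¹ • pt g (ev g W') = pt g (x * g 14)
      rw [smul_pt, inv_inv, eq_comm, pt_eq]
      have h2 := Subgroup.mul_mem _ h1 hb
      have h3 : x * (ev g W * th hg a⁻¹)⁻¹ * (ev g W * th hg a⁻¹ * g 14 * (ev g W' * th hg b)⁻¹) =
          x * g 14 * (ev g W' * th hg b)⁻¹ := by group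
      rwa [h3] at h2
    have hq : ∀ (x y : G), (∃ W ∈ Ws, pt g x ∈ orbit QA (pt g (ev g W))) → (∃ c : QA, th hg c = y) →
        ∃ W ∈ Ws, pt g (x * y) ∈ orbit QA (pt g (ev g W)) := by
      rintro x y ⟨W, hW, a, ha⟩ ⟨c, rfl⟩
      have h1 : th hg a • pt g (ev g W) = pt g x := ha
      refine ⟨W, hW, c⁻¹ * a, ?_⟩
      show th hg (c⁻¹ * a) • pt g (ev g W) = pt g (x * th hg c)
      rw [map_mul, mul_smul, h1, smul_pt, inv_inv]
    have h13 : ∀ z : G, (∃ W ∈ Ws, pt g z ∈ orbit QA (pt g (ev g W))) →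
        ∃ W ∈ Ws, pt g (z * (g 14)⁻¹) ∈ orbit QA (pt g (ev g W)) := by
      intro z hz
      have h1 : (g 14)⁻¹ = g 14 * (g 2 * g 2) := by
        have h2 := hg.rel ([14, 14, 2, 2], 1) (by decide +kernel)
        have h4 : g 14 * (g 14 * (g 2 * g 2)) = 1 := by simpa using h2
        exact (eq_inv_of_mul_eq_one_right h4).symm
      rw [h1, ← mul_assoc]
      refine hq _ _ (hu z hz) ⟨ev qa [2, 2], ?_⟩
      rw [th_word hg (by decide +kernel)]
      simp [ev]
    have hlet : ∀ y ∈ Cl g 15, ∀ x : G, (∃ W ∈ Ws, pt g x ∈ orbit QA (pt g (ev g W))) →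
        (∃ W ∈ Ws, pt g (x * y) ∈ orbit QA (pt g (ev g W))) ∧
          ∃ W ∈ Ws, pt g (x * y⁻¹) ∈ orbit QA (pt g (ev g W)) := by
      intro y hy
      unfold Cl at hy
      induction hy using Subgroup.closure_induction with
      | mem y hy =>
        intro x hx
        obtain ⟨l, hl, rfl⟩ := hy
        obtain ⟨h1, h2⟩ := isLet_iff.1 (show isLet 15 l = true from hl)
        rcases Nat.lt_or_ge l 14 with h3 | h3
        · have h5 := th_qa hg (isLet_iff.2 ⟨h1, (show l ≤ 13 by omega)⟩)
          exact ⟨hq x _ hx ⟨qa l, h5⟩, hq x _ hx ⟨(qa l)⁻¹, by rw [map_inv, h5]⟩⟩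
        · rcases Nat.lt_or_ge l 15 with h4 | h4
          · have : l = 14 := by omega
            subst this
            exact ⟨hu x hx, h13 x hx⟩
          · have : l = 15 := by omega
            subst this
            rw [g15 hg, inv_inv]
            exact ⟨h13 x hx, hu x hx⟩
      | one => intro x hx; rw [inv_one, mul_one]; exact ⟨hx, hx⟩
      | mul y z _ _ h1 h2 =>
        intro x hx
        rw [mul_inv_rev, ← mul_assoc, ← mul_assoc]
        exact ⟨(h2 _ (h1 _ hx).1).1, (h1 _ (h2 _ hx).2).2⟩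
      | inv y _ h1 => intro x hx; rw [inv_inv]; exact ⟨(h1 x hx).2, (h1 x hx).1⟩
    intro x
    have h1 := (hlet x (by rw [htop]; exact Subgroup.mem_top _) 1 ⟨[], h0, ?_⟩).1
    · rwa [one_mul] at h1
    · show pt g 1 ∈ orbit QA (pt g 1)
      exact mem_orbit_self _
  have key : ∀ L : List (List ℕ × ℕ), (∀ p ∈ L, (orbit QA (pt g (ev g p.1))).ncard ≤ p.2) →
      {x : G ⧸ Cl g 13 | ∃ p ∈ L, x ∈ orbit QA (pt g (ev g p.1))}.Finite ∧
        {x : G ⧸ Cl g 13 | ∃ p ∈ L, x ∈ orbit QA (pt g (ev g p.1))}.ncard ≤ (L.map fun p => p.2).sum := by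
    intro L hL
    induction L with
    | nil => simp
    | cons p L ih =>
      obtain ⟨h1, h2⟩ := ih fun q hq => hL q (by simp [hq])
      have h3 : {x : G ⧸ Cl g 13 | ∃ q ∈ p :: L, x ∈ orbit QA (pt g (ev g q.1))} =
          orbit QA (pt g (ev g p.1)) ∪ {x : G ⧸ Cl g 13 | ∃ p ∈ L, x ∈ orbit QA (pt g (ev g p.1))} := by
        ext x
        simp
      have h4 : (orbit QA (pt g (ev g p.1))).Finite := Set.finite_range _
      rw [h3]
      refine ⟨h4.union h1, (Set.ncard_union_le _ _).trans ?_⟩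
      rw [List.map_cons, List.sum_cons]
      exact Nat.add_le_add (hL p (by simp)) h2
  obtain ⟨h1, h2⟩ := key _ horb
  have h3 : {x : G ⧸ Cl g 13 | ∃ p ∈ Ws.zip cs, x ∈ orbit QA (pt g (ev g p.1))} = Set.univ := by
    ext x
    simp only [Set.mem_univ, iff_true, Set.mem_ofPred_eq]
    obtain ⟨y, rfl⟩ := QuotientGroup.mk_surjective x
    obtain ⟨W, hW, h⟩ := hcov y⁻¹
    obtain ⟨i, hi, rfl⟩ := List.getElem_of_mem hW
    refine ⟨(Ws[i], cs[i]'(by omega)), ?_, ?_⟩
    · rw [List.mem_iff_getElem]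
      exact ⟨i, by simp; omega, by simp⟩
    · unfold pt at h ⊢
      rwa [inv_inv] at h
  have h4 : (Ws.zip cs).map (fun p => p.2) = cs := by
    apply List.ext_getElem
    · simp [hlen]
    · intro i h1 h2
      simp
  rw [h3] at h1 h2
  have h5 : Finite (G ⧸ Cl g 13) := Set.finite_univ_iff.1 h1
  refine ⟨h5, ?_⟩
  rw [Set.ncard_univ, h4] at h2
  exact h2

end

end Cfsg.Agent.LyG
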