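import Cfsg.Agent.CosetEnum.Ly.Dce

/-!
Counting cosets by double cosets (owner: helper66).
-/

set_option autoImplicit false
set_option maxRecDepth 1000000

namespace Cfsg.Agent.LyG

open MulAction Cfsg.Agent.CosetEnum

local notation "sel(" c ", " a ", " b ")" => @Bool.rec (fun _ => Bool) b a c

/-- conjunction over a list -/
def All {α : Type} (V : α → Prop) : List α → Prop
  | [] => True
  | a :: l => V a ∧ All V l

theorem All.mem {α : Type} {V : α → Prop} {l : List α} (h : All V l) {a : α} (ha : a ∈ l) : V a := by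
  induction l with
  | nil => simp at ha
  | cons b l ih =>
    rcases List.mem_cons.1 ha with rfl | ha
    · exact h.1
    · exact ih h.2 ha

/-- marking points -/
noncomputable def covI (P : Par) (s : List ℕ) (k : ℕ → Bool) (js : List ℕ) : ℕ → Bool :=
  @List.rec ℕ (fun _ => ℕ → Bool) k
    (fun j _ ih vis => sel(Nat.beq (Nat.land (Nat.shiftRight vis j) 1) 1,
      force (actW P s j) fun j' => force (Nat.lor vis (Nat.shiftLeft 1 j')) ih, false)) js

/-- blocks of steps -/
noncomputable def covB (P : Par) (full : ℕ) (bl : List (List ℕ × List ℕ)) : ℕ → Bool :=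
  @List.rec (List ℕ × List ℕ) (fun _ => ℕ → Bool) (fun vis => Nat.beq vis full)
    (fun b _ ih => covI P b.1 ih b.2) bl

/-- the points of the first words -/
noncomputable def vis0 (P : Par) (st : List (List ℕ)) : ℕ :=
  @List.rec (List ℕ) (fun _ => ℕ) 0 (fun u _ ih => Nat.lor ih (Nat.shiftLeft 1 (actW P u 0))) st

theorem testBit_lor_shift {vis j i : ℕ} (h : (Nat.lor vis (Nat.shiftLeft 1 j)).testBit i = true) :
    vis.testBit i = true ∨ i = j := by
  have h1 : (vis ||| (1 <<< j)).testBit i = true := h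
  rw [Nat.testBit_or, Bool.or_eq_true] at h1
  rcases h1 with h1 | h1
  · exact Or.inl h1
  · right
    rw [Nat.testBit_shiftLeft, Bool.and_eq_true, Nat.testBit_one_eq_true_iff_self_eq_zero] at h1
    simp only [ge_iff_le, decide_eq_true_eq] at h1
    omega

theorem vis0_sound {P : Par} {V : ℕ → Prop} {st : List (List ℕ)} (h : All (fun u => V (actW P u 0)) st) :
    ∀ i, (vis0 P st).testBit i = true → V i := by
  induction st with
  | nil => intro i hi; simp [vis0] at hi
  | cons u st ih =>
    intro i hi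
    rcases testBit_lor_shift (show (Nat.lor (vis0 P st) (Nat.shiftLeft 1 (actW P u 0))).testBit i = true from hi) with h1 | h1
    · exact ih h.2 i h1
    · rw [h1]; exact h.1

theorem covI_sound {P : Par} {V : ℕ → Prop} {s : List ℕ} (hs : ∀ j, V j → V (actW P s j)) {k : ℕ → Bool} {js : List ℕ}
    {vis : ℕ} (hv : ∀ i, vis.testBit i = true → V i) (h : covI P s k js vis = true) :
    ∃ vis', (∀ i, vis'.testBit i = true → V i) ∧ k vis' = true := by
  induction js generalizing vis with
  | nil => exact ⟨vis, hv, h⟩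
  | cons j js ih =>
    obtain ⟨h1, h2⟩ := sel_true_left (show @Bool.rec (fun _ => Bool) false (force (actW P s j) fun j' =>
      force (Nat.lor vis (Nat.shiftLeft 1 j')) (covI P s k js))
        (Nat.beq (Nat.land (Nat.shiftRight vis j) 1) 1) = true from h)
    rw [force_eq, force_eq] at h2
    have h3 : vis.testBit j = true := by
      have h4 : (vis >>> j) &&& 1 = 1 := beq_true h1
      rw [Nat.testBit_eq_decide_div_mod_eq, ← Nat.shiftRight_eq_div_pow, ← Nat.and_one_is_mod, h4]
      rfl
    refine ih (fun i hi => ?_) h2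
    rcases testBit_lor_shift hi with h4 | h4
    · exact hv i h4
    · rw [h4]; exact hs j (hv j h3)

theorem covB_sound {P : Par} {V : ℕ → Prop} {full : ℕ} {bl : List (List ℕ × List ℕ)}
    (hs : ∀ b ∈ bl, ∀ j, V j → V (actW P b.1 j)) {vis : ℕ} (hv : ∀ i, vis.testBit i = true → V i)
    (h : covB P full bl vis = true) : ∀ i, full.testBit i = true → V i := by
  induction bl generalizing vis with
  | nil =>
    intro i hi
    have h1 : vis = full := beq_true h
    exact hv i (by rw [h1]; exact hi)
  | cons b bl ih =>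
    obtain ⟨vis', h1, h2⟩ := covI_sound (hs b (by simp)) hv (show covI P b.1 (covB P full bl) b.2 vis = true from h)
    exact ih (fun b' hb' => hs b' (by simp [hb'])) h1 h2

section

variable {G : Type} [Group G] {g : ℕ → G} (hg : Good g 15 ivG RLG)

include hg

theorem exists_th : ∃ θ : QA →* G, ∀ x, θ (qa x) = CosetEnum.cut g 13 x := UA.univ _ _ (goodA hg)

/-- the homomorphism from the presented alternating group -/
noncomputable def th : QA →* G := (exists_th hg).choose

theorem th_qa {x : ℕ} (hx : isLet 13 x = true) : th hg (qa x) = g x := by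
  rw [th, (exists_th hg).choose_spec, CosetEnum.cut, if_pos hx]

theorem th_word {u : List ℕ} (hu : wOK 13 u = true) : th hg (ev qa u) = ev g u := by
  unfold ev
  rw [map_list_prod, List.map_map]
  congr 1
  apply List.map_congr_left
  intro x hx
  simp only [wOK, List.all_eq_true] at hu
  exact th_qa hg (hu x hx)

theorem th_mem (a : QA) : th hg a ∈ Cl g 13 := by
  have h : a ∈ Cl qa 13 := by rw [UA.top]; exact Subgroup.mem_top _
  unfold Cl at h
  induction h using Subgroup.closure_induction with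
  | mem y hy =>
    obtain ⟨x, hx, rfl⟩ := hy
    rw [th_qa hg hx]
    exact mem_Cl g hx
  | one => rw [map_one]; exact Subgroup.one_mem _
  | mul y z _ _ h1 h2 => rw [map_mul]; exact Subgroup.mul_mem _ h1 h2
  | inv y _ h1 => rw [map_inv]; exact Subgroup.inv_mem _ h1

/-- `W a u` is in one of the known double cosets -/
def Gd (Ws : List (List ℕ)) (W : List ℕ) (a : QA) : Prop :=
  ∃ W' ∈ Ws, ∃ b : QA, ev g W * th hg a * g 14 * (ev g W' * th hg b)⁻¹ ∈ Cl g 13

variable {hg}

theorem Gd.right {Ws : List (List ℕ)} {W : List ℕ} {a v : QA} (h : Gd hg Ws W a) (hv : v ∈ Cl qa 8) :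
    Gd hg Ws W (a * v) := by
  have key : ∃ v' : QA, th hg v * g 14 = g 14 * th hg v' := by
    unfold Cl at hv
    induction hv using Subgroup.closure_induction with
    | mem y hy =>
      obtain ⟨x, hx, rfl⟩ := hy
      have hx : isLet 8 x = true := hx
      obtain ⟨h1, h2⟩ := isLet_iff.1 hx
      refine ⟨ev qa (al1 x), ?_⟩
      rw [th_qa hg (isLet_iff.2 ⟨h1, by omega⟩), al_letter hg h1 h2, th_word hg]
      interval_cases x <;> decide
    | one => exact ⟨1, by simp⟩
    | mul y z _ _ h1 h2 =>
      obtain ⟨y', h1⟩ := h1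
      obtain ⟨z', h2⟩ := h2
      refine ⟨y' * z', ?_⟩
      rw [map_mul, map_mul, mul_assoc, h2, ← mul_assoc, h1, mul_assoc]
    | inv y _ h1 =>
      obtain ⟨y', h1⟩ := h1
      refine ⟨y'⁻¹, ?_⟩
      rw [map_inv, map_inv, inv_mul_eq_iff_eq_mul, ← mul_assoc, h1, mul_assoc, mul_inv_cancel, mul_one]
  obtain ⟨v', hv'⟩ := key
  obtain ⟨W', hW', b, hb⟩ := h
  refine ⟨W', hW', b * v', ?_⟩
  have h1 : ev g W * th hg (a * v) * g 14 * (ev g W' * th hg (b * v'))⁻¹ =
      ev g W * th hg a * g 14 * (ev g W' * th hg b)⁻¹ := by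
    rw [map_mul, map_mul, ← mul_assoc, mul_assoc (ev g W * th hg a), hv', ← mul_assoc, ← mul_assoc, mul_inv_rev _ (th hg v')]
    group
  rw [h1]
  exact hb

theorem Gd.left {Ws : List (List ℕ)} {W s : List ℕ} {a : QA} (hs : Q g (W ++ s) W) (hs' : wOK 13 s = true)
    (h : Gd hg Ws W (ev qa s * a)) : Gd hg Ws W a := by
  obtain ⟨W', hW', b, hb⟩ := h
  refine ⟨W', hW', b, ?_⟩
  unfold Q at hs
  rw [ev_app] at hs
  rw [map_mul, th_word hg hs'] at hb
  have h1 : ev g W * th hg a * g 14 * (ev g W' * th hg b)⁻¹ =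
      (ev g W * ev g s * (ev g W)⁻¹)⁻¹ * (ev g W * (ev g s * th hg a) * g 14 * (ev g W' * th hg b)⁻¹) := by group
  rw [h1]
  exact Subgroup.mul_mem _ (Subgroup.inv_mem _ hs) hb

theorem Gd.start {Ws : List (List ℕ)} {W W' a b : List ℕ} (h : Q g (W ++ a ++ [14]) (W' ++ b)) (hW' : W' ∈ Ws)
    (ha : wOK 13 a = true) (hb : wOK 13 b = true) : Gd hg Ws W (ev qa a) := by
  refine ⟨W', hW', ev qa b, ?_⟩
  unfold Q at h
  simp only [ev_app] at h
  have h1 : ev g [14] = g 14 := by simp [ev]
  rw [h1] at h
  rw [th_word hg ha, th_word hg hb]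
  exact h

omit [Group G] hg in
theorem piece {P : Par} {gens : List (List ℕ)} {V : ℕ → Prop} (hs : ∀ s ∈ gens, ∀ j, V j → V (actW P s j)) {m0 m1 : ℕ}
    {bl : List (List ℕ × List ℕ)} (hbl : bl.all (fun b => gens.contains b.1) = true) (hc : covB P m1 bl m0 = true)
    (h0 : ∀ i, m0.testBit i = true → V i) : ∀ i, m1.testBit i = true → V i := by
  refine covB_sound (fun b hb j hj => hs b.1 ?_ j hj) h0 hc
  simp only [List.all_eq_true, List.contains_iff_mem] at hbl
  exact hbl b hb

/-- the sets of points are exhausted -/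
def CovAll (st gens : List (List ℕ)) : Prop :=
  ∀ V : ℕ → Prop, (∀ s ∈ gens, ∀ j, V j → V (actW LYT.P s j)) →
    (∀ i, (vis0 LYT.P st).testBit i = true → V i) → ∀ i < 19530, V i

/-- All products are in the known double cosets. -/
theorem gd_all {Ws : List (List ℕ)} {W : List ℕ} {st gens : List (List ℕ)}
    (hst : All (fun u => wOK 13 u = true ∧ Gd hg Ws W (ev qa (iw u))) st)
    (hgens : All (fun s => Q g (W ++ s) W) gens) (hok : gens.all (wOK 13) = true)
    (hc : CovAll st gens) (a : QA) : Gd hg Ws W a := by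
  obtain ⟨A, hA, _⟩ := TH.exists_action UA
  have hl : ∀ u, wOK 13 u = true → ∀ x ∈ u, x ∈ LYT.lets := by
    intro u hu x hx
    simp only [wOK, List.all_eq_true] at hu
    exact TH.mem_iff.2 (hu x hx)
  let V : ℕ → Prop := fun j => j < LYT.P.m ∧ ∀ a : QA, ((a • o0 : Fin LYT.P.m) : ℕ) = j → Gd hg Ws W a
  have hw : ∀ u, wOK 13 u = true → ∀ i : Fin LYT.P.m, (((ev qa u)⁻¹ • i : Fin LYT.P.m) : ℕ) = actW LYT.P u i := by
    intro u hu i
    rw [← hA.word (hl u hu) i, val_inv]
    rfl
  have hV0 : All (fun u => V (actW LYT.P u 0)) st := by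
    clear hc
    induction st with
    | nil => trivial
    | cons u st ih =>
      obtain ⟨⟨h8, h9⟩, h10⟩ := hst
      refine ⟨?_, ih h10⟩
      have h11 : (((ev qa u)⁻¹ • o0 : Fin LYT.P.m) : ℕ) = actW LYT.P u 0 := hw u h8 o0
      refine ⟨by rw [← h11]; exact Fin.is_lt _, ?_⟩
      intro a ha
      rw [← h11] at ha
      have ha' : a • o0 = (ev qa u)⁻¹ • o0 := Fin.ext ha
      have h12 : ev qa u * a ∈ Cl qa 8 := by
        rw [← stab0 A hA]
        show (ev qa u * a) • o0 = o0
        rw [mul_smul, ha', smul_inv_smul]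
      have h13 : ev qa (iw u) = (ev qa u)⁻¹ := prod_invW (g := qa) (l := ivG) (fun x => by
        by_cases hx : x = 14
        · subst hx
          rw [show ivL ivG 14 = 15 from rfl, UA.good.one 14 rfl, UA.good.one 15 rfl, inv_one]
        · by_cases hx' : x = 15
          · subst hx'
            rw [show ivL ivG 15 = 14 from rfl, UA.good.one 14 rfl, UA.good.one 15 rfl, inv_one]
          · have h14 : ivL ivG x = ivL ivH x := by
              simp [ivG, ivH, ivL, hx, hx']
            rw [h14]
            exact UA.good.inv x) u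
      rw [h13] at h9
      have h14 := h9.right h12
      rwa [inv_mul_cancel_left] at h14
  have hV1 : ∀ s ∈ gens, ∀ j, V j → V (actW LYT.P s j) := by
    intro s h8 j hj
    have h9 := hgens.mem h8
    have h10 : wOK 13 s = true := by
      simp only [List.all_eq_true] at hok
      exact hok _ h8
    have h11 := hw s h10 ⟨j, hj.1⟩
    refine ⟨by rw [← h11]; exact Fin.is_lt _, ?_⟩
    intro a ha
    rw [← h11] at ha
    have ha' : a • o0 = (ev qa s)⁻¹ • (⟨j, hj.1⟩ : Fin LYT.P.m) := Fin.ext ha
    apply Gd.left h9 h10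
    apply hj.2
    rw [mul_smul, ha', smul_inv_smul]
  have h15 := hc V hV1 (vis0_sound hV0)
  have h16 : ((a • o0 : Fin LYT.P.m) : ℕ) < 19530 := Fin.is_lt _
  exact (h15 _ h16).2 a rfl

end

end Cfsg.Agent.LyG
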