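import Cfsg.Agent.CosetEnum.Ly.Base

/-!
Rules of a double coset enumeration: `Q g a b` says that the cosets `H a` and `H b` are equal (owner: helper66).
-/

set_option autoImplicit false
set_option maxRecDepth 1000000

namespace Cfsg.Agent.LyG

open MulAction Cfsg.Agent.CosetEnum

section

variable {G : Type} [Group G] {g : ℕ → G}

/-- value of a word -/
def ev (g : ℕ → G) (u : List ℕ) : G := (u.map g).prod

theorem ev_nil : ev g [] = 1 := rfl

theorem ev_app (a b : List ℕ) : ev g (a ++ b) = ev g a * ev g b := by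
  unfold ev
  rw [List.map_append, List.prod_append]

theorem ev_cons (x : ℕ) (b : List ℕ) : ev g (x :: b) = g x * ev g b := by
  unfold ev
  rw [List.map_cons, List.prod_cons]

/-- the cosets of `a` and `b` are equal -/
def Q (g : ℕ → G) (a b : List ℕ) : Prop := ev g a * (ev g b)⁻¹ ∈ Cl g 13

theorem Q.refl (a : List ℕ) : Q g a a := by
  unfold Q
  rw [mul_inv_cancel]
  exact Subgroup.one_mem _

theorem Q.of_eq {a b : List ℕ} (h : ev g a = ev g b) : Q g a b := by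
  unfold Q
  rw [h, mul_inv_cancel]
  exact Subgroup.one_mem _

theorem Q.symm {a b : List ℕ} (h : Q g a b) : Q g b a := by
  unfold Q at h ⊢
  have := Subgroup.inv_mem _ h
  rwa [mul_inv_rev, inv_inv] at this

theorem Q.trans {a b c : List ℕ} (h : Q g a b) (h' : Q g b c) : Q g a c := by
  unfold Q at h h' ⊢
  have := Subgroup.mul_mem _ h h'
  rwa [mul_assoc, inv_mul_cancel_left] at this

theorem Q.app {a b : List ℕ} (h : Q g a b) (c : List ℕ) : Q g (a ++ c) (b ++ c) := by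
  unfold Q at h ⊢
  rw [ev_app, ev_app, mul_inv_rev, mul_assoc, mul_inv_cancel_left]
  exact h

theorem Q.comp {W s t : List ℕ} (hs : Q g (W ++ s) W) (ht : Q g (W ++ t) W) : Q g (W ++ (s ++ t)) W := by
  rw [← List.append_assoc]
  exact (hs.app t).trans ht

/-- the inverse of a word -/
def iw (u : List ℕ) : List ℕ := invW ivG u

variable (hg : Good g 15 ivG RLG)

include hg

theorem ev_iw (u : List ℕ) : ev g (iw u) = (ev g u)⁻¹ := prod_invW hg.inv u

theorem Q.inv {W s : List ℕ} (hs : Q g (W ++ s) W) : Q g (W ++ iw s) W := by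
  have h := hs.symm.app (iw s)
  refine h.trans (Q.of_eq ?_)
  rw [ev_app, ev_app, ev_iw hg]
  group

theorem goodA : Good (CosetEnum.cut g 13) 13 ivH RLH := hg.cut (by decide +kernel)

/-- words that agree on the base points are equal -/
theorem eqW {u v : List ℕ} (h : eqB u v = true) : ev g u = ev g v := by
  obtain ⟨φ, hφ⟩ := UA.univ _ _ (goodA hg)
  have h1 := eqA h
  have h2 : ∀ u, wOK 13 u = true → φ (u.map qa).prod = ev g u := by
    intro u hu
    rw [map_list_prod, List.map_map]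
    unfold ev
    congr 1
    apply List.map_congr_left
    intro x hx
    simp only [wOK, List.all_eq_true] at hu
    rw [Function.comp, hφ, CosetEnum.cut, if_pos (hu x hx)]
  unfold eqB at h
  simp only [Bool.and_eq_true] at h
  rw [← h2 u h.1.1, ← h2 v h.1.2, h1]

/-- images of the letters under `z` -/
def al1 : ℕ → List ℕ
  | 1 => [1, 11, 11]
  | 2 => [12, 12, 2]
  | 3 => [2, 2, 4]
  | 4 => [3, 1, 1]
  | 5 => [1, 5, 2]
  | 6 => [1, 6, 2]
  | 7 => [2, 6, 8, 2, 9, 8, 4, 10]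
  | 8 => [9, 3, 7, 10, 1, 7, 5, 1]
  | _ => []

/-- conjugation by `u` -/
def al (v : List ℕ) : List ℕ := v.flatMap al1

omit hg in
theorem ev_one {x : ℕ} (h : g x = 1) (u : List ℕ) : ev g (x :: u) = ev g u := by
  rw [ev_cons, h, one_mul]

theorem g15 : g 15 = (g 14)⁻¹ := hg.inv 14

theorem al_letter {x : ℕ} (h1 : 1 ≤ x) (h2 : x ≤ 8) : g x * g 14 = g 14 * ev g (al1 x) := by
  have key : ∀ (x : ℕ) (z : List ℕ), (((([15, x, 14] ++ z).map g).prod) ^ 1 = 1) → ev g (iw (al1 x)) = ev g z →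
      g x * g 14 = g 14 * ev g (al1 x) := by
    intro x z hz hz'
    rw [pow_one, List.map_append, List.prod_append] at hz
    simp only [List.map_cons, List.map_nil, List.prod_cons, List.prod_nil, mul_one] at hz
    rw [g15 hg] at hz
    rw [ev_iw hg] at hz'
    have h3 : (z.map g).prod = (ev g (al1 x))⁻¹ := hz'.symm
    rw [h3, mul_inv_eq_one, inv_mul_eq_iff_eq_mul] at hz
    exact hz
  have kinv : ∀ (x y : ℕ), g y = (g x)⁻¹ → al1 y = iw (al1 x) → g x * g 14 = g 14 * ev g (al1 x) →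
      g y * g 14 = g 14 * ev g (al1 y) := by
    intro x y h1 h2 h3
    rw [h1, h2, ev_iw hg, inv_mul_eq_iff_eq_mul, ← mul_assoc, h3, mul_assoc, mul_inv_cancel, mul_one]
  have ka := key 1 [1, 1, 1] (hg.rel ([15, 1, 14] ++ [1, 1, 1], 1) (by decide +kernel)) (eqW hg (by decide +kernel))
  have km := key 3 [1, 1, 9, 1, 10] (hg.rel ([15, 3, 14] ++ [1, 1, 9, 1, 10], 1) (by decide +kernel)) (eqW hg (by decide +kernel))
  have kn := key 5 [1, 9, 9, 2, 10, 10, 2] (hg.rel ([15, 5, 14] ++ [1, 9, 9, 2, 10, 10, 2], 1) (by decide +kernel)) (eqW hg (by decide +kernel))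
  have kc := key 7 [2, 10, 7, 2, 9, 7, 10, 1, 9, 1] (hg.rel ([15, 7, 14] ++ [2, 10, 7, 2, 9, 7, 10, 1, 9, 1], 1) (by decide +kernel)) (eqW hg (by decide +kernel))
  interval_cases x
  · exact ka
  · exact kinv 1 2 (hg.inv 1) (by decide) ka
  · exact km
  · exact kinv 3 4 (hg.inv 3) (by decide) km
  · exact kn
  · exact kinv 5 6 (hg.inv 5) (by decide) kn
  · exact kc
  · exact kinv 7 8 (hg.inv 7) (by decide) kc

theorem al_word {v : List ℕ} (hv : wOK 8 v = true) : ev g v * g 14 = g 14 * ev g (al v) := by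
  induction v with
  | nil => simp [ev, al]
  | cons x v ih =>
    simp only [wOK, List.all_cons, Bool.and_eq_true] at hv
    obtain ⟨h1, h2⟩ := isLet_iff.1 hv.1
    have h3 : al (x :: v) = al1 x ++ al v := by simp [al]
    rw [h3, ev_cons, ev_app, mul_assoc, ih hv.2, ← mul_assoc, al_letter hg h1 h2, mul_assoc]

/-- a step with `z` -/
theorem mv {W Wj sp a a' b v : List ℕ} (hu : Q g (W ++ a ++ [14]) (Wj ++ b)) (hs : Q g (W ++ sp) W)
    (hv : wOK 8 v = true) (he : eqB a' (sp ++ a ++ v) = true) : Q g (W ++ a' ++ [14]) (Wj ++ (b ++ al v)) := by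
  have h1 : ev g (W ++ a' ++ [14]) = ev g (W ++ sp ++ a ++ ([14] ++ al v)) := by
    simp only [ev_app, eqW hg he]
    have h2 := al_word hg hv
    have h3 : ev g [14] = g 14 := by simp [ev]
    rw [h3]
    simp only [mul_assoc]
    rw [h2]
  have h2 : Q g (W ++ sp ++ a ++ ([14] ++ al v)) (W ++ a ++ ([14] ++ al v)) := by
    have := hs.app (a ++ ([14] ++ al v))
    simpa only [List.append_assoc] using this
  have h3 : Q g (W ++ a ++ ([14] ++ al v)) (Wj ++ (b ++ al v)) := by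
    have := hu.app (al v)
    simpa only [List.append_assoc] using this
  exact (Q.of_eq h1).trans (h2.trans h3)

/-- two descriptions of the same step give an element of the stabiliser -/
theorem df {W Wj sp a1 a2 b1 b2 v s : List ℕ} (h1 : Q g (W ++ a1 ++ [14]) (Wj ++ b1))
    (h2 : Q g (W ++ a2 ++ [14]) (Wj ++ b2)) (hs : Q g (W ++ sp) W)
    (hv : wOK 8 v = true) (he : eqB a2 (sp ++ a1 ++ v) = true) (he' : eqB s (b1 ++ al v ++ iw b2) = true) :
    Q g (Wj ++ s) Wj := by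
  have h3 := (mv hg h1 hs hv he).symm.trans h2
  have h4 := h3.app (iw b2)
  have h5 : ev g (Wj ++ s) = ev g (Wj ++ (b1 ++ al v) ++ iw b2) := by
    simp only [ev_app, eqW hg he', mul_assoc]
  have h6 : ev g (Wj ++ b2 ++ iw b2) = ev g Wj := by
    simp only [ev_app, ev_iw hg, mul_assoc, mul_inv_cancel, mul_one]
  exact (Q.of_eq h5).trans (h4.trans (Q.of_eq h6))

theorem usq : ev g [14, 14] = ev g [1, 1] := by
  have h := hg.rel ([14, 14, 2, 2], 1) (by decide +kernel)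
  have h1 : ev g [14, 14] * ev g [2, 2] = 1 := by
    rw [← ev_app]
    simpa [ev] using h
  have h2 : ev g [1, 1] * ev g [2, 2] = 1 := by
    rw [← ev_app]
    exact eqW hg (v := []) (by decide +kernel)
  rw [mul_eq_one_iff_eq_inv] at h1 h2
  rw [h1, h2]

theorem rv {W Wj a b a' b' : List ℕ} (h : Q g (W ++ a ++ [14]) (Wj ++ b)) (he : eqB b' b = true)
    (he' : eqB a' (a ++ [1, 1]) = true) : Q g (Wj ++ b' ++ [14]) (W ++ a') := by
  have h1 := h.symm.app [14]
  refine (Q.of_eq ?_).trans (h1.trans (Q.of_eq ?_))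
  · simp only [ev_app, eqW hg he]
  · have h2 : ev g (W ++ a ++ [14] ++ [14]) = ev g (W ++ a) * ev g [14, 14] := by
      rw [← ev_app]
      simp
    rw [h2, usq hg]
    simp only [ev_app, eqW hg he', mul_assoc]

theorem uinv : ev g [2, 2] = (ev g [1, 1])⁻¹ := by
  have h2 : ev g [1, 1] * ev g [2, 2] = 1 := by
    rw [← ev_app]
    exact eqW hg (v := []) (by decide +kernel)
  exact eq_inv_of_mul_eq_one_right h2

theorem zinv : ev g [15] = ev g [14] * ev g [2, 2] := by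
  have h1 := usq hg
  have h2 : ev g [14, 14] = ev g [14] * ev g [14] := by rw [← ev_app]; rfl
  have h3 : ev g [15] = (ev g [14])⁻¹ := by
    have := g15 hg
    simpa [ev] using this
  rw [h3, uinv hg, ← h1, h2, mul_inv_rev, mul_inv_cancel_left]

/-- cyclic rotation -/
theorem rot3 {h1 h2 h3 : List ℕ} (H : ev g ([14] ++ h1 ++ [14] ++ h2 ++ [14] ++ h3) = 1) :
    ev g ([14] ++ h2 ++ [14] ++ h3 ++ [14] ++ h1) = 1 := by
  simp only [ev_app] at H ⊢
  have : ev g [14] * ev g h2 * ev g [14] * ev g h3 * ev g [14] * ev g h1 =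
      (ev g [14] * ev g h1)⁻¹ * (ev g [14] * ev g h1 * ev g [14] * ev g h2 * ev g [14] * ev g h3) * (ev g [14] * ev g h1) := by
    group
  rw [this, H]
  group

theorem rot4 {h1 h2 h3 h4 : List ℕ} (H : ev g ([14] ++ h1 ++ [14] ++ h2 ++ [14] ++ h3 ++ [14] ++ h4) = 1) :
    ev g ([14] ++ h2 ++ [14] ++ h3 ++ [14] ++ h4 ++ [14] ++ h1) = 1 := by
  simp only [ev_app] at H ⊢
  have : ev g [14] * ev g h2 * ev g [14] * ev g h3 * ev g [14] * ev g h4 * ev g [14] * ev g h1 =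
      (ev g [14] * ev g h1)⁻¹ * (ev g [14] * ev g h1 * ev g [14] * ev g h2 * ev g [14] * ev g h3 * ev g [14] * ev g h4) *
        (ev g [14] * ev g h1) := by
    group
  rw [this, H]
  group

theorem comm_zu : ev g [14] * ev g [1, 1] = ev g [1, 1] * ev g [14] := by
  have h1 := usq hg
  have h2 : ev g [14, 14] = ev g [14] * ev g [14] := by rw [← ev_app]; rfl
  rw [← h1, h2, mul_assoc]

theorem fmA3 {h1 h2 h3 c0 c1 c2 : List ℕ} (H : ev g ([14] ++ h1 ++ [14] ++ h2 ++ [14] ++ h3) = 1)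
    (e0 : eqB c0 (iw h3) = true) (e1 : eqB c1 ([2, 2] ++ iw h2) = true) (e2 : eqB c2 ([2, 2] ++ iw h1) = true) :
    ev g [14] = ev g (c0 ++ [14] ++ c1 ++ [14] ++ c2) := by
  have hu := comm_zu hg
  have h2' : ev g [14] * ev g [14] = ev g [1, 1] := by rw [← ev_app]; exact usq hg
  simp only [ev_app, eqW hg e0, eqW hg e1, eqW hg e2, ev_iw hg, uinv hg] at H ⊢
  generalize ev g [14] = z at *
  generalize ev g [1, 1] = u at *
  generalize ev g h1 = x1 at *
  generalize ev g h2 = x2 at *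
  generalize ev g h3 = x3 at *
  subst h2'
  have e : x3⁻¹ * z * ((z * z)⁻¹ * x2⁻¹) * z * ((z * z)⁻¹ * x1⁻¹) = (z * x1 * z * x2 * z * x3)⁻¹ * z := by group
  rw [e, H, inv_one, one_mul]

theorem fmB3 {h1 h2 h3 c0 c1 c2 : List ℕ} (H : ev g ([14] ++ h1 ++ [14] ++ h2 ++ [14] ++ h3) = 1)
    (e0 : eqB c0 h1 = true) (e1 : eqB c1 h2 = true) (e2 : eqB c2 (h3 ++ [1, 1]) = true) :
    ev g [14] = ev g (c0 ++ [14] ++ c1 ++ [14] ++ c2) := by
  have h2' : ev g [14] * ev g [14] = ev g [1, 1] := by rw [← ev_app]; exact usq hg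
  simp only [ev_app, eqW hg e0, eqW hg e1, eqW hg e2] at H ⊢
  generalize ev g [14] = z at *
  generalize ev g [1, 1] = u at *
  generalize ev g h1 = x1 at *
  generalize ev g h2 = x2 at *
  generalize ev g h3 = x3 at *
  subst h2'
  have e : x1 * z * x2 * z * (x3 * (z * z)) = z⁻¹ * (z * x1 * z * x2 * z * x3) * (z * z) := by group
  rw [e, H]
  group

theorem fmA4 {h1 h2 h3 h4 c0 c1 c2 c3 : List ℕ}
    (H : ev g ([14] ++ h1 ++ [14] ++ h2 ++ [14] ++ h3 ++ [14] ++ h4) = 1)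
    (e0 : eqB c0 (iw h4) = true) (e1 : eqB c1 ([2, 2] ++ iw h3) = true) (e2 : eqB c2 ([2, 2] ++ iw h2) = true)
    (e3 : eqB c3 ([2, 2] ++ iw h1) = true) :
    ev g [14] = ev g (c0 ++ [14] ++ c1 ++ [14] ++ c2 ++ [14] ++ c3) := by
  have h2' : ev g [14] * ev g [14] = ev g [1, 1] := by rw [← ev_app]; exact usq hg
  simp only [ev_app, eqW hg e0, eqW hg e1, eqW hg e2, eqW hg e3, ev_iw hg, uinv hg] at H ⊢
  generalize ev g [14] = z at *
  generalize ev g [1, 1] = u at *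
  generalize ev g h1 = x1 at *
  generalize ev g h2 = x2 at *
  generalize ev g h3 = x3 at *
  generalize ev g h4 = x4 at *
  subst h2'
  have e : x4⁻¹ * z * ((z * z)⁻¹ * x3⁻¹) * z * ((z * z)⁻¹ * x2⁻¹) * z * ((z * z)⁻¹ * x1⁻¹) =
      (z * x1 * z * x2 * z * x3 * z * x4)⁻¹ * z := by group
  rw [e, H, inv_one, one_mul]

theorem fmB4 {h1 h2 h3 h4 c0 c1 c2 c3 : List ℕ}
    (H : ev g ([14] ++ h1 ++ [14] ++ h2 ++ [14] ++ h3 ++ [14] ++ h4) = 1)
    (e0 : eqB c0 h1 = true) (e1 : eqB c1 h2 = true) (e2 : eqB c2 h3 = true) (e3 : eqB c3 (h4 ++ [1, 1]) = true) :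
    ev g [14] = ev g (c0 ++ [14] ++ c1 ++ [14] ++ c2 ++ [14] ++ c3) := by
  have h2' : ev g [14] * ev g [14] = ev g [1, 1] := by rw [← ev_app]; exact usq hg
  simp only [ev_app, eqW hg e0, eqW hg e1, eqW hg e2, eqW hg e3] at H ⊢
  generalize ev g [14] = z at *
  generalize ev g [1, 1] = u at *
  generalize ev g h1 = x1 at *
  generalize ev g h2 = x2 at *
  generalize ev g h3 = x3 at *
  generalize ev g h4 = x4 at *
  subst h2'
  have e : x1 * z * x2 * z * x3 * z * (x4 * (z * z)) = z⁻¹ * (z * x1 * z * x2 * z * x3 * z * x4) * (z * z) := by group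
  rw [e, H]
  group

omit hg in
theorem ap3 {c0 c1 c2 : List ℕ} (hf : ev g [14] = ev g (c0 ++ [14] ++ c1 ++ [14] ++ c2)) {W W1 W2 a b d1 d2 : List ℕ}
    (m1 : Q g (W ++ (a ++ c0) ++ [14]) (W1 ++ d1)) (m2 : Q g (W1 ++ (d1 ++ c1) ++ [14]) (W2 ++ d2))
    (he : ev g b = ev g (d2 ++ c2)) : Q g (W ++ a ++ [14]) (W2 ++ b) := by
  have h1 : ev g (W ++ a ++ [14]) = ev g (W ++ (a ++ c0) ++ [14] ++ (c1 ++ [14] ++ c2)) := by
    rw [ev_app _ [14], hf]
    simp only [ev_app, mul_assoc]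
  have h2 := m1.app (c1 ++ [14] ++ c2)
  have h3 := m2.app c2
  have h6 : ev g (W2 ++ b) = ev g (W2 ++ d2 ++ c2) := by
    simp only [ev_app, he, mul_assoc]
  refine (Q.of_eq h1).trans ?_
  refine h2.trans ?_
  have a1 : W1 ++ d1 ++ (c1 ++ [14] ++ c2) = W1 ++ (d1 ++ c1) ++ [14] ++ c2 := by
    simp only [List.append_assoc]
  rw [a1]
  exact h3.trans (Q.of_eq h6.symm)

omit hg in
theorem ap4 {c0 c1 c2 c3 : List ℕ} (hf : ev g [14] = ev g (c0 ++ [14] ++ c1 ++ [14] ++ c2 ++ [14] ++ c3))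
    {W W1 W2 W3 a b d1 d2 d3 : List ℕ}
    (m1 : Q g (W ++ (a ++ c0) ++ [14]) (W1 ++ d1)) (m2 : Q g (W1 ++ (d1 ++ c1) ++ [14]) (W2 ++ d2))
    (m3 : Q g (W2 ++ (d2 ++ c2) ++ [14]) (W3 ++ d3))
    (he : ev g b = ev g (d3 ++ c3)) : Q g (W ++ a ++ [14]) (W3 ++ b) := by
  have h1 : ev g (W ++ a ++ [14]) = ev g (W ++ (a ++ c0) ++ [14] ++ (c1 ++ [14] ++ c2 ++ [14] ++ c3)) := by
    rw [ev_app _ [14], hf]
    simp only [ev_app, mul_assoc]
  have h2 := m1.app (c1 ++ [14] ++ c2 ++ [14] ++ c3)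
  have h3 := m2.app (c2 ++ [14] ++ c3)
  have h4 := m3.app c3
  have h6 : ev g (W3 ++ b) = ev g (W3 ++ d3 ++ c3) := by
    simp only [ev_app, he, mul_assoc]
  refine (Q.of_eq h1).trans ?_
  refine h2.trans ?_
  have a1 : W1 ++ d1 ++ (c1 ++ [14] ++ c2 ++ [14] ++ c3) = W1 ++ (d1 ++ c1) ++ [14] ++ (c2 ++ [14] ++ c3) := by
    simp only [List.append_assoc]
  have a2 : W2 ++ d2 ++ (c2 ++ [14] ++ c3) = W2 ++ (d2 ++ c2) ++ [14] ++ c3 := by
    simp only [List.append_assoc]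
  rw [a1]
  refine h3.trans ?_
  rw [a2]
  exact h4.trans (Q.of_eq h6.symm)

end

end Cfsg.Agent.LyG
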