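import Cfsg.Agent.CosetEnum.Ly.Dce

/-! Facts of the double coset enumeration (generated, owner: helper66). -/

set_option autoImplicit false
set_option maxRecDepth 1000000

namespace Cfsg.Agent.LyG

open Cfsg.Agent.CosetEnum

/-- double coset 0, stabiliser of order 5859000000 -/
def W0 : List ℕ := []

/-- double coset 1, stabiliser of order 300000 -/
def W1 : List ℕ := [14]

/-- double coset 2, stabiliser of order 6048 -/
def W2 : List ℕ := [14, 11, 14]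

/-- double coset 3, stabiliser of order 1008 -/
def W3 : List ℕ := [14, 9, 11, 14]

/-- double coset 4, stabiliser of order 2880 -/
def W4 : List ℕ := [14, 11, 13, 14]

variable {G : Type} [Group G] {g : ℕ → G}

theorem Q.triv (W : List ℕ) : Q g (W ++ []) W := by
  rw [List.append_nil]
  exact Q.refl W

theorem q0 {s : List ℕ} (h : wOK 13 s = true) : Q g (W0 ++ s) W0 := by
  unfold Q
  show ev g s * (ev g [])⁻¹ ∈ Cl g 13
  rw [ev_nil, inv_one, mul_one]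
  exact word_mem_Cl g h

theorem qd {W W' a : List ℕ} (h : W' = W ++ a ++ [14]) : Q g (W ++ a ++ [14]) (W' ++ []) := by
  rw [List.append_nil, h]
  exact Q.refl _

theorem cyc {x y : List ℕ} (h : ev g (x ++ y) = 1) : ev g (y ++ x) = 1 := by
  rw [ev_app] at h ⊢
  rw [mul_eq_one_iff_eq_inv] at h
  rw [h, mul_inv_cancel]

variable (hg : Good g 15 ivG RLG)

include hg

theorem rl {L : List ℕ} (h : RLG.contains (L, 1) = true) : ev g L = 1 := by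
  have := hg.rel (L, 1) (by simpa using h)
  rw [pow_one] at this
  exact this

theorem h0 : ev g ([14] ++ [10, 10, 1, 9, 9] ++ [14] ++ [10, 10, 1, 9, 9] ++ [14] ++ [1, 1, 10, 10, 1, 9, 9]) = 1 := by
  have h := cyc (x := [10, 10, 1, 9, 9]) (y := [14] ++ [10, 10, 1, 9, 9] ++ [14] ++ [10, 10, 1, 9, 9] ++ [14] ++ [1, 1]) (rl hg (by decide +kernel))
  simpa only [List.cons_append, List.nil_append, List.append_assoc] using h

theorem h1 : ev g ([14] ++ [2, 11, 10, 8, 2, 9, 8, 12, 9, 8, 10, 2, 8, 1, 10, 1, 9, 1, 10] ++ [14] ++ [2, 8, 12, 1, 8, 10, 1, 8, 12, 2, 8, 1, 7, 10, 10, 8, 10, 2, 10, 10] ++ [14] ++ [8, 12, 2, 8, 2, 9, 8, 12]) = 1 := by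
  have h := cyc (x := [8, 12, 2, 8, 2, 9, 8, 12]) (y := [14] ++ [2, 11, 10, 8, 2, 9, 8, 12, 9, 8, 10, 2, 8, 1, 10, 1, 9, 1, 10] ++ [14] ++ [2, 8, 12, 1, 8, 10, 1, 8, 12, 2, 8, 1, 7, 10, 10, 8, 10, 2, 10, 10] ++ [14]) (rl hg (by decide +kernel))
  simpa only [List.cons_append, List.nil_append, List.append_assoc] using h

theorem h2' : ev g ([14] ++ ([2, 2] ++ [12]) ++ [14] ++ ([2, 2] ++ [2, 8, 12, 9, 2, 10, 8, 12, 9, 2, 10, 8, 10, 1, 10, 10, 1, 10]) ++ [14] ++ [11] ++ [14] ++ [1, 9, 2, 9, 9, 2, 9, 9, 8, 1, 7, 9, 7, 10, 11, 7, 10, 10, 11, 7, 9, 7]) = 1 := by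
  have h : ev g ([15] ++ [12] ++ [15] ++ [2, 8, 12, 9, 2, 10, 8, 12, 9, 2, 10, 8, 10, 1, 10, 10, 1, 10] ++ [14] ++ [11] ++ [14] ++ [1, 9, 2, 9, 9, 2, 9, 9, 8, 1, 7, 9, 7, 10, 11, 7, 10, 10, 11, 7, 9, 7]) = 1 := rl hg (by decide +kernel)
  simp only [ev_app, zinv hg, mul_assoc] at h ⊢
  exact h

theorem h2 : ev g ([14] ++ [2, 2, 12] ++ [14] ++ [2, 2, 2, 8, 12, 9, 2, 10, 8, 12, 9, 2, 10, 8, 10, 1, 10, 10, 1, 10] ++ [14] ++ [11] ++ [14] ++ [1, 9, 2, 9, 9, 2, 9, 9, 8, 1, 7, 9, 7, 10, 11, 7, 10, 10, 11, 7, 9, 7]) = 1 := h2' hg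

theorem h3' : ev g ([14] ++ [9, 1, 10, 2, 10, 10, 2, 10, 7, 9, 9, 7, 9, 11, 7, 10, 10, 11, 7, 9, 7] ++ [14] ++ [1, 10, 10, 2, 7, 9, 8, 9, 2, 8, 8, 11, 7, 1, 7, 2, 7, 10, 12] ++ [14] ++ ([2, 2] ++ [8, 10, 8, 12, 9, 9, 8, 12, 10, 8, 10, 10, 8, 9, 1, 9, 9, 1, 9, 2, 10]) ++ [14] ++ ([2, 2] ++ [12, 1, 7, 9, 7, 2, 8, 12, 1, 10, 2, 7, 2, 10, 10, 2, 9, 2])) = 1 := by
  have h : ev g ([14] ++ [9, 1, 10, 2, 10, 10, 2, 10, 7, 9, 9, 7, 9, 11, 7, 10, 10, 11, 7, 9, 7] ++ [14] ++ [1, 10, 10, 2, 7, 9, 8, 9, 2, 8, 8, 11, 7, 1, 7, 2, 7, 10, 12] ++ [15] ++ [8, 10, 8, 12, 9, 9, 8, 12, 10, 8, 10, 10, 8, 9, 1, 9, 9, 1, 9, 2, 10] ++ [15] ++ [12, 1, 7, 9, 7, 2, 8, 12, 1, 10, 2, 7, 2, 10, 10, 2, 9, 2]) = 1 := rl hg (by decide +kernel)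
  simp only [ev_app, zinv hg, mul_assoc] at h ⊢
  exact h

theorem h3 : ev g ([14] ++ [9, 1, 10, 2, 10, 10, 2, 10, 7, 9, 9, 7, 9, 11, 7, 10, 10, 11, 7, 9, 7] ++ [14] ++ [1, 10, 10, 2, 7, 9, 8, 9, 2, 8, 8, 11, 7, 1, 7, 2, 7, 10, 12] ++ [14] ++ [2, 2, 8, 10, 8, 12, 9, 9, 8, 12, 10, 8, 10, 10, 8, 9, 1, 9, 9, 1, 9, 2, 10] ++ [14] ++ [2, 2, 12, 1, 7, 9, 7, 2, 8, 12, 1, 10, 2, 7, 2, 10, 10, 2, 9, 2]) = 1 := h3' hg

theorem h4' : ev g ([14] ++ [9, 11] ++ [14] ++ [9, 9, 2, 10, 2, 9, 9, 8, 1, 7, 2, 8, 11, 8, 9, 9, 2, 7, 9] ++ [14] ++ ([2, 2] ++ [12, 10]) ++ [14] ++ ([2, 2] ++ [8, 2, 7, 9, 8, 12, 7, 2, 7, 1, 7, 10, 2, 10, 2, 9])) = 1 := by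
  have h : ev g ([14] ++ [9, 11] ++ [14] ++ [9, 9, 2, 10, 2, 9, 9, 8, 1, 7, 2, 8, 11, 8, 9, 9, 2, 7, 9] ++ [15] ++ [12, 10] ++ [15] ++ [8, 2, 7, 9, 8, 12, 7, 2, 7, 1, 7, 10, 2, 10, 2, 9]) = 1 := rl hg (by decide +kernel)
  simp only [ev_app, zinv hg, mul_assoc] at h ⊢
  exact h

theorem h4 : ev g ([14] ++ [9, 11] ++ [14] ++ [9, 9, 2, 10, 2, 9, 9, 8, 1, 7, 2, 8, 11, 8, 9, 9, 2, 7, 9] ++ [14] ++ [2, 2, 12, 10] ++ [14] ++ [2, 2, 8, 2, 7, 9, 8, 12, 7, 2, 7, 1, 7, 10, 2, 10, 2, 9]) = 1 := h4' hg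

theorem fm0 : ev g [14] = ev g ([5, 3, 2, 9] ++ [14] ++ [5, 3, 2, 9] ++ [14] ++ [5, 3, 2, 9]) :=
  fmA3 hg (h0 hg) (by decide +kernel) (by decide +kernel) (by decide +kernel)

theorem fm6 : ev g [14] = ev g ([8, 1, 3, 13, 2, 9, 13, 5, 12] ++ [14] ++ [8, 3, 1, 8, 9, 5, 13, 1, 5] ++ [14] ++ [13, 1, 1, 10, 8, 1, 8, 1, 10]) :=
  fmA3 hg (h1 hg) (by decide +kernel) (by decide +kernel) (by decide +kernel)

theorem fm7 : ev g [14] = ev g ([6, 4, 9, 7, 6, 7, 13] ++ [14] ++ [11, 8, 3, 9, 11, 7, 9, 13, 7] ++ [14] ++ [8, 12, 2, 8, 1, 9, 7, 7, 11]) :=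
  fmB3 hg (h1 hg) (by decide +kernel) (by decide +kernel) (by decide +kernel)

theorem fm8 : ev g [14] = ev g ([13, 8, 5, 8, 1, 3, 10] ++ [14] ++ [10, 8, 1, 4, 10, 10, 13, 8, 5] ++ [14] ++ [8, 3, 1, 8, 9, 5, 13, 1, 5]) :=
  fmA3 hg (rot3 hg (h1 hg)) (by decide +kernel) (by decide +kernel) (by decide +kernel)

theorem fm9 : ev g [14] = ev g ([11, 8, 3, 9, 11, 7, 9, 13, 7] ++ [14] ++ [8, 1, 11, 8, 2, 9, 8, 12] ++ [14] ++ [1, 1, 3, 10, 8, 5, 13, 8]) :=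
  fmB3 hg (rot3 hg (h1 hg)) (by decide +kernel) (by decide +kernel) (by decide +kernel)

theorem fm10 : ev g [14] = ev g ([9, 3, 8, 2, 9, 7, 13, 3, 7] ++ [14] ++ [13, 1, 1, 10, 8, 1, 8, 1, 10] ++ [14] ++ [10, 8, 1, 4, 10, 10, 13, 8, 5]) :=
  fmA3 hg (rot3 hg (rot3 hg (h1 hg))) (by decide +kernel) (by decide +kernel) (by decide +kernel)

theorem fm11 : ev g [14] = ev g ([8, 1, 11, 8, 2, 9, 8, 12] ++ [14] ++ [6, 4, 9, 7, 6, 7, 13] ++ [14] ++ [4, 13, 8, 10, 1, 7, 10, 7, 5]) :=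
  fmB3 hg (rot3 hg (rot3 hg (h1 hg))) (by decide +kernel) (by decide +kernel) (by decide +kernel)

theorem fm12 : ev g [14] = ev g ([6, 8, 3, 11, 8, 3, 11, 8, 2] ++ [14] ++ [1, 1, 11] ++ [14] ++ [5, 7, 3, 11, 7, 3, 11, 7, 1] ++ [14] ++ [12]) :=
  fmA4 hg (h2 hg) (by decide +kernel) (by decide +kernel) (by decide +kernel) (by decide +kernel)

theorem fm13 : ev g [14] = ev g ([1, 1, 11] ++ [14] ++ [2, 8, 3, 11, 8, 3, 12, 7, 5] ++ [14] ++ [11] ++ [14] ++ [1, 7, 3, 11, 7, 3, 12, 8, 6]) :=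
  fmB4 hg (h2 hg) (by decide +kernel) (by decide +kernel) (by decide +kernel) (by decide +kernel)

theorem fm14 : ev g [14] = ev g ([1, 1, 12] ++ [14] ++ [5, 7, 3, 11, 7, 3, 12, 8, 2] ++ [14] ++ [1, 1, 11] ++ [14] ++ [5, 7, 3, 11, 7, 3, 11, 7, 1]) :=
  fmA4 hg (rot4 hg (h2 hg)) (by decide +kernel) (by decide +kernel) (by decide +kernel) (by decide +kernel)

theorem fm22 : ev g [14] = ev g ([6, 8, 3, 11, 8, 3, 12] ++ [14] ++ [12, 7, 4, 13, 9, 13, 7, 4, 11, 7] ++ [14] ++ [4, 11, 8, 3, 11, 8, 6] ++ [14] ++ [12, 8, 3, 10, 13, 2, 8, 2, 7, 11, 4, 8, 3, 2, 8, 3]) :=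
  fmA4 hg (rot4 hg (h3 hg)) (by decide +kernel) (by decide +kernel) (by decide +kernel) (by decide +kernel)

theorem fm30 : ev g [14] = ev g ([10, 12] ++ [14] ++ [2, 9, 4, 13, 8, 6, 11, 8, 9, 7, 10, 13, 3, 13, 12, 2] ++ [14] ++ [9, 12] ++ [14] ++ [7, 11, 9, 8, 2, 6, 8, 3, 1, 11, 7, 7]) :=
  fmA4 hg (rot4 hg (h4 hg)) (by decide +kernel) (by decide +kernel) (by decide +kernel) (by decide +kernel)

theorem fm32 : ev g [14] = ev g ([8, 8, 13, 12, 6, 4, 13, 7, 6, 4, 8, 13] ++ [14] ++ [1, 1, 10, 11] ++ [14] ++ [7, 1, 9, 11, 13, 7, 7, 4, 13, 7, 13, 12, 13, 10, 1] ++ [14] ++ [9, 12]) :=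
  fmA4 hg (rot4 hg (rot4 hg (h4 hg))) (by decide +kernel) (by decide +kernel) (by decide +kernel) (by decide +kernel)

theorem s0_0 : Q g (W0 ++ [1]) W0 :=
  have _ := hg
  q0 (by decide +kernel)

theorem s0_1 : Q g (W0 ++ [3]) W0 :=
  have _ := hg
  q0 (by decide +kernel)

theorem s0_2 : Q g (W0 ++ [5]) W0 :=
  have _ := hg
  q0 (by decide +kernel)

theorem s0_3 : Q g (W0 ++ [7]) W0 :=
  have _ := hg
  q0 (by decide +kernel)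

theorem s0_4 : Q g (W0 ++ [9]) W0 :=
  have _ := hg
  q0 (by decide +kernel)

theorem s0_5 : Q g (W0 ++ [11]) W0 :=
  have _ := hg
  q0 (by decide +kernel)

theorem s0_6 : Q g (W0 ++ [13]) W0 :=
  have _ := hg
  q0 (by decide +kernel)

theorem u0 : Q g (W0 ++ [] ++ [14]) (W1 ++ []) :=
  have _ := hg
  qd rfl

theorem u1 : Q g (W1 ++ [] ++ [14]) (W0 ++ [1, 1]) :=
  rv hg (u0 hg) (by decide +kernel) (by decide +kernel)

theorem u2 : Q g (W1 ++ [9] ++ [14]) (W1 ++ [5, 3, 2, 9]) :=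
  ap3 (fm0 hg)
    (mv hg (u1 hg) (Q.triv (W1)) (v := [1, 3, 6]) (by decide +kernel) (by decide +kernel))
    (mv hg (u0 hg) (s0_4 hg) (v := []) (by decide +kernel) (by decide +kernel))
    (eqW hg (by decide +kernel))

theorem u3 : Q g (W1 ++ [13, 6] ++ [14]) (W1 ++ [1, 6, 13, 1, 8, 2, 8, 13, 10, 2]) :=
  ap3 (fm11 hg)
    (mv hg (u1 hg) (Q.triv (W1)) (v := [2, 6, 4, 7, 2, 8, 6, 8]) (by decide +kernel) (by decide +kernel))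
    (mv hg (u0 hg) (((s0_4 hg).inv hg).comp ((s0_3 hg).comp ((s0_2 hg).comp (s0_6 hg)))) (v := [8, 5, 2, 7, 3]) (by decide +kernel) (by decide +kernel))
    (eqW hg (by decide +kernel))

theorem u4 : Q g (W1 ++ [11] ++ [14]) (W2 ++ []) :=
  have _ := hg
  qd rfl

theorem u5 : Q g (W2 ++ [] ++ [14]) (W1 ++ [1, 1, 12]) :=
  rv hg (u4 hg) (by decide +kernel) (by decide +kernel)

theorem u9 : Q g (W1 ++ [9, 11] ++ [14]) (W3 ++ []) :=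
  have _ := hg
  qd rfl

theorem u10 : Q g (W3 ++ [] ++ [14]) (W1 ++ [1, 1, 9, 12]) :=
  rv hg (u9 hg) (by decide +kernel) (by decide +kernel)

theorem u13 : Q g (W2 ++ [9] ++ [14]) (W3 ++ [5, 3, 2, 9]) :=
  ap3 (fm0 hg)
    (mv hg (u5 hg) (Q.triv (W2)) (v := [1, 3, 6]) (by decide +kernel) (by decide +kernel))
    (mv hg (u9 hg) (Q.triv (W1)) (v := []) (by decide +kernel) (by decide +kernel))
    (eqW hg (by decide +kernel))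

theorem u14 : Q g (W3 ++ [5, 3, 2, 9] ++ [14]) (W2 ++ [1, 1, 9]) :=
  rv hg (u13 hg) (by decide +kernel) (by decide +kernel)

theorem u34 : Q g (W1 ++ [11, 13] ++ [14]) (W4 ++ []) :=
  have _ := hg
  qd rfl

theorem u35 : Q g (W4 ++ [] ++ [14]) (W1 ++ [11, 13, 1, 1]) :=
  rv hg (u34 hg) (by decide +kernel) (by decide +kernel)

theorem s1_0 : Q g (W1 ++ [1, 11, 11]) W1 :=
  df hg (u0 hg) (u0 hg) ((s0_0 hg).inv hg) (v := [1]) (by decide +kernel) (by decide +kernel) (by decide +kernel)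

theorem s1_1 : Q g (W1 ++ [2, 2, 4]) W1 :=
  df hg (u0 hg) (u0 hg) ((s0_1 hg).inv hg) (v := [3]) (by decide +kernel) (by decide +kernel) (by decide +kernel)

theorem s1_2 : Q g (W1 ++ [1, 5, 2]) W1 :=
  df hg (u0 hg) (u0 hg) ((s0_2 hg).inv hg) (v := [5]) (by decide +kernel) (by decide +kernel) (by decide +kernel)

theorem s1_3 : Q g (W1 ++ [2, 6, 8, 2, 9, 8, 4, 10]) W1 :=
  df hg (u0 hg) (u0 hg) ((s0_3 hg).inv hg) (v := [7]) (by decide +kernel) (by decide +kernel) (by decide +kernel)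

theorem s2_0 : Q g (W2 ++ [1, 11, 11]) W2 :=
  df hg (u4 hg) (u4 hg) (s1_0 hg) (v := [1]) (by decide +kernel) (by decide +kernel) (by decide +kernel)

theorem s2_1 : Q g (W2 ++ [2, 2, 4]) W2 :=
  df hg (u4 hg) (u4 hg) (s1_1 hg) (v := [3]) (by decide +kernel) (by decide +kernel) (by decide +kernel)

theorem s2_2 : Q g (W2 ++ [1, 5, 2]) W2 :=
  df hg (u4 hg) (u4 hg) (s1_2 hg) (v := [5]) (by decide +kernel) (by decide +kernel) (by decide +kernel)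

theorem s3_0 : Q g (W3 ++ [1]) W3 :=
  df hg (u9 hg) (u9 hg) (((s1_0 hg).inv hg).comp (((s1_1 hg).inv hg).comp (((s1_2 hg).inv hg).comp ((s1_0 hg).comp ((s1_2 hg).comp ((s1_1 hg).comp (s1_0 hg))))))) (v := [2, 2, 2]) (by decide +kernel) (by decide +kernel) (by decide +kernel)

theorem s3_1 : Q g (W3 ++ [3]) W3 :=
  df hg (u9 hg) (u9 hg) (((s1_0 hg).inv hg).comp (((s1_1 hg).inv hg).comp (((s1_2 hg).inv hg).comp ((s1_1 hg).comp ((s1_2 hg).comp ((s1_1 hg).comp (s1_0 hg))))))) (v := [2, 2, 4]) (by decide +kernel) (by decide +kernel) (by decide +kernel)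

theorem s4_0 : Q g (W4 ++ [4, 8, 1, 4, 8, 6, 8, 3, 8]) W4 :=
  df hg (u34 hg) (u34 hg) ((s1_0 hg).comp ((s1_3 hg).comp (((s1_2 hg).inv hg).comp ((s1_0 hg).comp ((s1_3 hg).comp (((s1_1 hg).inv hg).comp ((s1_0 hg).comp ((s1_1 hg).comp (((s1_3 hg).inv hg).comp ((s1_2 hg).comp ((s1_3 hg).comp (s1_1 hg)))))))))))) (v := [1, 7, 3, 7, 1, 8, 5, 4]) (by decide +kernel) (by decide +kernel) (by decide +kernel)

theorem s4_1 : Q g (W4 ++ [2, 2, 2, 8, 1, 8, 6, 7, 5]) W4 :=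
  df hg (u34 hg) (u34 hg) (((s1_0 hg).inv hg).comp ((s1_2 hg).comp ((s1_3 hg).comp ((s1_2 hg).comp ((s1_3 hg).comp ((s1_3 hg).comp ((s1_1 hg).comp ((s1_1 hg).comp (((s1_3 hg).inv hg).comp ((s1_2 hg).comp ((s1_3 hg).comp (s1_1 hg)))))))))))) (v := [7, 2, 4, 7, 3, 8, 2]) (by decide +kernel) (by decide +kernel) (by decide +kernel)

theorem u6 : Q g (W1 ++ [11] ++ [14]) (W2 ++ [13, 2, 5, 10, 1, 7, 11, 7, 2]) :=
  ap4 (fm13 hg)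
    (mv hg (u1 hg) (Q.triv (W1)) (v := [1, 1]) (by decide +kernel) (by decide +kernel))
    (mv hg (u0 hg) ((s0_5 hg).comp ((s0_0 hg).comp (((s0_3 hg).inv hg).comp (s0_6 hg)))) (v := [4, 6, 7, 4, 8, 4]) (by decide +kernel) (by decide +kernel))
    (mv hg (u4 hg) ((s1_1 hg).comp ((s1_2 hg).comp (((s1_3 hg).inv hg).comp (((s1_1 hg).inv hg).comp (s1_3 hg))))) (v := [2, 2, 4]) (by decide +kernel) (by decide +kernel))
    (eqW hg (by decide +kernel))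

theorem u7 : Q g (W2 ++ [13, 2, 5, 10, 1, 7, 11, 7, 2] ++ [14]) (W1 ++ [1, 1, 12]) :=
  rv hg (u6 hg) (by decide +kernel) (by decide +kernel)

theorem u11 : Q g (W1 ++ [9, 11] ++ [14]) (W3 ++ [13, 8, 11, 8, 13, 12, 13, 8, 8, 1]) :=
  ap4 (fm30 hg)
    (mv hg (u1 hg) (Q.triv (W1)) (v := []) (by decide +kernel) (by decide +kernel))
    (mv hg (u0 hg) ((s0_3 hg).comp (((s0_0 hg).inv hg).comp (((s0_3 hg).inv hg).comp ((s0_4 hg).comp ((s0_3 hg).comp ((s0_5 hg).comp (s0_4 hg))))))) (v := [4, 6, 8, 1, 7, 3, 7]) (by decide +kernel) (by decide +kernel))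
    (mv hg (u9 hg) ((s1_3 hg).comp (((s1_0 hg).inv hg).comp ((s1_1 hg).comp ((s1_3 hg).comp (((s1_2 hg).inv hg).comp ((s1_0 hg).comp (s1_3 hg))))))) (v := [1, 1, 1, 3]) (by decide +kernel) (by decide +kernel))
    (eqW hg (by decide +kernel))

theorem u12 : Q g (W3 ++ [13, 8, 11, 8, 13, 12, 13, 8, 8, 1] ++ [14]) (W1 ++ [1, 1, 9, 12]) :=
  rv hg (u11 hg) (by decide +kernel) (by decide +kernel)

theorem u19 : Q g (W3 ++ [9] ++ [14]) (W3 ++ [1, 1, 9]) :=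
  ap3 (fm0 hg)
    (mv hg (u10 hg) (Q.triv (W3)) (v := [1, 3, 6]) (by decide +kernel) (by decide +kernel))
    (mv hg (u9 hg) (s1_0 hg) (v := [2, 4, 6]) (by decide +kernel) (by decide +kernel))
    (eqW hg (by decide +kernel))

theorem u36 : Q g (W1 ++ [13, 11] ++ [14]) (W4 ++ [8, 8, 1, 6, 9, 6, 13, 4, 8]) :=
  ap3 (fm8 hg)
    (mv hg (u3 hg) (((s1_1 hg).inv hg).comp ((s1_0 hg).inv hg)) (v := [1, 3, 5, 8, 3, 8, 3, 8, 1]) (by decide +kernel) (by decide +kernel))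
    (mv hg (u34 hg) (((s1_3 hg).inv hg).comp ((s1_1 hg).inv hg)) (v := [7, 4, 7, 3, 6, 8, 4, 8]) (by decide +kernel) (by decide +kernel))
    (eqW hg (by decide +kernel))

theorem u37 : Q g (W4 ++ [8, 8, 1, 6, 9, 6, 13, 4, 8] ++ [14]) (W1 ++ [13, 1, 1, 12]) :=
  rv hg (u36 hg) (by decide +kernel) (by decide +kernel)

theorem u38 : Q g (W1 ++ [11, 7, 11] ++ [14]) (W4 ++ [5, 7, 3, 2, 7, 9, 7, 9, 13]) :=
  ap3 (fm9 hg)
    (mv hg (u3 hg) (((s1_2 hg).inv hg).comp ((s1_0 hg).inv hg)) (v := [2, 4, 2, 7, 1, 8, 5, 8, 2]) (by decide +kernel) (by decide +kernel))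
    (mv hg (u34 hg) (((s1_1 hg).inv hg).comp ((s1_0 hg).comp (((s1_3 hg).inv hg).comp (s1_0 hg)))) (v := [2, 8, 6, 4, 8, 2, 7, 3]) (by decide +kernel) (by decide +kernel))
    (eqW hg (by decide +kernel))

theorem u39 : Q g (W4 ++ [5, 7, 3, 2, 7, 9, 7, 9, 13] ++ [14]) (W1 ++ [11, 7, 1, 1, 12]) :=
  rv hg (u38 hg) (by decide +kernel) (by decide +kernel)

theorem u58 : Q g (W4 ++ [9] ++ [14]) (W4 ++ [10, 3, 8, 10, 10, 1, 7, 6]) :=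
  ap3 (fm0 hg)
    (mv hg (u35 hg) (Q.triv (W4)) (v := [1, 3, 6]) (by decide +kernel) (by decide +kernel))
    (mv hg (u34 hg) (((s1_1 hg).inv hg).comp (((s1_2 hg).inv hg).comp (s1_0 hg))) (v := [6, 7, 1, 7, 3, 6, 8, 1, 4]) (by decide +kernel) (by decide +kernel))
    (eqW hg (by decide +kernel))

theorem s2_3 : Q g (W2 ++ [11, 2, 8, 10, 1, 3, 13, 6, 10]) W2 :=
  df hg (u4 hg) (u6 hg) (Q.triv (W1)) (v := []) (by decide +kernel) (by decide +kernel) (by decide +kernel)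

theorem s3_2 : Q g (W3 ++ [2, 7, 7, 13, 11, 13, 7, 12, 7, 13]) W3 :=
  df hg (u9 hg) (u11 hg) (Q.triv (W1)) (v := []) (by decide +kernel) (by decide +kernel) (by decide +kernel)

theorem s4_2 : Q g (W4 ++ [12, 12, 10, 7, 7, 13, 12, 13, 7, 6]) W4 :=
  df hg (u34 hg) (u36 hg) (((s1_3 hg).inv hg).comp ((s1_2 hg).comp (((s1_3 hg).inv hg).comp (((s1_1 hg).inv hg).comp ((s1_3 hg).comp ((s1_3 hg).comp (((s1_2 hg).inv hg).comp (((s1_0 hg).inv hg).comp ((s1_3 hg).comp (s1_0 hg)))))))))) (v := [8, 2, 8, 2, 4, 2, 8]) (by decide +kernel) (by decide +kernel) (by decide +kernel)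

theorem s4_3 : Q g (W4 ++ [9, 2, 4, 13, 1, 10, 10, 8, 3]) W4 :=
  df hg (u34 hg) (u38 hg) (((s1_3 hg).inv hg).comp (((s1_1 hg).inv hg).comp (((s1_2 hg).inv hg).comp (((s1_3 hg).inv hg).comp ((s1_0 hg).comp ((s1_1 hg).comp (((s1_3 hg).inv hg).comp ((s1_1 hg).comp ((s1_3 hg).comp (s1_1 hg)))))))))) (v := [8, 1, 7, 5, 4, 7, 1, 7, 4]) (by decide +kernel) (by decide +kernel) (by decide +kernel)

theorem u8 : Q g (W2 ++ [9, 11] ++ [14]) (W2 ++ [4, 9, 7, 9, 7, 13, 3]) :=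
  ap3 (fm8 hg)
    (mv hg (u5 hg) ((s2_2 hg).comp (s2_3 hg)) (v := [1, 8, 6, 8, 3, 8, 1, 8, 4]) (by decide +kernel) (by decide +kernel))
    (mv hg (u4 hg) (((s1_1 hg).inv hg).comp ((s1_0 hg).comp ((s1_3 hg).inv hg))) (v := [1, 6, 7, 1, 8]) (by decide +kernel) (by decide +kernel))
    (eqW hg (by decide +kernel))

theorem u15 : Q g (W2 ++ [10, 7, 12] ++ [14]) (W3 ++ [7, 7, 9, 3, 1, 13, 2, 8, 6, 4, 7]) :=
  ap3 (fm6 hg)
    (mv hg (u8 hg) ((s2_1 hg).comp (((s2_3 hg).inv hg).comp (((s2_1 hg).inv hg).comp (s2_3 hg)))) (v := [6, 8, 1, 3, 7, 6, 8, 6]) (by decide +kernel) (by decide +kernel))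
    (mv hg (u13 hg) (((s2_0 hg).inv hg).comp (s2_3 hg)) (v := [5, 2, 8, 3, 8, 2, 7]) (by decide +kernel) (by decide +kernel))
    (eqW hg (by decide +kernel))

theorem u16 : Q g (W3 ++ [7, 7, 9, 3, 1, 13, 2, 8, 6, 4, 7] ++ [14]) (W2 ++ [10, 7, 1, 1, 11]) :=
  rv hg (u15 hg) (by decide +kernel) (by decide +kernel)

theorem u17 : Q g (W2 ++ [7, 13, 11] ++ [14]) (W3 ++ [7, 1, 13, 2, 4, 13, 8, 3, 5, 9, 13]) :=
  ap4 (fm32 hg)
    (mv hg (u15 hg) ((s2_1 hg).comp ((s2_3 hg).comp (((s2_1 hg).inv hg).comp (((s2_3 hg).inv hg).comp (s2_0 hg))))) (v := [1, 3, 2, 8, 5, 7, 1, 3, 1]) (by decide +kernel) (by decide +kernel))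
    (mv hg (u16 hg) (((s3_0 hg).inv hg).comp ((s3_2 hg).comp ((s3_0 hg).comp (((s3_2 hg).inv hg).comp (s3_0 hg))))) (v := [8, 1, 3, 2, 7, 6, 8, 4, 7]) (by decide +kernel) (by decide +kernel))
    (mv hg (u15 hg) (((s2_2 hg).inv hg).comp ((s2_3 hg).comp ((s2_3 hg).comp ((s2_0 hg).comp (s2_3 hg))))) (v := [1, 5, 7, 4, 8, 2, 8, 5, 3]) (by decide +kernel) (by decide +kernel))
    (eqW hg (by decide +kernel))

theorem u18 : Q g (W3 ++ [7, 1, 13, 2, 4, 13, 8, 3, 5, 9, 13] ++ [14]) (W2 ++ [7, 13, 1, 1, 12]) :=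
  rv hg (u17 hg) (by decide +kernel) (by decide +kernel)

theorem u20 : Q g (W3 ++ [5, 13] ++ [14]) (W3 ++ [6, 4, 13, 8, 10, 1, 8, 6]) :=
  ap3 (fm8 hg)
    (mv hg (u14 hg) (Q.triv (W3)) (v := [1, 7, 3, 5, 7, 3, 2]) (by decide +kernel) (by decide +kernel))
    (mv hg (u15 hg) (((s2_3 hg).inv hg).comp (((s2_0 hg).inv hg).comp ((s2_1 hg).comp (s2_0 hg)))) (v := [8, 2, 7, 5, 7, 4, 2, 8]) (by decide +kernel) (by decide +kernel))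
    (eqW hg (by decide +kernel))

theorem u21 : Q g (W3 ++ [13, 11] ++ [14]) (W3 ++ [2, 13, 9, 1, 13, 10, 13, 4, 13, 3]) :=
  ap3 (fm8 hg)
    (mv hg (u20 hg) (((s3_0 hg).inv hg).comp ((s3_1 hg).inv hg)) (v := [6, 7, 1, 3, 8, 1, 5, 7]) (by decide +kernel) (by decide +kernel))
    (mv hg (u20 hg) ((s3_0 hg).comp (((s3_2 hg).inv hg).comp (((s3_0 hg).inv hg).comp (((s3_2 hg).inv hg).comp (((s3_0 hg).inv hg).comp ((s3_0 hg).inv hg)))))) (v := [1, 6, 8, 1, 4, 7, 5, 3]) (by decide +kernel) (by decide +kernel))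
    (eqW hg (by decide +kernel))

theorem u22 : Q g (W3 ++ [7, 2, 13] ++ [14]) (W3 ++ [9, 6, 7, 2, 3, 1, 13, 6, 8, 5, 3]) :=
  ap3 (fm0 hg)
    (mv hg (u16 hg) (((s3_0 hg).inv hg).comp ((s3_0 hg).inv hg)) (v := [1, 5, 3, 8, 5, 7, 3]) (by decide +kernel) (by decide +kernel))
    (mv hg (u15 hg) (((s2_1 hg).inv hg).comp (((s2_3 hg).inv hg).comp ((s2_0 hg).comp (((s2_3 hg).inv hg).comp (((s2_2 hg).inv hg).comp ((s2_0 hg).inv hg)))))) (v := [6, 4, 7, 6, 7, 1, 4]) (by decide +kernel) (by decide +kernel))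
    (eqW hg (by decide +kernel))

theorem u23 : Q g (W3 ++ [9, 6, 7, 2, 3, 1, 13, 6, 8, 5, 3] ++ [14]) (W3 ++ [7, 2, 13, 1, 1]) :=
  rv hg (u22 hg) (by decide +kernel) (by decide +kernel)

theorem u24 : Q g (W3 ++ [7, 12, 13] ++ [14]) (W3 ++ [5, 10, 3, 7, 4, 2, 13, 8, 11, 7, 11, 13]) :=
  ap3 (fm10 hg)
    (mv hg (u16 hg) (((s3_2 hg).inv hg).comp ((s3_1 hg).comp ((s3_2 hg).comp (((s3_0 hg).inv hg).comp (((s3_2 hg).inv hg).comp ((s3_0 hg).comp ((s3_0 hg).comp (s3_0 hg)))))))) (v := [8, 2, 7, 5, 4, 8, 5, 7]) (by decide +kernel) (by decide +kernel))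
    (mv hg (u17 hg) (((s2_3 hg).inv hg).comp (((s2_2 hg).inv hg).comp (((s2_1 hg).inv hg).comp (((s2_0 hg).inv hg).comp ((s2_3 hg).inv hg))))) (v := [3, 5, 2, 8, 3, 8, 1, 8]) (by decide +kernel) (by decide +kernel))
    (eqW hg (by decide +kernel))

theorem u25 : Q g (W3 ++ [7, 13, 11] ++ [14]) (W3 ++ [7, 1, 9, 13, 6, 7, 7, 10, 7, 10, 12]) :=
  ap4 (fm12 hg)
    (mv hg (u21 hg) (((s3_2 hg).inv hg).comp ((s3_0 hg).comp (((s3_2 hg).inv hg).comp ((s3_0 hg).comp ((s3_2 hg).comp (s3_0 hg)))))) (v := [3, 8, 4, 7, 5, 8, 3]) (by decide +kernel) (by decide +kernel))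
    (mv hg (u23 hg) (((s3_0 hg).inv hg).comp ((s3_2 hg).comp ((s3_0 hg).comp (s3_2 hg)))) (v := [3, 5, 7, 1, 7, 4, 2]) (by decide +kernel) (by decide +kernel))
    (mv hg (u23 hg) (((s3_2 hg).inv hg).comp (((s3_0 hg).inv hg).comp ((s3_2 hg).comp ((s3_0 hg).comp ((s3_0 hg).comp (s3_0 hg)))))) (v := [2, 4, 7, 1, 7, 5, 8]) (by decide +kernel) (by decide +kernel))
    (eqW hg (by decide +kernel))

theorem u26 : Q g (W3 ++ [7, 1, 9, 13, 6, 7, 7, 10, 7, 10, 12] ++ [14]) (W3 ++ [7, 13, 1, 1, 12]) :=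
  rv hg (u25 hg) (by decide +kernel) (by decide +kernel)

theorem u27 : Q g (W3 ++ [8, 6, 13] ++ [14]) (W3 ++ [7, 2, 13, 3, 2, 7, 9, 6, 8, 5]) :=
  ap3 (fm0 hg)
    (mv hg (u23 hg) ((s3_0 hg).comp ((s3_1 hg).comp (s3_0 hg))) (v := [3, 1, 8, 5, 7, 4, 6, 4]) (by decide +kernel) (by decide +kernel))
    (mv hg (u23 hg) (((s3_0 hg).inv hg).comp ((s3_0 hg).inv hg)) (v := [8, 6, 7, 3, 7, 3, 7]) (by decide +kernel) (by decide +kernel))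
    (eqW hg (by decide +kernel))

theorem u28 : Q g (W3 ++ [10, 13, 11] ++ [14]) (W3 ++ [12, 1, 13, 1, 1, 5, 8, 13, 9, 12, 8, 1]) :=
  ap3 (fm0 hg)
    (mv hg (u26 hg) ((s3_2 hg).comp ((s3_0 hg).comp (((s3_2 hg).inv hg).comp ((s3_0 hg).comp ((s3_2 hg).comp ((s3_0 hg).comp (s3_0 hg))))))) (v := [2, 7, 6, 7, 3, 5, 8, 2, 4]) (by decide +kernel) (by decide +kernel))
    (mv hg (u25 hg) ((s3_1 hg).comp ((s3_2 hg).comp ((s3_0 hg).comp ((s3_2 hg).comp (s3_0 hg))))) (v := [1, 7, 3, 8, 5, 3, 8, 2, 7]) (by decide +kernel) (by decide +kernel))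
    (eqW hg (by decide +kernel))

theorem u29 : Q g (W3 ++ [13, 4, 13] ++ [14]) (W3 ++ [7, 13, 9, 5, 11, 7, 2, 7, 10, 7]) :=
  ap3 (fm0 hg)
    (mv hg (u28 hg) (((s3_2 hg).inv hg).comp (((s3_0 hg).inv hg).comp (((s3_2 hg).inv hg).comp (((s3_1 hg).inv hg).comp (((s3_0 hg).inv hg).comp ((s3_0 hg).inv hg)))))) (v := [3, 8, 5, 3, 7, 5, 8, 8]) (by decide +kernel) (by decide +kernel))
    (mv hg (u26 hg) ((s3_0 hg).comp ((s3_2 hg).comp ((s3_0 hg).comp ((s3_0 hg).comp ((s3_0 hg).comp ((s3_2 hg).comp (s3_0 hg))))))) (v := [1, 1, 7, 5, 7, 5, 7, 4]) (by decide +kernel) (by decide +kernel))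
    (eqW hg (by decide +kernel))

theorem u30 : Q g (W3 ++ [7, 13, 9, 5, 11, 7, 2, 7, 10, 7] ++ [14]) (W3 ++ [13, 4, 13, 1, 1]) :=
  rv hg (u29 hg) (by decide +kernel) (by decide +kernel)

theorem u31 : Q g (W3 ++ [13, 7, 11] ++ [14]) (W3 ++ [7, 13, 12, 7, 3, 2, 9, 7, 2, 7]) :=
  ap3 (fm0 hg)
    (mv hg (u25 hg) ((s3_2 hg).comp ((s3_1 hg).comp ((s3_2 hg).comp (s3_0 hg)))) (v := [1, 6, 4, 7, 5, 8, 5, 7, 7]) (by decide +kernel) (by decide +kernel))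
    (mv hg (u26 hg) ((s3_0 hg).comp ((s3_2 hg).comp ((s3_0 hg).comp ((s3_0 hg).comp ((s3_0 hg).comp ((s3_2 hg).comp (s3_0 hg))))))) (v := [2, 7, 2, 8, 1, 7, 5]) (by decide +kernel) (by decide +kernel))
    (eqW hg (by decide +kernel))

theorem u32 : Q g (W3 ++ [13, 9, 11] ++ [14]) (W3 ++ [13, 7, 12, 4, 2, 3, 9, 13, 5, 11, 8, 11]) :=
  ap3 (fm8 hg)
    (mv hg (u20 hg) (((s3_0 hg).inv hg).comp ((s3_1 hg).inv hg)) (v := [6, 7, 1, 7, 3, 8, 1, 5]) (by decide +kernel) (by decide +kernel))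
    (mv hg (u29 hg) (s3_0 hg) (v := [1, 8, 6, 4, 8, 6, 7]) (by decide +kernel) (by decide +kernel))
    (eqW hg (by decide +kernel))

theorem u33 : Q g (W3 ++ [13, 7, 12, 4, 2, 3, 9, 13, 5, 11, 8, 11] ++ [14]) (W3 ++ [13, 1, 1, 9, 12]) :=
  rv hg (u32 hg) (by decide +kernel) (by decide +kernel)

theorem u40 : Q g (W1 ++ [11, 7, 11] ++ [14]) (W4 ++ [8, 6, 4, 8, 1, 4, 7, 7, 12]) :=
  ap4 (fm12 hg)
    (mv hg (u9 hg) ((s1_2 hg).comp ((s1_3 hg).comp ((s1_1 hg).comp (s1_0 hg)))) (v := [5, 7, 2, 8, 3, 7, 2]) (by decide +kernel) (by decide +kernel))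
    (mv hg (u12 hg) ((s3_2 hg).comp (s3_0 hg)) (v := [3, 5, 8, 8, 3, 8, 1, 4, 8]) (by decide +kernel) (by decide +kernel))
    (mv hg (u34 hg) (((s1_3 hg).inv hg).comp ((s1_1 hg).comp (s1_2 hg))) (v := [7, 5, 8, 4, 2, 7, 7, 4]) (by decide +kernel) (by decide +kernel))
    (eqW hg (by decide +kernel))

theorem u41 : Q g (W4 ++ [8, 6, 4, 8, 1, 4, 7, 7, 12] ++ [14]) (W1 ++ [11, 7, 1, 1, 12]) :=
  rv hg (u40 hg) (by decide +kernel) (by decide +kernel)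

theorem u42 : Q g (W2 ++ [11] ++ [14]) (W4 ++ [4, 7, 4, 2, 9, 6, 7, 13, 4, 11]) :=
  ap3 (fm8 hg)
    (mv hg (u5 hg) ((s2_2 hg).comp (s2_3 hg)) (v := [1, 8, 5, 7, 1, 7, 4, 2]) (by decide +kernel) (by decide +kernel))
    (mv hg (u36 hg) (((s1_3 hg).inv hg).comp ((s1_2 hg).comp (((s1_3 hg).inv hg).comp ((s1_0 hg).inv hg)))) (v := [8, 3, 8, 2, 7, 2, 6, 7]) (by decide +kernel) (by decide +kernel))
    (eqW hg (by decide +kernel))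

theorem u43 : Q g (W4 ++ [4, 7, 4, 2, 9, 6, 7, 13, 4, 11] ++ [14]) (W2 ++ [1, 1, 12]) :=
  rv hg (u42 hg) (by decide +kernel) (by decide +kernel)

theorem u44 : Q g (W2 ++ [7, 1, 9, 13] ++ [14]) (W4 ++ [9, 7, 5, 8, 3, 2, 12, 13, 1, 11, 7]) :=
  ap4 (fm22 hg)
    (mv hg (u17 hg) (((s2_2 hg).inv hg).comp ((s2_3 hg).comp ((s2_1 hg).comp (((s2_3 hg).inv hg).comp (((s2_3 hg).inv hg).comp (s2_0 hg)))))) (v := [7, 1, 5, 8, 4, 7, 1]) (by decide +kernel) (by decide +kernel))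
    (mv hg (u10 hg) (Q.triv (W3)) (v := [7, 1, 7, 3, 5]) (by decide +kernel) (by decide +kernel))
    (mv hg (u34 hg) ((s1_0 hg).comp ((s1_3 hg).comp ((s1_3 hg).comp (s1_0 hg)))) (v := [1, 3, 5, 7, 2, 8, 1, 3, 8]) (by decide +kernel) (by decide +kernel))
    (eqW hg (by decide +kernel))

theorem u45 : Q g (W4 ++ [9, 7, 5, 8, 3, 2, 12, 13, 1, 11, 7] ++ [14]) (W2 ++ [7, 1, 9, 13, 1, 1]) :=
  rv hg (u44 hg) (by decide +kernel) (by decide +kernel)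

theorem u46 : Q g (W2 ++ [7, 2, 7, 11] ++ [14]) (W4 ++ [5, 3, 13, 9, 5, 13, 1, 12, 13, 3, 7]) :=
  ap4 (fm14 hg)
    (mv hg (u5 hg) (Q.triv (W2)) (v := [7, 2, 7, 2, 2]) (by decide +kernel) (by decide +kernel))
    (mv hg (u4 hg) ((s1_3 hg).comp ((s1_0 hg).comp ((s1_1 hg).comp ((s1_3 hg).comp (((s1_0 hg).inv hg).comp (((s1_3 hg).inv hg).comp (((s1_0 hg).inv hg).comp (s1_3 hg)))))))) (v := [5, 7, 2, 8, 6, 8, 4, 7]) (by decide +kernel) (by decide +kernel))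
    (mv hg (u44 hg) (((s2_3 hg).inv hg).comp (((s2_3 hg).inv hg).comp ((s2_0 hg).comp ((s2_3 hg).comp (s2_1 hg))))) (v := [1, 7, 3, 5, 7, 4, 8, 2]) (by decide +kernel) (by decide +kernel))
    (eqW hg (by decide +kernel))

theorem u47 : Q g (W4 ++ [5, 3, 13, 9, 5, 13, 1, 12, 13, 3, 7] ++ [14]) (W2 ++ [7, 1, 8, 8, 12]) :=
  rv hg (u46 hg) (by decide +kernel) (by decide +kernel)

theorem u48 : Q g (W3 ++ [8, 13] ++ [14]) (W4 ++ [7, 12, 10, 6, 8, 2, 4, 6, 13, 4, 13, 7]) :=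
  ap3 (fm7 hg)
    (mv hg (u16 hg) (((s3_0 hg).inv hg).comp (((s3_0 hg).inv hg).comp ((s3_0 hg).inv hg))) (v := [1, 3, 2, 8, 2, 4, 6, 8, 4]) (by decide +kernel) (by decide +kernel))
    (mv hg (u42 hg) ((s2_1 hg).comp (((s2_3 hg).inv hg).comp ((s2_1 hg).comp (s2_3 hg)))) (v := [3, 2, 8, 2, 7, 1, 3, 6]) (by decide +kernel) (by decide +kernel))
    (eqW hg (by decide +kernel))

theorem u49 : Q g (W4 ++ [7, 12, 10, 6, 8, 2, 4, 6, 13, 4, 13, 7] ++ [14]) (W3 ++ [8, 13, 1, 1]) :=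
  rv hg (u48 hg) (by decide +kernel) (by decide +kernel)

theorem u50 : Q g (W3 ++ [7, 1, 13] ++ [14]) (W4 ++ [3, 13, 5, 8, 2, 11, 13, 8, 5, 4, 12]) :=
  ap3 (fm6 hg)
    (mv hg (u18 hg) (((s3_2 hg).inv hg).comp ((s3_0 hg).comp ((s3_2 hg).comp (s3_0 hg)))) (v := [3, 8, 5, 8, 1, 4, 7, 2, 7]) (by decide +kernel) (by decide +kernel))
    (mv hg (u46 hg) (((s2_3 hg).inv hg).comp ((s2_2 hg).comp (((s2_3 hg).inv hg).comp ((s2_1 hg).inv hg)))) (v := [8, 5, 7, 7, 1, 7, 5]) (by decide +kernel) (by decide +kernel))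
    (eqW hg (by decide +kernel))

theorem u51 : Q g (W4 ++ [3, 13, 5, 8, 2, 11, 13, 8, 5, 4, 12] ++ [14]) (W3 ++ [7, 1, 13, 1, 1]) :=
  rv hg (u50 hg) (by decide +kernel) (by decide +kernel)

theorem u52 : Q g (W3 ++ [7, 11, 13] ++ [14]) (W4 ++ [9, 13, 4, 7, 4, 6, 13, 1, 13, 2, 13, 4]) :=
  ap3 (fm11 hg)
    (mv hg (u18 hg) ((s3_2 hg).comp ((s3_0 hg).comp (((s3_2 hg).inv hg).comp ((s3_0 hg).comp (((s3_2 hg).inv hg).comp ((s3_0 hg).comp (s3_2 hg))))))) (v := [3, 6, 8, 5, 8, 5, 8, 4]) (by decide +kernel) (by decide +kernel))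
    (mv hg (u46 hg) ((s2_0 hg).comp ((s2_0 hg).comp ((s2_3 hg).comp (((s2_0 hg).inv hg).comp (s2_3 hg))))) (v := [5, 7, 1, 8, 1, 7, 3, 7]) (by decide +kernel) (by decide +kernel))
    (eqW hg (by decide +kernel))

theorem u53 : Q g (W4 ++ [9, 13, 4, 7, 4, 6, 13, 1, 13, 2, 13, 4] ++ [14]) (W3 ++ [7, 11, 13, 1, 1]) :=
  rv hg (u52 hg) (by decide +kernel) (by decide +kernel)

theorem u54 : Q g (W3 ++ [9, 7, 11] ++ [14]) (W4 ++ [2, 8, 11, 9, 8, 6, 8, 1, 4, 8]) :=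
  ap3 (fm6 hg)
    (mv hg (u20 hg) ((s3_1 hg).comp ((s3_2 hg).comp (((s3_0 hg).inv hg).comp (s3_2 hg)))) (v := [1, 7, 6, 4, 8, 1, 7, 3, 7]) (by decide +kernel) (by decide +kernel))
    (mv hg (u52 hg) (((s3_0 hg).inv hg).comp ((s3_2 hg).comp ((s3_1 hg).comp ((s3_2 hg).inv hg)))) (v := [1, 7, 1, 3, 7, 5, 8, 5]) (by decide +kernel) (by decide +kernel))
    (eqW hg (by decide +kernel))

theorem u55 : Q g (W4 ++ [2, 8, 11, 9, 8, 6, 8, 1, 4, 8] ++ [14]) (W3 ++ [9, 7, 1, 1, 12]) :=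
  rv hg (u54 hg) (by decide +kernel) (by decide +kernel)

theorem u56 : Q g (W3 ++ [10, 7, 11] ++ [14]) (W4 ++ [4, 8, 9, 6, 8, 13, 12, 7, 1, 8]) :=
  ap3 (fm8 hg)
    (mv hg (u20 hg) (((s3_2 hg).inv hg).comp (((s3_0 hg).inv hg).comp (((s3_2 hg).inv hg).comp ((s3_0 hg).comp (s3_0 hg))))) (v := [8, 2, 8, 3, 7, 4]) (by decide +kernel) (by decide +kernel))
    (mv hg (u48 hg) ((s3_2 hg).comp ((s3_0 hg).comp ((s3_1 hg).comp (s3_2 hg)))) (v := [1, 4, 7, 1, 3, 8, 1, 7, 5]) (by decide +kernel) (by decide +kernel))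
    (eqW hg (by decide +kernel))

theorem u57 : Q g (W4 ++ [4, 8, 9, 6, 8, 13, 12, 7, 1, 8] ++ [14]) (W3 ++ [10, 7, 1, 1, 12]) :=
  rv hg (u56 hg) (by decide +kernel) (by decide +kernel)

theorem u59 : Q g (W4 ++ [7, 11] ++ [14]) (W3 ++ [8, 11, 1, 8, 5, 10, 8, 13, 5, 11]) :=
  ap3 (fm6 hg)
    (mv hg (u55 hg) ((s4_1 hg).comp ((s4_3 hg).comp (((s4_0 hg).inv hg).comp (s4_1 hg)))) (v := [1, 8, 6, 7, 3, 1, 7, 5, 7]) (by decide +kernel) (by decide +kernel))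
    (mv hg (u30 hg) ((s3_2 hg).comp ((s3_1 hg).comp ((s3_2 hg).comp (((s3_0 hg).inv hg).comp ((s3_0 hg).inv hg))))) (v := [5, 7, 2, 8, 4, 8, 8, 4]) (by decide +kernel) (by decide +kernel))
    (eqW hg (by decide +kernel))

theorem u60 : Q g (W3 ++ [8, 11, 1, 8, 5, 10, 8, 13, 5, 11] ++ [14]) (W4 ++ [7, 1, 1, 12]) :=
  rv hg (u59 hg) (by decide +kernel) (by decide +kernel)

theorem u65 : Q g (W4 ++ [2, 7, 11] ++ [14]) (W3 ++ [7, 13, 12, 6, 2, 4, 7, 5, 13, 1, 3, 10]) :=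
  ap3 (fm0 hg)
    (mv hg (u55 hg) (((s4_2 hg).inv hg).comp ((s4_3 hg).comp (s4_1 hg))) (v := [1, 3, 1, 8, 2, 4, 7, 5]) (by decide +kernel) (by decide +kernel))
    (mv hg (u32 hg) ((s3_1 hg).comp ((s3_2 hg).comp ((s3_0 hg).comp ((s3_2 hg).inv hg)))) (v := [3, 6, 8, 1, 8, 1, 3, 1]) (by decide +kernel) (by decide +kernel))
    (eqW hg (by decide +kernel))

theorem u66 : Q g (W3 ++ [7, 13, 12, 6, 2, 4, 7, 5, 13, 1, 3, 10] ++ [14]) (W4 ++ [1, 8, 8, 12]) :=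
  rv hg (u65 hg) (by decide +kernel) (by decide +kernel)

theorem u71 : Q g (W2 ++ [7, 5, 7, 9, 6, 11] ++ [14]) (W2 ++ [7, 13, 12, 9, 1, 5, 13, 8, 13, 4, 9, 8]) :=
  ap3 (fm0 hg)
    (mv hg (u17 hg) (((s2_2 hg).inv hg).comp (((s2_3 hg).inv hg).comp ((s2_0 hg).comp (s2_3 hg)))) (v := [8, 1, 8, 5, 7, 5, 7]) (by decide +kernel) (by decide +kernel))
    (mv hg (u18 hg) ((s3_2 hg).comp ((s3_0 hg).comp ((s3_0 hg).comp ((s3_2 hg).comp ((s3_0 hg).inv hg))))) (v := [1, 4, 8, 1, 7, 3, 7]) (by decide +kernel) (by decide +kernel))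
    (eqW hg (by decide +kernel))

theorem s4_4 : Q g (W4 ++ [1, 13, 7, 13, 2, 5, 8, 11, 13, 5, 8, 5]) W4 :=
  df hg (u38 hg) (u40 hg) (Q.triv (W1)) (v := []) (by decide +kernel) (by decide +kernel) (by decide +kernel)

theorem u61 : Q g (W4 ++ [8, 11] ++ [14]) (W4 ++ [2, 8, 11, 13, 8, 10, 10, 13, 6]) :=
  ap3 (fm0 hg)
    (mv hg (u55 hg) (((s4_3 hg).inv hg).comp ((s4_2 hg).comp ((s4_4 hg).comp ((s4_2 hg).inv hg)))) (v := [1, 3, 8, 3, 8, 5, 4, 7, 6, 8]) (by decide +kernel) (by decide +kernel))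
    (mv hg (u54 hg) (((s3_2 hg).inv hg).comp (((s3_1 hg).inv hg).comp (((s3_2 hg).inv hg).comp (((s3_0 hg).inv hg).comp ((s3_0 hg).inv hg))))) (v := [1, 7, 3, 5, 7, 3, 8, 2, 8]) (by decide +kernel) (by decide +kernel))
    (eqW hg (by decide +kernel))

theorem u62 : Q g (W4 ++ [13, 11] ++ [14]) (W4 ++ [1, 13, 1, 3, 6, 7, 11, 8, 11]) :=
  ap3 (fm0 hg)
    (mv hg (u53 hg) (((s4_4 hg).inv hg).comp (((s4_2 hg).inv hg).comp (((s4_1 hg).inv hg).comp ((s4_0 hg).comp (s4_0 hg))))) (v := [3, 7, 5, 8, 6, 4, 7, 7]) (by decide +kernel) (by decide +kernel))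
    (mv hg (u52 hg) ((s3_2 hg).comp (((s3_1 hg).inv hg).comp (((s3_2 hg).inv hg).comp ((s3_0 hg).comp ((s3_0 hg).comp ((s3_0 hg).comp (s3_0 hg))))))) (v := [1, 3, 8, 6, 7, 6, 8, 3, 8]) (by decide +kernel) (by decide +kernel))
    (eqW hg (by decide +kernel))

theorem u63 : Q g (W4 ++ [1, 7, 11] ++ [14]) (W3 ++ [7, 12, 8, 4, 2, 5, 13, 1, 8, 11, 13, 5]) :=
  ap3 (fm6 hg)
    (mv hg (u47 hg) ((s4_4 hg).comp ((s4_3 hg).comp (((s4_0 hg).inv hg).comp (s4_1 hg)))) (v := [7, 5, 3, 7, 2, 7, 4, 7]) (by decide +kernel) (by decide +kernel))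
    (mv hg (u15 hg) (((s2_2 hg).inv hg).comp ((s2_3 hg).comp (((s2_2 hg).inv hg).comp ((s2_3 hg).comp (((s2_1 hg).inv hg).comp ((s2_0 hg).inv hg)))))) (v := [7, 4, 7, 6, 8, 4, 7, 1, 4]) (by decide +kernel) (by decide +kernel))
    (eqW hg (by decide +kernel))

theorem u64 : Q g (W3 ++ [7, 12, 8, 4, 2, 5, 13, 1, 8, 11, 13, 5] ++ [14]) (W4 ++ [2, 7, 7, 11]) :=
  rv hg (u63 hg) (by decide +kernel) (by decide +kernel)

theorem u67 : Q g (W4 ++ [2, 11, 13] ++ [14]) (W4 ++ [1, 7, 11, 4, 1, 7, 3, 13, 10, 13, 9]) :=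
  ap3 (fm0 hg)
    (mv hg (u63 hg) ((s4_1 hg).comp (((s4_3 hg).inv hg).comp (s4_2 hg))) (v := [1, 1, 8, 1, 8, 5, 8, 4]) (by decide +kernel) (by decide +kernel))
    (mv hg (u64 hg) (((s3_2 hg).inv hg).comp ((s3_0 hg).comp (((s3_2 hg).inv hg).comp (((s3_0 hg).inv hg).comp ((s3_0 hg).inv hg))))) (v := [1, 8, 2, 7, 5, 8, 1, 8, 8]) (by decide +kernel) (by decide +kernel))
    (eqW hg (by decide +kernel))

theorem u68 : Q g (W4 ++ [5, 7, 11] ++ [14]) (W4 ++ [2, 8, 11, 13, 1, 5, 13, 7, 2, 13, 7, 12]) :=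
  ap3 (fm6 hg)
    (mv hg (u51 hg) (((s4_0 hg).inv hg).comp ((s4_1 hg).comp ((s4_3 hg).inv hg))) (v := [4, 7, 2, 8, 1]) (by decide +kernel) (by decide +kernel))
    (mv hg (u64 hg) ((s3_2 hg).comp (((s3_0 hg).inv hg).comp (s3_2 hg))) (v := [2, 6, 7, 3, 6, 7, 3]) (by decide +kernel) (by decide +kernel))
    (eqW hg (by decide +kernel))

theorem u69 : Q g (W4 ++ [7, 11, 13] ++ [14]) (W2 ++ [3, 7, 1, 13, 3, 11, 13, 2, 4, 8, 5]) :=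
  ap3 (fm6 hg)
    (mv hg (u63 hg) (((s4_1 hg).inv hg).comp (((s4_3 hg).inv hg).comp ((s4_2 hg).comp (s4_4 hg)))) (v := [1, 3, 2, 6, 4, 7, 6, 8, 2]) (by decide +kernel) (by decide +kernel))
    (mv hg (u18 hg) (((s3_2 hg).inv hg).comp ((s3_0 hg).comp ((s3_2 hg).comp ((s3_0 hg).comp (s3_0 hg))))) (v := [8, 8, 2, 8, 3, 8, 1]) (by decide +kernel) (by decide +kernel))
    (eqW hg (by decide +kernel))

theorem u70 : Q g (W2 ++ [3, 7, 1, 13, 3, 11, 13, 2, 4, 8, 5] ++ [14]) (W4 ++ [7, 11, 13, 1, 1]) :=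
  rv hg (u69 hg) (by decide +kernel) (by decide +kernel)

theorem u72 : Q g (W2 ++ [7, 7, 13, 8, 5, 12, 7] ++ [14]) (W2 ++ [10, 13, 11, 7, 3, 9, 8, 2, 8, 13, 12]) :=
  ap3 (fm0 hg)
    (mv hg (u70 hg) (((s2_0 hg).inv hg).comp ((s2_3 hg).comp ((s2_0 hg).comp (s2_3 hg)))) (v := [2, 8, 3, 5, 3, 7, 2, 8, 3]) (by decide +kernel) (by decide +kernel))
    (mv hg (u69 hg) ((s4_1 hg).comp (s4_1 hg)) (v := [1, 5, 8, 5, 3, 8, 6, 8]) (by decide +kernel) (by decide +kernel))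
    (eqW hg (by decide +kernel))

theorem u73 : Q g (W3 ++ [5, 3, 13, 6, 13, 4, 10, 8, 11] ++ [14]) (W3 ++ [6, 8, 13, 2, 4, 10, 11, 7, 13, 5, 11]) :=
  ap3 (fm8 hg)
    (mv hg (u50 hg) (((s3_2 hg).inv hg).comp ((s3_0 hg).comp (((s3_2 hg).inv hg).comp (((s3_0 hg).inv hg).comp (s3_2 hg))))) (v := [1, 7, 5, 8, 6, 8, 8, 4, 6]) (by decide +kernel) (by decide +kernel))
    (mv hg (u51 hg) (((s4_4 hg).inv hg).comp ((s4_2 hg).comp ((s4_4 hg).comp ((s4_1 hg).comp (s4_0 hg))))) (v := [7, 5, 3, 2, 7, 6, 8, 8]) (by decide +kernel) (by decide +kernel))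
    (eqW hg (by decide +kernel))

theorem u74 : Q g (W3 ++ [7, 9, 5, 13, 3, 12] ++ [14]) (W3 ++ [8, 13, 9, 8, 5, 10, 12, 7, 13, 5]) :=
  ap3 (fm0 hg)
    (mv hg (u60 hg) (((s3_0 hg).inv hg).comp (((s3_1 hg).inv hg).comp (((s3_0 hg).inv hg).comp (((s3_2 hg).inv hg).comp (s3_0 hg))))) (v := [3, 8, 2, 8, 1, 8, 2, 4, 6]) (by decide +kernel) (by decide +kernel))
    (mv hg (u59 hg) (((s4_0 hg).inv hg).comp (((s4_1 hg).inv hg).comp ((s4_4 hg).comp (s4_0 hg)))) (v := [4, 7, 4, 2, 7, 4, 7, 1]) (by decide +kernel) (by decide +kernel))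
    (eqW hg (by decide +kernel))

theorem u75 : Q g (W3 ++ [13, 3, 13, 12, 8, 8, 5, 4] ++ [14]) (W3 ++ [12, 13, 5, 7, 5, 12, 7, 10, 1, 13, 6]) :=
  ap3 (fm0 hg)
    (mv hg (u73 hg) ((s3_2 hg).comp (((s3_0 hg).inv hg).comp (((s3_1 hg).inv hg).comp ((s3_0 hg).inv hg)))) (v := [1, 8, 4, 7, 1, 5, 7, 7]) (by decide +kernel) (by decide +kernel))
    (mv hg (u73 hg) (((s3_1 hg).inv hg).comp ((s3_2 hg).comp ((s3_0 hg).comp ((s3_2 hg).comp ((s3_0 hg).comp ((s3_0 hg).comp (s3_0 hg))))))) (v := [1, 8, 4, 6, 7, 5, 7]) (by decide +kernel) (by decide +kernel))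
    (eqW hg (by decide +kernel))

end Cfsg.Agent.LyG
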