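import Cfsg.Agent.CosetEnum.Ly.G2Data
import Cfsg.Agent.CosetEnum.Ly.Dce
import Cfsg.Agent.S1055
import Cfsg.Agent.S1059

/-!
The presented group is the Chevalley group of type `G₂` over the field of order 5 (owner: helper66).
-/

set_option autoImplicit false
set_option maxRecDepth 1000000
set_option linter.all false

namespace Cfsg.Agent.LyG

open Cfsg.Agent.CosetEnum Cfsg.Agent.KMat

theorem mok14' {x : ℕ} (h : 1 ≤ x ∧ x ≤ 61) : MatOK P14 (ms14 x) := by
  refine matB_sound mok14 x ?_
  rw [List.mem_range'_1]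
  omega

theorem mem13 {x : ℕ} : x ∈ lets13 ↔ 1 ≤ x ∧ x ≤ 13 := by
  simp only [lets13, List.mem_cons, List.not_mem_nil, or_false]
  omega

theorem RT14 : RepOK P14 ms14 13 ivH lets13 RLH where
  ok := P14_ok
  p1 := by show 1 < 5; norm_num
  st := st14
  mok x hx := mok14' (by rw [mem13] at hx; omega)
  cov := Cov.of cv14 rfl

/-- invertible matrices -/
abbrev MU14 : Type := (Matrix (Fin P14.n) (Fin P14.n) (ZMod P14.p))ˣ

/-- the words of the root elements -/
def xw (r : ℕ) : List ℕ := (prsX.getD r ([], [])).2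

/-- units of the 61 matrices -/
noncomputable def U14 (x : ℕ) : MU14 :=
  if x ≤ 13 then RT14.gm x else ev RT14.gm (xw ((x - 14) / 4)) ^ ((x - 14) % 4 + 1)

theorem cov14 : Cov (prB P14 ms14 (prsR ++ (prsL ++ (prsX ++ prsZ)))) 0 P14.n := Cov.of cv14' rfl

theorem xw_ok : (List.range 12).all (fun r => (xw r).all (fun y => lets13.contains y)) = true := by decide +kernel

theorem xw_mem : (List.range 12).all (fun r => prsX.contains ([14 + 4 * r], xw r)) = true := by decide +kernel

theorem rw_mem : (List.range 12).all (fun r => (List.range' 1 3).all fun t =>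
    prsR.contains ([14 + 4 * r + t], List.replicate (t + 1) (14 + 4 * r))) = true := by decide +kernel

theorem wm_one (x : ℕ) : wm P14 ms14 [x] = mat P14 (ms14 x) := by simp [wm]

theorem val_root {r : ℕ} (hr : r < 12) :
    ((ev RT14.gm (xw r) : MU14) : Matrix (Fin P14.n) (Fin P14.n) (ZMod P14.p)) = mat P14 (ms14 (14 + 4 * r)) := by
  have h0 : ∀ y ∈ xw r, y ∈ lets13 := by
    intro y hy
    have := (List.all_eq_true.1 ((List.all_eq_true.1 xw_ok) r (List.mem_range.2 hr))) y hy
    simpa using this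
  have h1 : ([14 + 4 * r], xw r) ∈ prsX := by
    have := (List.all_eq_true.1 xw_mem) r (List.mem_range.2 hr)
    simpa using this
  have h2 := wm_eq P14_ok (by show 1 < 5; norm_num) cov14 (p := ([14 + 4 * r], xw r)) (by simp [h1]) (by
    intro z hz
    simp only [List.mem_cons, List.not_mem_nil, or_false] at hz
    subst hz
    exact mok14' (by omega)) (by
    intro z hz
    exact RT14.mok z (h0 z hz))
  rw [wm_one] at h2
  rw [h2, ev, RT14.gm_word h0]

theorem U14_val {x : ℕ} (h : 1 ≤ x ∧ x ≤ 61) :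
    ((U14 x : MU14) : Matrix (Fin P14.n) (Fin P14.n) (ZMod P14.p)) = mat P14 (ms14 x) := by
  unfold U14
  split
  · rename_i h1
    exact RT14.gm_val (mem13.2 ⟨h.1, h1⟩)
  · rename_i h1
    obtain ⟨r, k, hr, hk, rfl⟩ : ∃ r k, r < 12 ∧ k < 4 ∧ x = 14 + 4 * r + k :=
      ⟨(x - 14) / 4, (x - 14) % 4, by omega, by omega, by omega⟩
    have e1 : (14 + 4 * r + k - 14) / 4 = r := by omega
    have e2 : (14 + 4 * r + k - 14) % 4 = k := by omega
    rw [e1, e2, Units.val_pow_eq_pow_val, val_root hr]
    rcases Nat.eq_zero_or_pos k with rfl | hk0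
    · rw [zero_add, pow_one, add_zero]
    · have h1 : ([14 + 4 * r + k], List.replicate (k + 1) (14 + 4 * r)) ∈ prsR := by
        have := (List.all_eq_true.1 ((List.all_eq_true.1 rw_mem) r (List.mem_range.2 hr))) k (by
          rw [List.mem_range'_1]; omega)
        simpa using this
      have h2 := wm_eq P14_ok (by show 1 < 5; norm_num) cov14
        (p := ([14 + 4 * r + k], List.replicate (k + 1) (14 + 4 * r))) (by simp [h1]) (by
        intro z hz
        simp only [List.mem_cons, List.not_mem_nil, or_false] at hz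
        subst hz
        exact mok14' (by omega)) (by
        intro z hz
        rw [List.eq_of_mem_replicate hz]
        exact mok14' (by omega))
      rw [wm_one] at h2
      rw [h2, wm, List.map_replicate, List.prod_replicate]

theorem F14 : Fam P14 ms14 (List.range' 1 61) U14 where
  ok := P14_ok
  p1 := by show 1 < 5; norm_num
  mok x hx := mok14' (by rw [List.mem_range'_1] at hx; omega)
  val x hx := U14_val (by rw [List.mem_range'_1] at hx; omega)

/-- the homomorphism of the presented group -/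
theorem exists_psi : ∃ ψ : QA →* MU14, ∀ x, ψ (qa x) = RT14.gm x := UA.univ _ _ RT14.good

noncomputable def psi : QA →* MU14 := exists_psi.choose

theorem psi_qa (x : ℕ) : psi (qa x) = RT14.gm x := exists_psi.choose_spec x

/-- indices -/
noncomputable def e14 : Cfsg.Lie.chevG2.Idx ≃ Fin P14.n := (finSumFinEquiv : Fin 2 ⊕ Fin 12 ≃ Fin (2 + 12))

theorem e14_val (i : Cfsg.Lie.chevG2.Idx) : ((e14 i : Fin P14.n) : ℕ) = ixN i := by
  rcases i with i | i <;> rfl

/-- reindexing -/
noncomputable def mE : Matrix (Fin P14.n) (Fin P14.n) (ZMod P14.p) ≃*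
    Matrix Cfsg.Lie.chevG2.Idx Cfsg.Lie.chevG2.Idx (ZMod 5) where
  toFun M := Matrix.submatrix M e14 e14
  invFun M := Matrix.submatrix M e14.symm e14.symm
  left_inv M := by
    ext i j
    show M (e14 (e14.symm i)) (e14 (e14.symm j)) = M i j
    rw [Equiv.apply_symm_apply, Equiv.apply_symm_apply]
  right_inv M := by
    ext i j
    show M (e14.symm (e14 i)) (e14.symm (e14 j)) = M i j
    rw [Equiv.symm_apply_apply, Equiv.symm_apply_apply]
  map_mul' M N := (Matrix.submatrix_mul_equiv M N e14 e14 e14).symm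

/-- reindexing of invertible matrices -/
noncomputable def eGL : MU14 ≃* GL Cfsg.Lie.chevG2.Idx (ZMod 5) := Units.mapEquiv mE

theorem eGL_val (u : MU14) : ((eGL u : GL Cfsg.Lie.chevG2.Idx (ZMod 5)) :
    Matrix Cfsg.Lie.chevG2.Idx Cfsg.Lie.chevG2.Idx (ZMod 5)) = mE (u : Matrix _ _ _) := rfl

theorem mE_root (r : Fin Cfsg.Lie.chevG2.nroots) (t : Fin 4) :
    mE (mat P14 (ms14 (14 + 4 * r.1 + t.1))) = Cfsg.Lie.chevG2.xMat (ZMod 5) r ((t.1 + 1 : ℕ) : ZMod 5) := by
  ext i j
  rw [root_entries r t (i, j)]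
  show ((dig 12 (ms14 (14 + 4 * r.1 + t.1)) (14 * (e14 j : Fin P14.n).1 + 14 - 1 - (e14 i : Fin P14.n).1) : ℕ) : ZMod 5) = _
  rw [e14_val, e14_val]

theorem range_map : psi.range.map eGL.toMonoidHom = Cfsg.Lie.chevG2.group (ZMod 5) := by
  have hU : ∀ x, 1 ≤ x ∧ x ≤ 61 → U14 x ∈ psi.range := by
    intro x hx
    have h0 : ∀ y, RT14.gm y ∈ psi.range := fun y => ⟨qa y, psi_qa y⟩
    unfold U14
    split
    · exact h0 x
    · apply pow_mem
      unfold ev
      apply list_prod_mem
      intro z hz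
      obtain ⟨y, _, rfl⟩ := List.mem_map.1 hz
      exact h0 y
  have hroot : ∀ (r : Fin Cfsg.Lie.chevG2.nroots) (t : Fin 4), ((eGL (U14 (14 + 4 * r.1 + t.1)) :
      GL Cfsg.Lie.chevG2.Idx (ZMod 5)) : Matrix Cfsg.Lie.chevG2.Idx Cfsg.Lie.chevG2.Idx (ZMod 5)) =
      Cfsg.Lie.chevG2.xMat (ZMod 5) r ((t.1 + 1 : ℕ) : ZMod 5) := by
    intro r t
    have hr : r.1 < 12 := r.2
    have ht : t.1 < 4 := t.2
    rw [eGL_val, U14_val (by omega), mE_root]
  apply le_antisymm
  · rw [Subgroup.map_le_iff_le_comap]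
    have h1 : psi.range = Subgroup.map psi (Cl qa 13) := by rw [UA.top]; exact MonoidHom.range_eq_map psi
    rw [h1, Subgroup.map_le_iff_le_comap]
    unfold Cl
    rw [Subgroup.closure_le]
    rintro _ ⟨x, hx, rfl⟩
    have hx := isLet_iff.1 (show isLet 13 x = true from hx)
    show eGL (psi (qa x)) ∈ Cfsg.Lie.chevG2.group (ZMod 5)
    have h2 : (List.range' 1 13).all (fun x => prsL.any (fun p => p.1 == [x] && p.2.all (fun y => Nat.ble 14 y && Nat.ble y 61))) = true := by
      decide +kernel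
    have h3 := (List.all_eq_true.1 h2) x (by rw [List.mem_range'_1]; omega)
    rw [List.any_eq_true] at h3
    obtain ⟨p, hp, h4⟩ := h3
    simp only [Bool.and_eq_true, beq_iff_eq, List.all_eq_true] at h4
    obtain ⟨h5, h6⟩ := h4
    have h7 : ∀ y ∈ p.2, 14 ≤ y ∧ y ≤ 61 := fun y hy => by
      have := h6 y hy
      exact ⟨Nat.le_of_ble_eq_true this.1, Nat.le_of_ble_eq_true this.2⟩
    have h8 := F14.rel cov14 (p := p) (by simp [hp]) (by
      intro z hz
      rw [h5, List.mem_singleton] at hz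
      subst hz
      rw [List.mem_range'_1]; omega) (by
      intro z hz
      have := h7 z hz
      rw [List.mem_range'_1]; omega)
    rw [h5, List.map_singleton, List.prod_singleton] at h8
    have h9 : U14 x = RT14.gm x := by unfold U14; rw [if_pos hx.2]
    rw [psi_qa, ← h9, h8, map_list_prod]
    apply list_prod_mem
    intro z hz
    rw [List.map_map, List.mem_map] at hz
    obtain ⟨y, hy, rfl⟩ := hz
    have h10 := h7 y hy
    apply Subgroup.subset_closure
    refine ⟨⟨(y - 14) / 4, by show _ < 12; omega⟩, (((y - 14) % 4 + 1 : ℕ) : ZMod 5), ?_⟩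
    have h11 := hroot ⟨(y - 14) / 4, by show _ < 12; omega⟩ ⟨(y - 14) % 4, by omega⟩
    have h12 : 14 + 4 * ((y - 14) / 4) + (y - 14) % 4 = y := by omega
    simp only [h12] at h11
    exact h11
  · unfold Cfsg.Lie.ChevalleyDatum.group
    rw [Subgroup.closure_le]
    rintro g ⟨r, t, hg⟩
    have hr : r.1 < 12 := r.2
    by_cases ht : t = 0
    · subst ht
      have : g = 1 := by
        apply Units.ext
        rw [hg]
        ext i j
        rw [root_zero r (i, j), Units.val_one, Matrix.one_apply]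
      rw [this]
      exact Subgroup.one_mem _
    · obtain ⟨k, hk⟩ : ∃ k : Fin 4, t = ((k.1 + 1 : ℕ) : ZMod 5) := by
        have h5 : ∀ t : ZMod 5, t ≠ 0 → ∃ k : Fin 4, t = ((k.1 + 1 : ℕ) : ZMod 5) := by decide
        exact h5 t ht
      have h1 : g = eGL (U14 (14 + 4 * r.1 + k.1)) := by
        apply Units.ext
        rw [hg, hroot r k, hk]
      rw [h1]
      exact ⟨U14 (14 + 4 * r.1 + k.1), hU _ (by omega), rfl⟩

theorem card_G2 : Nat.card (Cfsg.Lie.chevG2.group (ZMod 5)) = 5859000000 := by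
  have := Cfsg.Agent.S1059.result (F := ZMod 5) (q := 5) (ZMod.card 5)
  rw [this]
  norm_num

/-- the presented group is the Chevalley group -/
theorem QA_iso : Nonempty (QA ≃* Cfsg.Lie.chevG2.group (ZMod 5)) := by
  haveI := finite_QA
  have e1 : psi.range ≃* Cfsg.Lie.chevG2.group (ZMod 5) :=
    (Subgroup.equivMapOfInjective psi.range eGL.toMonoidHom eGL.injective).trans (MulEquiv.subgroupCongr range_map)
  have h1 : Nat.card psi.range = 5859000000 := by
    rw [Nat.card_congr e1.toEquiv, card_G2]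
  have h2 : Function.Surjective psi.rangeRestrict := psi.rangeRestrict_surjective
  haveI : Finite psi.range := Finite.of_surjective _ h2
  have h3 : Function.Bijective psi.rangeRestrict := by
    rw [Nat.bijective_iff_surjective_and_card]
    exact ⟨h2, by rw [card_QA, h1]⟩
  exact ⟨(MulEquiv.ofBijective _ h3).trans e1⟩

theorem QA_simple : IsSimpleGroup QA := by
  obtain ⟨e⟩ := QA_iso
  haveI : IsSimpleGroup (Cfsg.Lie.chevG2.group (ZMod 5)) :=
    (Cfsg.Agent.S1055.result (F := ZMod 5) ⟨2, by decide, by decide⟩).1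
  exact e.isSimpleGroup

end Cfsg.Agent.LyG
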