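import Cfsg.Agent.CosetEnum.Ly.HT0
import Cfsg.Agent.CosetEnum.Ly.HT1
import Cfsg.Agent.CosetEnum.Ly.HT2
import Cfsg.Agent.CosetEnum.Ly.HT3

/-! Certificate of a coset enumeration (generated data, owner: helper66). -/

set_option autoImplicit false
set_option maxRecDepth 1000000

namespace Cfsg.Agent.CosetEnum.LYH

noncomputable def tab : T := (.n 2688 (.n 1344 tab0 tab1) (.n 4032 tab2 tab3))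

def lw : WT := .n 135 (.n 67 (.n 33 (.n 16 (.n 8 (.n 4 (.n 2 (.n 1 (.l [9,8,1,3,3,2,4,6,3,6,4,2,6,1,6,2,5,1,5,1,9,1,9,6,1,3] []) (.l [4,4,6,9,5,9,5] [])) (.n 3 (.l [2,2,7,7,2,2] []) (.l [1,7,2,2,2,8] []))) (.n 6 (.n 5 (.l [2,7,1,1,1,8] []) (.l [1,1,1,8,2,7] [])) (.n 7 (.l [7,2,2,2,2,7] []) (.l [4,6,3,9,3,3,5,1,6,3,6,4,2,9] [])))) (.n 12 (.n 10 (.n 9 (.l [3,1,1,4,2,2] []) (.l [4,1,1,3,2,2] [])) (.n 11 (.l [5,3,5,4,2,4,6,3,1,4,6,6,3] []) (.l [2,4,2,4,2,4,2,4] []))) (.n 14 (.n 13 (.l [2,2,6,1,1,6,6] []) (.l [6,2,2,6,1,1,6] [])) (.n 15 (.l [2,2,4,1,1,3] []) (.l [5,5,2,2,5,1,1] []))))) (.n 24 (.n 20 (.n 18 (.n 17 (.l [3,2,2,4,1,1] []) (.l [2,6,1,3,5,4,2,5,1,3,6,4] [])) (.n 19 (.l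 [4,5,3,1,3,6,4,6,4,5,5,3,2] []) (.l [1,3,1,3,1,3,1,3] []))) (.n 22 (.n 21 (.l [8,1,1,1,1,8] []) (.l [3,8,4,7] [])) (.n 23 (.l [6,8,2,6,1,6,2,5,1,3,3,9,8,6,8,3,2,4] []) (.l [4,2,4,2,4,2,4,2] [])))) (.n 28 (.n 26 (.n 25 (.l [4,9,4,9,5,4,6,3,3,6,6] []) (.l [5,1,1,5,5,2,2] [])) (.n 27 (.l [2,6,1,4,2,5,1,3,3,5,4,5,3,5,4,4,6,3] []) (.l [3,6,4,6,4,5,5,3,2,4,5,3,1] []))) (.n 30 (.n 29 (.l [6,1,4,5,3,2,5,1,2,6,1,6,2,5,1,5,4,6,3,2] []) (.l [6,3,6,4,2,9,4,6,3,9,3,3,5,1] [])) (.n 31 (.l [2,7,7,2,2,2] []) (.n 32 (.l [2,2,2,2,7,7] []) (.l [4,6,3,2,6,1,4,5,3,2,5,1,2,6,1,6,2,5,1,5] []))))))) (.n 50 (.n 41 (.n 37 (.n 35 (.n 34 (.l [9,4,4,2,6,1,5,2,5,1,7,5,3,1,4,7,5,7] []) (.l [3,1,3,6,4,6,4,5,5,3,2,4,5]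 [])) (.n 36 (.l [4,2,2,3,1,1] []) (.l [4,5,5,3,2,4,5,3,1,3,6,4,6] []))) (.n 39 (.n 38 (.l [6,6,3,5,3,5,4,2,4,6,3,1,4] []) (.l [1,1,6,6,2,2,6] [])) (.n 40 (.l [4,1,3,2,4,1,3,2,4,1,3,2] []) (.l [9,5,4,4,6,9,5] [])))) (.n 45 (.n 43 (.n 42 (.l [8,1,7,2,2,2] []) (.l [7,7,2,2,2,2] [])) (.n 44 (.l [3,2,4,4,2,9,1,6,1,5,2,5,1,3,6,4,9,2] []) (.l [6,9,5,9,5,4,4] []))) (.n 47 (.n 46 (.l [3,9,3,3,5,1,6,3,6,4,2,9,4,6] []) (.l [6,6,4,4,5,3,5,5,3,3,6,4] [])) (.n 48 (.l [9,5,9,5,4,4,6] []) (.n 49 (.l [4,4,4,4,4] []) (.l [4,2,6,1,3,6,4,2,5,1,3,5] [])))))) (.n 58 (.n 54 (.n 52 (.n 51 (.l [4,7,3,8] []) (.l [4,5,3,9,1,3,5,4,5,2,6,4,4,9] [])) (.n 53 (.l [6,9,5,3,3,6,9] []) (.l [8,6,8,3,2,4,6,8,2,6,1,6,2,5,1,3,3,9]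 []))) (.n 56 (.n 55 (.l [4,8,3,7] []) (.l [2,9,4,6,3,9,3,3,5,1,6,3,6,4] [])) (.n 57 (.l [5,4,4,6,9,5,9] []) (.l [1,1,5,5,2,2,5] [])))) (.n 62 (.n 60 (.n 59 (.l [2,4,5,3,1,3,6,4,6,4,5,5,3] []) (.l [5,1,3,3,5,4,5,3,5,4,4,6,3,2,6,1,4,2] [])) (.n 61 (.l [3,1,4,7,5,7,9,4,4,2,6,1,5,2,5,1,7,5] []) (.l [7,4,8,3] []))) (.n 64 (.n 63 (.l [9,8,6,8,3,2,4,6,8,2,6,1,6,2,5,1,3,3] []) (.l [3,3,5,1,6,3,6,4,2,9,4,6,3,9] [])) (.n 65 (.l [5,5,5,5,5] []) (.n 66 (.l [9,6,9,5,3,3,6] []) (.l [6,1,1,6,6,2,2] [])))))))) (.n 101 (.n 84 (.n 75 (.n 71 (.n 69 (.n 68 (.l [9,2,6,1,9,2,5,1,3,6,4,1,4,5,3,1,1,1,9,2,5,1] []) (.l [2,2,5,1,1,5,5] [])) (.n 70 (.l [8,3,7,4] []) (.l [7,3,8,4] []))) (.n 73 (.n 72 (.l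 [4,5,3,5,5,3,3,6,4,6,6,4] []) (.l [2,2,3,1,1,4] [])) (.n 74 (.l [4,6,3,3,5,5,3,5,4,4,6,6] []) (.l [3,3,6,9,6,9,5] [])))) (.n 79 (.n 77 (.n 76 (.l [5,1,9,2,6,1,9,2,2,2,4,6,3,2,3,5,4,2,6,1,9,2] []) (.l [6,2,3,5,4,1,3,6,4,6,3,6,4,4,5,3,2,5,1] [])) (.n 78 (.l [2,3,5,4,2,6,1,9,2,5,1,9,2,6,1,9,2,2,2,4,6,3] []) (.l [3,5,4,5,2,6,4,4,9,4,5,3,9,1] []))) (.n 81 (.n 80 (.l [4,6,3,1,4,6,6,3,5,3,5,4,2] []) (.l [6,3,3,5,4,5,3,5,4,2,3,6,4,1,5,2,6,1,4] [])) (.n 82 (.l [5,3,1,3,6,4,6,4,5,5,3,2,4] []) (.n 83 (.l [2,6,1,6,2,5,1,5,2,6,1,5,2,5,1,6] []) (.l [6,4,6,4,5,5,3,2,4,5,3,1,3] [])))))) (.n 92 (.n 88 (.n 86 (.n 85 (.l [5,7,9,4,4,2,6,1,5,2,5,1,7,5,3,1,4,7] []) (.l [2,9,1,3,3,1,4,6,1,5,2,5,1,3,6,4,9,2]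 [])) (.n 87 (.l [6,1,6,2,5,1,3,3,9,8,6,8,3,2,4,6,8,2] []) (.l [9,3,5,4,2,6,1,6,2,5,2,9,1,3,3,1,4,1] []))) (.n 90 (.n 89 (.l [5,4,9,3,5,4,9,3,6,4,4] []) (.l [1,9,2,5,1,3,6,4,1,4,5,3,1,1,1,9,2,5,1,9,2,6] [])) (.n 91 (.l [2,9,2,6,2,6,1,5,2,5,1,3,5,4,5,3,1,4,4,2,7,9,4,2,5,9] []) (.l [2,4,1,1,3,2] [])))) (.n 96 (.n 94 (.n 93 (.l [2,6,1,1,6,6,2] []) (.l [3,5,4,9,3,6,4,4,5,4,9] [])) (.n 95 (.l [8,8,1,1,1,1] []) (.l [6,9,3,9,3,5,5,4,4,5,3] []))) (.n 98 (.n 97 (.l [9,2,2,9,1,3,3,1,4,6,1,5,2,5,1,3,6,4] []) (.l [5,2,2,5,1,1,5] [])) (.n 99 (.l [5,4,6,3,3,6,6,4,9,4,9] []) (.n 100 (.l [9,1,6,1,5,2,5,1,3,6,4,9,2,3,2,4,4,2] []) (.l [2,4,4,2,9,1,6,1,5,2,5,1,3,6,4,9,2,3] []))))))) (.n 118 (.n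 109 (.n 105 (.n 103 (.n 102 (.l [1,1,4,2,2,3] []) (.l [6,8,3,2,4,6,8,2,6,1,6,2,5,1,3,3,9,8] [])) (.n 104 (.l [3,6,9,6,9,5,3] []) (.l [4,6,4,5,5,3,2,4,5,3,1,3,6] []))) (.n 107 (.n 106 (.l [3,3,3,3,3] []) (.l [5,9,5,4,4,6,9] [])) (.n 108 (.l [6,4,4,5,3,5,5,3,3,6,4,6] []) (.l [2,2,2,7,7,2] [])))) (.n 113 (.n 111 (.n 110 (.l [1,8,8,1,1,1] []) (.l [1,3,3,1,4,6,1,5,2,5,1,3,6,4,9,2,2,9] [])) (.n 112 (.l [1,5,5,2,2,5,1] []) (.l [4,4,2,6,1,5,2,5,1,7,5,3,1,4,7,5,7,9] []))) (.n 115 (.n 114 (.l [1,3,5,4,2,6,1,3,6,4,2,5] []) (.l [7,9,4,4,2,6,1,5,2,5,1,7,5,3,1,4,7,5] [])) (.n 116 (.l [6,9,6,9,5,3,3] []) (.n 117 (.l [5,5,3,3,6,4,6,6,4,4,5,3] []) (.l [1,1,3,2,2,4] [])))))) (.n 126 (.n 122 (.n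 120 (.n 119 (.l [6,6,4,6,3,3,5,5,3,5,4,4] []) (.l [6,6,6,6,6] [])) (.n 121 (.l [2,6,1,6,2,6,1,5,2,5,5,1,2,6,1,6,2,5,1,5] []) (.l [3,2,5,1,4,5,3,6,2,6,1,5,2,5,1,2,6,1,4,6] []))) (.n 124 (.n 123 (.l [5,4,9,3,6,4,4,5,4,9,3] []) (.l [3,5,4,2,4,6,3,1,4,6,6,3,5] [])) (.n 125 (.l [1,3,5,4,5,2,6,4,4,9,4,5,3,9] []) (.l [1,4,6,6,3,5,3,5,4,2,4,6,3] [])))) (.n 130 (.n 128 (.n 127 (.l [5,3,6,9,3,9,3,5,5,4,4] []) (.l [1,6,2,5,1,5,1,9,1,9,6,1,3,9,8,1,3,3,2,4,6,3,6,4,2,6] [])) (.n 129 (.l [2,9,1,1,9,3,5,4,2,6,1,6,2,5,3,2,4,4] []) (.l [3,5,5,3,3,6,4,6,6,4,4,5] []))) (.n 132 (.n 131 (.l [4,6,9,5,9,5,4] []) (.l [8,4,7,3] [])) (.n 133 (.l [9,5,3,3,6,9,6] []) (.n 134 (.l [9,3,6,4,9,3,6,3,3,5,4] [])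 (.l [6,3,1,4,6,6,3,5,3,5,4,2,4] []))))))))) (.n 203 (.n 169 (.n 152 (.n 143 (.n 139 (.n 137 (.n 136 (.l [5,3,2,5,1,2,6,1,6,2,5,1,5,4,6,3,2,6,1,4] []) (.l [9,3,6,4,4,5,4,9,3,5,4] [])) (.n 138 (.l [9,3,5,5,4,4,5,3,6,9,3] []) (.l [3,1,4,6,6,3,5,3,5,4,2,4,6] []))) (.n 141 (.n 140 (.l [5,9,2,9,2,6,2,6,1,5,2,5,1,3,5,4,5,3,1,4,4,2,7,9,4,2] []) (.l [2,3,1,1,4,2] [])) (.n 142 (.l [3,7,4,8] []) (.l [8,2,7,1,1,1] [])))) (.n 147 (.n 145 (.n 144 (.l [6,1,3,6,4,2,5,1,3,5,4,2] []) (.l [3,5,4,6,4,5,3,6,9,6,2,6,1,5,2,5,1,9] [])) (.n 146 (.l [9,2,9,2,6,2,6,1,5,2,5,1,3,5,4,5,3,1,4,4,2,7,9,4,2,5] []) (.l [6,4,5,5,3,2,4,5,3,1,3,6,4] []))) (.n 149 (.n 148 (.l [1,1,1,1,8,8] []) (.l [1,4,7,5,7,9,4,4,2,6,1,5,2,5,1,7,5,3]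 [])) (.n 150 (.l [9,1,3,3,1,4,6,1,5,2,5,1,3,6,4,9,2,2] []) (.n 151 (.l [6,2,6,1,5,2,5,1,4,5,3,2,6,1,6,2,5,1,5,4,6,3] []) (.l [3,3,6,6,4,9,4,9,5,4,6] [])))))) (.n 160 (.n 156 (.n 154 (.n 153 (.l [2,6,4,4,9,4,5,3,9,1,3,5,4,5] []) (.l [6,1,3,2,5,1,4,5,3,3,6,4,6,3,6,4,4,2] [])) (.n 155 (.l [6,1,3,9,8,1,3,3,2,4,6,3,6,4,2,6,1,6,2,5,1,5,1,9,1,9] []) (.l [9,4,6,3,9,3,3,5,1,6,3,6,4,2] []))) (.n 158 (.n 157 (.l [4,7,5,7,9,4,4,2,6,1,5,2,5,1,7,5,3,1] []) (.l [1,6,3,6,4,2,9,4,6,3,9,3,3,5] [])) (.n 159 (.l [4,6,3,3,6,6,4,9,4,9,5] []) (.l [2,2,2,2,2,2,2,2] [])))) (.n 164 (.n 162 (.n 161 (.l [1,3,2,2,4,1] []) (.l [4,4,5,4,9,3,5,4,9,3,6] [])) (.n 163 (.l [6,1,6,2,5,1,5,2,6,1,5,2,5,1,6,2] [])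 (.l [2,5,1,6,2,6,1,5,2,5,1,5,2,6,1,6] []))) (.n 166 (.n 165 (.l [6,4,6,6,4,4,5,3,5,5,3,3] []) (.l [3,6,4,5,3,5,4,2,6,1,6,2,5,1,5,2,6,1,6,2,5,1,5,6] [])) (.n 167 (.l [5,4,5,2,6,4,4,9,4,5,3,9,1,3] []) (.n 168 (.l [5,3,2,6,1,6,2,5,1,5,3,6,4,4,6,3,3,5,4,4] []) (.l [1,6,2,6,1,6,2,5,1,5,2,6,1,5,2,5] []))))))) (.n 186 (.n 177 (.n 173 (.n 171 (.n 170 (.l [3,6,2,6,1,5,2,5,1,4,2,6,1,6,2,5,1,5] []) (.l [1,5,2,6,1,6,2,6,1,5,2,5,5,1,2,6,1,6,2,5] [])) (.n 172 (.l [4,9,5,4,6,3,3,6,6,4,9] []) (.l [3,5,4,1,3,6,4,6,3,6,4,4,5,3,2,5,1,6,2] []))) (.n 175 (.n 174 (.l [5,2,6,1,6,2,5,1,5,2,6,1,6,2,5,1,5,4,6,3,6,4,5,3] []) (.l [6,4,9,4,9,5,4,6,3,3,6] [])) (.n 176 (.l [4,5,3,6,9,3,9,3,5,5,4] []) (.l [2,2,2,8,1,7]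 [])))) (.n 181 (.n 179 (.n 178 (.l [3,6,4,9,3,6,3,3,5,4,9] []) (.l [3,5,4,4,6,6,4,6,3,3,5,5] [])) (.n 180 (.l [3,6,4,2,9,4,6,3,9,3,3,5,1,6] []) (.l [5,3,3,6,9,6,9] []))) (.n 183 (.n 182 (.l [5,1,3,5,4,2,6,1,3,6,4,2] []) (.l [1,3,6,4,2,5,1,3,5,4,2,6] [])) (.n 184 (.l [5,3,2,4,5,3,1,3,6,4,6,4,5] []) (.n 185 (.l [7,1,1,1,8,2] []) (.l [5,3,1,4,7,5,7,9,4,4,2,6,1,5,2,5,1,7] [])))))) (.n 194 (.n 190 (.n 188 (.n 187 (.l [3,5,3,6,4,9,2,6,1,6,2,5,1,5,9,5,4,6] []) (.l [7,9,4,2,5,9,2,9,2,6,2,6,1,5,2,5,1,3,5,4,5,3,1,4,4,2] [])) (.n 189 (.l [3,5,3,5,4,2,4,6,3,1,4,6,6] []) (.l [6,6,2,2,6,1,1] []))) (.n 192 (.n 191 (.l [5,2,5,1,4,2,6,1,6,2,5,1,5,3,6,2,6,1] []) (.l [9,5,4,6,3,3,6,6,4,9,4] []))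 (.n 193 (.l [2,5,1,1,5,5,2] []) (.l [5,1,6,2,6,1,6,2,5,1,5,2,6,1,5,2] [])))) (.n 198 (.n 196 (.n 195 (.l [1,5,2,6,1,5,2,5,1,6,2,6,1,6,2,5] []) (.l [6,1,6,2,5,1,6,2,6,1,5,2,5,1,5,2] [])) (.n 197 (.l [3,6,3,3,5,4,9,3,6,4,9] []) (.l [4,5,3,6,9,6,2,6,1,5,2,5,1,9,3,5,4,6] []))) (.n 200 (.n 199 (.l [5,1,3,6,4,2,6,1,3,5,4,2] []) (.l [3,6,4,4,5,4,9,3,5,4,9] [])) (.n 201 (.l [1,6,1,5,2,5,1,3,6,4,9,2,3,2,4,4,2,9] []) (.n 202 (.l [9,3,9,3,5,5,4,4,5,3,6] []) (.l [1,9,3,5,4,2,6,1,6,2,5,3,2,4,4,2,9,1] [])))))))) (.n 237 (.n 220 (.n 211 (.n 207 (.n 205 (.n 204 (.l [3,2,5,1,2,6,1,6,2,5,1,5,4,6,3,2,6,1,4,5] []) (.l [2,8,1,7,2,2] [])) (.n 206 (.l [1,4,1,9,3,5,4,2,6,1,6,2,5,2,9,1,3,3] []) (.l [4,2,3,1,4,2,3,1,4,2,3,1]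 []))) (.n 209 (.n 208 (.l [9,2,6,1,9,2,2,2,4,6,3,2,3,5,4,2,6,1,9,2,5,1] []) (.l [6,1,5,2,5,1,9,3,5,4,6,4,5,3,6,9,6,2] [])) (.n 210 (.l [6,3,9,3,3,5,1,6,3,6,4,2,9,4] []) (.l [9,1,1,9,3,5,4,2,6,1,6,2,5,3,2,4,4,2] [])))) (.n 215 (.n 213 (.n 212 (.l [4,1,3,6,4,6,3,6,4,4,5,3,2,5,1,6,2,3,5] []) (.l [3,6,4,2,5,1,3,5,4,2,6,1] [])) (.n 214 (.l [9,4,2,5,9,2,9,2,6,2,6,1,5,2,5,1,3,5,4,5,3,1,4,4,2,7] []) (.l [4,6,6,3,5,3,5,4,2,4,6,3,1] []))) (.n 217 (.n 216 (.l [3,9,1,3,5,4,5,2,6,4,4,9,4,5] []) (.l [4,2,4,6,3,1,4,6,6,3,5,3,5] [])) (.n 218 (.l [2,9,1,6,1,5,2,5,1,3,6,4,9,2,3,2,4,4] []) (.n 219 (.l [3,9,3,5,5,4,4,5,3,6,9] []) (.l [6,2,5,1,5,9,5,4,6,3,5,3,6,4,9,2,6,1] [])))))) (.n 228 (.n 224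 (.n 222 (.n 221 (.l [2,6,1,9,2,5,1,3,6,4,1,4,5,3,1,1,1,9,2,5,1,9] []) (.l [5,3,9,1,3,5,4,5,2,6,4,4,9,4] [])) (.n 223 (.l [2,5,1,3,6,4,2,6,1,3,5,4] []) (.l [9,4,9,5,4,6,3,3,6,6,4] []))) (.n 226 (.n 225 (.l [6,2,5,1,3,3,9,8,6,8,3,2,4,6,8,2,6,1] []) (.l [1,9,6,1,3,9,8,1,3,3,2,4,6,3,6,4,2,6,1,6,2,5,1,5,1,9] [])) (.n 227 (.l [3,9,8,1,3,3,2,4,6,3,6,4,2,6,1,6,2,5,1,5,1,9,1,9,6,1] []) (.l [2,2,9,1,3,3,1,4,6,1,5,2,5,1,3,6,4,9] [])))) (.n 232 (.n 230 (.n 229 (.l [1,4,2,5,1,3,3,5,4,5,3,5,4,4,6,3,2,6] []) (.l [3,1,3,1,3,1,3,1] [])) (.n 231 (.l [2,5,3,2,4,4,2,9,1,1,9,3,5,4,2,6,1,6] []) (.l [2,6,1,5,2,5,1,2,6,1,4,6,3,2,5,1,4,5,3,6] []))) (.n 234 (.n 233 (.l [4,9,3,5,4,9,3,6,4,4,5] []) (.l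 [1,3,5,4,2,5,1,3,6,4,2,6] [])) (.n 235 (.l [1,3,6,4,6,4,5,5,3,2,4,5,3] []) (.n 236 (.l [7,6,2,6,1,5,2,5,1,7,2,6,1,6,2,5,1,5,7,6,2,6,1,5,2,5,2] []) (.l [6,2,6,1,5,2,5,1,3,2,6,1,6,2,5,1,5,4] []))))))) (.n 254 (.n 245 (.n 241 (.n 239 (.n 238 (.l [1,9,2,6,1,9,2,5,1,3,6,4,1,4,5,3,1,1,1,9,2,5] []) (.l [4,2,6,1,3,5,4,2,5,1,3,6] [])) (.n 240 (.l [6,4,6,3,3,5,5,3,5,4,4,6] []) (.l [9,3,5,4,9,3,6,4,4,5,4] []))) (.n 243 (.n 242 (.l [1,5,2,5,1,7,5,3,1,4,7,5,7,9,4,4,2,6] []) (.l [4,4,5,3,6,9,3,9,3,5,5] [])) (.n 244 (.l [3,5,4,2,5,1,3,6,4,2,6,1] []) (.l [4,6,4,5,3,6,9,6,2,6,1,5,2,5,1,9,3,5] [])))) (.n 249 (.n 247 (.n 246 (.l [4,9,3,6,4,9,3,6,3,3,5] []) (.l [6,6,4,9,4,9,5,4,6,3,3] [])) (.n 248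 (.l [2,5,2,9,1,3,3,1,4,1,9,3,5,4,2,6,1,6] []) (.l [9,3,5,4,2,6,1,6,2,5,3,2,4,4,2,9,1,1] []))) (.n 251 (.n 250 (.l [5,5,4,4,5,3,6,9,3,9,3] []) (.l [6,4,2,5,1,3,5,4,2,6,1,3] [])) (.n 252 (.l [6,4,2,9,4,6,3,9,3,3,5,1,6,3] []) (.n 253 (.l [2,5,1,5,9,5,4,6,3,5,3,6,4,9,2,6,1,6] []) (.l [4,2,6,1,5,2,5,1,7,5,3,1,4,7,5,7,9,4] [])))))) (.n 262 (.n 258 (.n 256 (.n 255 (.l [1,5,2,6,1,4,6,3,3,5,4,5,3,5,4,2,3,6,4] []) (.l [4,6,3,5,3,6,4,9,2,6,1,6,2,5,1,5,9,5] [])) (.n 257 (.l [1,5,2,5,1,5,2,6,1,6,2,5,1,6,2,6] []) (.l [8,1,3,3,2,4,6,3,6,4,2,6,1,6,2,5,1,5,1,9,1,9,6,1,3,9] []))) (.n 260 (.n 259 (.l [8,2,6,1,6,2,5,1,3,3,9,8,6,8,3,2,4,6] []) (.l [1,3,3,1,4,1,9,3,5,4,2,6,1,6,2,5,2,9] [])) (.n 261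 (.l [9,1,3,5,4,5,2,6,4,4,9,4,5,3] []) (.l [1,4,2,2,3,1] [])))) (.n 266 (.n 264 (.n 263 (.l [6,1,5,2,5,1,3,6,4,9,2,2,9,1,3,3,1,4] []) (.l [9,3,6,3,3,5,4,9,3,6,4] [])) (.n 265 (.l [7,5,7,9,4,4,2,6,1,5,2,5,1,7,5,3,1,4] []) (.l [3,5,5,4,4,5,3,6,9,3,9] []))) (.n 268 (.n 267 (.l [4,9,3,6,3,3,5,4,9,3,6] []) (.l [2,6,1,6,2,5,1,5,9,5,4,6,3,5,3,6,4,9] [])) (.n 269 (.l [5,3,5,4,4,6,6,4,6,3,3,5] []) (.n 270 (.l [7,2,2,2,8,1] []) (.l [6,1,5,2,5,1,6,2,6,1,6,2,5,1,5,2] [])))))))))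

def L : LL := .cons 1 2 (.n 41 (.n 20 (.n 10 (.n 5 (.n 2 (.n 1 (.l [7,1,1,1,8] []) (.l [2,6,1,1,6,6] [])) (.n 3 (.l [4,1,1,3,2] []) (.n 4 (.l [3,1,1,4,2] []) (.l [7,7,2,2,2] [])))) (.n 7 (.n 6 (.l [2,4,1,1,3] []) (.l [2,3,1,1,4] [])) (.n 8 (.l [2,2,2,7,7] []) (.n 9 (.l [2,7,7,2,2] []) (.l [2,2,2,2,2,2,2] []))))) (.n 15 (.n 12 (.n 11 (.l [2,5,1,1,5,5] []) (.l [6,1,1,6,6,2] [])) (.n 13 (.l [6,1,3,6,4,2,5,1,3,5,4] []) (.n 14 (.l [5,1,1,5,5,2] []) (.l [4,2,4,2,4,2,4] [])))) (.n 17 (.n 16 (.l [2,2,7,7,2] []) (.l [6,1,3,5,4,2,5,1,3,6,4] [])) (.n 18 (.l [4,5,3,1,3,6,4,6,4,5,5,3] []) (.n 19 (.l [9,1,1,9,3,5,4,2,6,1,6,2,5,3,2,4,4] []) (.l [3,5,4,1,3,6,4,6,3,6,4,4,5,3,2,5,1,6] []))))))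 (.n 30 (.n 25 (.n 22 (.n 21 (.l [6,4,4,9,4,5,3,9,1,3,5,4,5] []) (.l [5,1,3,6,4,2,6,1,3,5,4] [])) (.n 23 (.l [8,1,7,2,2] []) (.n 24 (.l [2,2,8,1,7] []) (.l [6,1,6,2,6,1,5,2,5,5,1,2,6,1,6,2,5,1,5] [])))) (.n 27 (.n 26 (.l [5,1,5,2,6,1,5,2,5,1,6,2,6,1,6] []) (.l [6,1,6,2,5,1,5,2,6,1,5,2,5,1,6] [])) (.n 28 (.l [9,4,6,3,9,3,3,5,1,6,3,6,4] []) (.n 29 (.l [6,1,4,6,3,3,5,4,5,3,5,4,2,3,6,4,1,5] []) (.l [4,1,3,2,4,1,3,2,4,1,3] []))))) (.n 35 (.n 32 (.n 31 (.l [5,1,5,9,5,4,6,3,5,3,6,4,9,2,6,1,6] []) (.l [6,1,9,2,2,2,4,6,3,2,3,5,4,2,6,1,9,2,5,1,9] [])) (.n 33 (.l [6,1,4,2,5,1,3,3,5,4,5,3,5,4,4,6,3] []) (.n 34 (.l [4,4,2,9,1,1,9,3,5,4,2,6,1,6,2,5,3] []) (.l [5,2,9,1,3,3,1,4,1,9,3,5,4,2,6,1,6]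 [])))) (.n 38 (.n 36 (.l [5,1,9,2,6,1,9,2,2,2,4,6,3,2,3,5,4,2,6,1,9] []) (.n 37 (.l [6,1,3,2,5,1,4,5,3,3,6,4,6,3,6,4,4] []) (.l [5,1,3,5,4,2,6,1,3,6,4] []))) (.n 39 (.l [6,1,5,2,5,1,6,1,6,2,5,1,5,2,6,1,6,2,5,1,5,2,6] []) (.n 40 (.l [5,1,3,6,4,9,2,2,9,1,3,3,1,4,6,1,5] []) (.l [4,6,8,2,6,1,6,2,5,1,3,3,9,8,6,8,3] []))))))) (.n 62 (.n 51 (.n 46 (.n 43 (.n 42 (.l [6,1,5,2,5,1,3,5,4,2,6,1,6,2,5,1,5,3,6,4,6] []) (.l [9,2,6,2,6,1,5,2,5,1,3,5,4,5,3,1,4,4,2,7,9,4,2,5,9] [])) (.n 44 (.l [5,1,9,3,5,4,6,4,5,3,6,9,6,2,6,1,5] []) (.n 45 (.l [4,4,2,9,1,6,1,5,2,5,1,3,6,4,9,2,3] []) (.l [6,1,5,2,5,2,7,6,2,6,1,5,2,5,1,7,2,6,1,6,2,5,1,5,7,6] [])))) (.n 48 (.n 47 (.l [6,1,6,2,5,1,5,9,5,4,6,3,5,3,6,4,9]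 []) (.l [6,1,5,2,5,1,5,2,6,1,6,2,5,1,6] [])) (.n 49 (.l [5,1,6,2,6,1,5,2,5,1,2,6,6,1,6,2,5,1,5] []) (.n 50 (.l [6,1,6,2,5,1,6,2,6,1,5,2,5,1,5] []) (.l [5,1,4,6,3,3,6,4,4,5,3,3,5,4,6,2,6,1,5] []))))) (.n 56 (.n 53 (.n 52 (.l [6,1,6,2,5,1,5,1,6,2,6,1,5,2,5,1,6,2,6,1,5,2,5] []) (.l [2,9,1,3,3,1,4,6,1,5,2,5,1,3,6,4,9] [])) (.n 54 (.l [6,1,5,2,5,1,6,2,6,1,6,2,5,1,5] []) (.n 55 (.l [5,1,7,5,3,1,4,7,5,7,9,4,4,2,6,1,5] []) (.l [5,1,3,6,4,9,2,3,2,4,4,2,9,1,6,1,5] [])))) (.n 59 (.n 57 (.l [9,1,3,3,1,4,6,1,5,2,5,1,3,6,4,9,2] []) (.n 58 (.l [5,1,4,2,6,1,6,2,5,1,5,3,6,2,6,1,5] []) (.l [3,1,4,2,3,1,4,2,3,1,4] []))) (.n 60 (.l [9,1,3,3,1,4,1,9,3,5,4,2,6,1,6,2,5] []) (.n 61 (.l [5,1,6,2,6,1,6,2,5,1,5,2,6,1,5]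 []) (.l [5,5,1,2,6,1,6,2,5,1,5,2,6,1,6,2,6,1,5] [])))))) (.n 72 (.n 67 (.n 64 (.n 63 (.l [6,1,6,2,5,1,5,2,6,2,6,1,5,2,5,1,6,1,6,2,5,1,5] []) (.l [6,2,6,1,5,2,5,1,3,5,4,5,3,1,4,4,2,7,9,4,2,5,9,2,9] [])) (.n 65 (.l [5,1,4,5,3,6,2,6,1,5,2,5,1,2,6,1,4,6,3] []) (.n 66 (.l [5,1,5,2,6,1,6,2,5,1,6,2,6,1,5] []) (.l [6,1,5,2,5,1,3,2,6,1,6,2,5,1,5,4,6] [])))) (.n 69 (.n 68 (.l [6,1,5,2,5,1,7,5,3,1,4,7,5,7,9,4,4] []) (.l [2,8,1,7,2] [])) (.n 70 (.l [5,1,5,3,6,2,6,1,5,2,5,1,4,2,6,1,6] []) (.n 71 (.l [9,1,6,1,5,2,5,1,3,6,4,9,2,3,2,4,4] []) (.l [5,1,2,6,6,1,6,2,5,1,5,2,5,1,6,2,6,1,5] []))))) (.n 77 (.n 74 (.n 73 (.l [7,6,2,6,1,5,2,5,1,7,2,6,1,6,2,5,1,5,7,6,2,6,1,5,2,5] []) (.l [4,6,3,1,4,6,6,3,5,3,5,4]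 [])) (.n 75 (.l [5,1,3,3,5,4,5,3,5,4,4,6,3,2,6,1,4] []) (.n 76 (.l [6,1,5,2,5,1,2,6,6,1,6,2,5,1,5,2,5,1,6] []) (.l [6,1,4,5,3,2,5,1,2,6,1,6,2,5,1,5,4,6,3] [])))) (.n 80 (.n 78 (.l [6,1,6,2,5,1,5,4,6,2,6,1,5,2,5,1,3] []) (.n 79 (.l [3,2,4,4,2,9,1,6,1,5,2,5,1,3,6,4,9] []) (.l [5,1,4,5,3,3,6,4,6,3,6,4,4,2,6,1,3] []))) (.n 81 (.l [5,1,6,2,3,5,4,1,3,6,4,6,3,6,4,4,5,3] []) (.n 82 (.l [5,1,3,2,6,1,6,2,5,1,5,4,6,2,6,1,5] []) (.l [5,1,5,4,6,2,6,1,5,2,5,1,3,2,6,1,6] [])))))))) (.l [] []) ( .cons 2 1 (.n 41 (.n 20 (.n 10 (.n 5 (.n 2 (.n 1 (.l [7,2,2,2,8] []) (.l [9,3,5,4,2,6,1,6,2,5,3,2,4,4,2,9,1] [])) (.n 3 (.l [1,8,2,7,1] []) (.n 4 (.l [1,6,6,2,2,6] []) (.l [6,6,2,2,6,1] [])))) (.n 7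 (.n 6 (.l [4,2,2,3,1] []) (.l [3,2,2,4,1] [])) (.n 8 (.l [8,8,1,1,1] []) (.n 9 (.l [1,1,1,8,8] []) (.l [1,4,2,2,3] []))))) (.n 15 (.n 12 (.n 11 (.l [4,7,5,7,9,4,4,2,6,1,5,2,5,1,7,5,3] []) (.l [1,3,2,2,4] [])) (.n 13 (.l [1,8,8,1,1] []) (.n 14 (.l [1,1,8,8,1] []) (.l [3,3,5,4,5,3,5,4,4,6,3,2,6,1,4,2,5] [])))) (.n 17 (.n 16 (.l [3,1,3,1,3,1,3] []) (.l [3,6,4,6,4,5,5,3,2,4,5,3] [])) (.n 18 (.l [1,5,5,2,2,5] []) (.n 19 (.l [5,5,2,2,5,1] []) (.l [3,2,4,1,3,2,4,1,3,2,4] [])))))) (.n 30 (.n 25 (.n 22 (.n 21 (.l [1,1,1,1,1,1,1] []) (.l [6,2,5,1,6,2,6,1,5,2,5,1,5,2,6] [])) (.n 23 (.l [3,5,4,5,2,6,4,4,9,4,5,3,9] []) (.n 24 (.l [6,2,5,1,5,4,6,2,6,1,5,2,5,1,3,2,6] []) (.l [6,2,6,1,5,2,5,1,5,2,6,1,6,2,5]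 [])))) (.n 27 (.n 26 (.l [3,5,4,2,6,1,3,6,4,2,5] []) (.l [5,2,6,1,5,2,5,1,6,2,6,1,6,2,5] [])) (.n 28 (.l [5,2,6,1,6,2,5,1,6,2,6,1,5,2,5] []) (.n 29 (.l [3,6,4,2,6,1,3,5,4,2,5] []) (.l [5,2,5,1,3,2,6,1,6,2,5,1,5,4,6,2,6] []))))) (.n 35 (.n 32 (.n 31 (.l [5,3,6,2,6,1,5,2,5,1,4,2,6,1,6,2,5] []) (.l [4,6,6,3,5,3,5,4,2,4,6,3] [])) (.n 33 (.l [3,6,4,9,2,2,9,1,3,3,1,4,6,1,5,2,5] []) (.n 34 (.l [1,1,8,2,7] []) (.l [9,2,5,1,3,6,4,1,4,5,3,1,1,1,9,2,5,1,9,2,6] [])))) (.n 38 (.n 36 (.l [4,1,9,3,5,4,2,6,1,6,2,5,2,9,1,3,3] []) (.n 37 (.l [3,5,4,2,5,1,3,6,4,2,6] []) (.l [3,3,1,4,1,9,3,5,4,2,6,1,6,2,5,2,9] []))) (.n 39 (.l [6,3,6,4,2,9,4,6,3,9,3,3,5] []) (.n 40 (.l [3,3,1,4,6,1,5,2,5,1,3,6,4,9,2,2,9]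 []) (.l [9,3,5,4,2,6,1,6,2,5,2,9,1,3,3,1,4] []))))))) (.n 62 (.n 51 (.n 46 (.n 43 (.n 42 (.l [4,2,5,1,3,3,5,4,5,3,5,4,4,6,3,2,6] []) (.l [9,2,5,1,9,2,6,1,9,2,2,2,4,6,3,2,3,5,4,2,6] [])) (.n 44 (.l [6,2,5,1,5,2,5,1,6,2,6,1,5,2,5,1,2,6,6] []) (.n 45 (.l [6,1,6,2,5,1,5,8,6,2,6,1,5,2,5,1,8,2,6,1,6,2,5,1,5,8] []) (.l [5,2,5,1,3,6,4,9,2,2,9,1,3,3,1,4,6] [])))) (.n 48 (.n 47 (.l [4,6,3,3,5,4,5,3,5,4,2,3,6,4,1,5,2,6] []) (.l [6,2,3,5,4,1,3,6,4,6,3,6,4,4,5,3,2,5] [])) (.n 49 (.l [3,6,4,2,5,1,3,5,4,2,6] []) (.n 50 (.l [3,2,6,1,6,2,5,1,5,4,6,2,6,1,5,2,5] []) (.l [5,2,5,1,6,2,6,1,6,2,5,1,5,2,6] []))))) (.n 56 (.n 53 (.n 52 (.l [6,2,5,1,3,3,9,8,6,8,3,2,4,6,8,2,6] []) (.l [6,1,5,2,5,1,3,6,4,9,2,3,2,4,4,2,9]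 [])) (.n 54 (.l [3,9,8,1,3,3,2,4,6,3,6,4,2,6,1,6,2,5,1,5,1,9,1,9,6] []) (.n 55 (.l [5,2,5,1,4,6,3,3,6,4,4,5,3,3,5,4,6,2,6] []) (.l [6,2,6,1,6,2,5,1,5,2,6,1,5,2,5] [])))) (.n 59 (.n 57 (.l [4,2,3,1,4,2,3,1,4,2,3] []) (.n 58 (.l [6,2,5,3,2,4,4,2,9,1,1,9,3,5,4,2,6] []) (.l [6,2,5,1,5,9,5,4,6,3,5,3,6,4,9,2,6] []))) (.n 60 (.l [5,2,6,1,6,2,6,1,5,2,5,5,1,2,6,1,6,2,5] []) (.n 61 (.l [3,2,5,1,4,5,3,3,6,4,6,3,6,4,4,2,6] []) (.l [5,4,6,2,6,1,5,2,5,1,3,2,6,1,6,2,5] [])))))) (.n 72 (.n 67 (.n 64 (.n 63 (.l [1,9,3,5,4,2,6,1,6,2,5,3,2,4,4,2,9] []) (.l [5,2,5,1,5,2,6,1,6,2,5,1,6,2,6] [])) (.n 65 (.l [4,2,6,1,6,2,5,1,5,3,6,2,6,1,5,2,5] []) (.n 66 (.l [9,2,6,1,9,2,2,2,4,6,3,2,3,5,4,2,6,1,9,2,5]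 []) (.l [9,6,1,3,9,8,1,3,3,2,4,6,3,6,4,2,6,1,6,2,5,1,5,1,9] [])))) (.n 69 (.n 68 (.l [6,2,5,1,5,2,6,1,5,2,5,1,6,2,6] []) (.l [5,2,5,1,9,3,5,4,6,4,5,3,6,9,6,2,6] [])) (.n 70 (.l [3,3,9,8,6,8,3,2,4,6,8,2,6,1,6,2,5] []) (.n 71 (.l [4,5,3,6,2,6,1,5,2,5,1,2,6,1,4,6,3,2,5] []) (.l [5,2,5,1,7,5,3,1,4,7,5,7,9,4,4,2,6] []))))) (.n 77 (.n 74 (.n 73 (.l [5,2,5,1,4,2,6,1,6,2,5,1,5,3,6,2,6] []) (.l [6,2,6,1,5,2,5,5,1,2,6,1,6,2,5,1,5,2,6] [])) (.n 75 (.l [5,2,5,2,7,6,2,6,1,5,2,5,1,7,2,6,1,6,2,5,1,5,7,6,2,6] []) (.n 76 (.l [4,6,1,5,2,5,1,3,6,4,9,2,2,9,1,3,3] []) (.l [5,4,6,3,2,6,1,4,5,3,2,5,1,2,6,1,6,2,5] [])))) (.n 80 (.n 78 (.l [9,1,9,6,1,3,9,8,1,3,3,2,4,6,3,6,4,2,6,1,6,2,5,1,5] []) (.n 79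 (.l [9,3,5,4,6,4,5,3,6,9,6,2,6,1,5,2,5] []) (.l [9,2,2,2,4,6,3,2,3,5,4,2,6,1,9,2,5,1,9,2,6] []))) (.n 81 (.l [9,2,6,1,9,2,5,1,3,6,4,1,4,5,3,1,1,1,9,2,5] []) (.n 82 (.l [5,2,6,1,4,6,3,3,5,4,5,3,5,4,2,3,6,4] []) (.l [4,5,3,1,1,1,9,2,5,1,9,2,6,1,9,2,5,1,3,6,4] [])))))))) (.l [] []) ( .cons 3 4 (.n 37 (.n 18 (.n 9 (.n 4 (.n 2 (.n 1 (.l [8,3,7] []) (.l [9,5,4,6,3,3,6,6,4,9] [])) (.n 3 (.l [7,3,8] []) (.l [4,2,9,1,6,1,5,2,5,1,3,6,4,9,2,3,2] []))) (.n 6 (.n 5 (.l [6,4,5,5,3,2,4,5,3,1,3,6] []) (.l [5,2,6,4,4,9,4,5,3,9,1,3,5] [])) (.n 7 (.l [4,4,4,4] []) (.n 8 (.l [4,6,9,5,9,5] []) (.l [2,4,2,4,2,4,2] []))))) (.n 13 (.n 11 (.n 10 (.l [9,3,6,4,9,3,6,3,3,5] []) (.l [1,1,3,2,2] [])) (.n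 12 (.l [2,2,3,1,1] []) (.l [6,3,3,5,5,3,5,4,4,6,6] []))) (.n 15 (.n 14 (.l [2,5,1,3,3,5,4,5,3,5,4,4,6,3,2,6,1] []) (.l [1,3,6,4,6,3,6,4,4,5,3,2,5,1,6,2,3,5] [])) (.n 16 (.l [6,3,9,3,3,5,1,6,3,6,4,2,9] []) (.n 17 (.l [5,3,1,3,6,4,6,4,5,5,3,2] []) (.l [4,5,3,6,9,3,9,3,5,5] [])))))) (.n 27 (.n 22 (.n 20 (.n 19 (.l [6,3,1,4,6,6,3,5,3,5,4,2] []) (.l [6,9,5,9,5,4] [])) (.n 21 (.l [6,6,3,5,3,5,4,2,4,6,3,1] []) (.l [6,2,6,1,5,2,5,1,3,5,4,2,6,1,6,2,5,1,5,3,6] []))) (.n 24 (.n 23 (.l [2,5,9,2,9,2,6,2,6,1,5,2,5,1,3,5,4,5,3,1,4,4,2,7,9] []) (.l [9,4,9,5,4,6,3,3,6,6] [])) (.n 25 (.l [9,2,6,1,6,2,5,1,5,9,5,4,6,3,5,3,6] []) (.n 26 (.l [4,6,6,4,6,3,3,5,5,3,5] []) (.l [5,5,3,2,4,5,3,1,3,6,4,6]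 []))))) (.n 32 (.n 29 (.n 28 (.l [9,3,6,3,3,5,4,9,3,6] []) (.l [5,3,3,5,4,6,2,6,1,5,2,5,1,4,6,3,3,6,4] [])) (.n 30 (.l [2,6,1,6,2,5,3,2,4,4,2,9,1,1,9,3,5] []) (.n 31 (.l [6,6,4,4,5,3,5,5,3,3,6] []) (.l [5,3,5,5,3,3,6,4,6,6,4] [])))) (.n 34 (.n 33 (.l [4,5,4,9,3,5,4,9,3,6] []) (.l [4,5,3,5,5,3,3,6,4,6,6] [])) (.n 35 (.l [4,2,9,1,1,9,3,5,4,2,6,1,6,2,5,3,2] []) (.n 36 (.l [2,3,1,4,2,3,1,4,2,3,1] []) (.l [5,3,9,1,3,5,4,5,2,6,4,4,9] []))))))) (.n 56 (.n 46 (.n 41 (.n 39 (.n 38 (.l [2,6,1,3,5,4,2,5,1,3,6] []) (.l [2,6,1,3,6,4,2,5,1,3,5] [])) (.n 40 (.l [2,5,1,3,6,4,2,6,1,3,5] []) (.l [5,4,9,3,5,4,9,3,6,4] []))) (.n 43 (.n 42 (.l [5,3,2,5,1,6,2,3,5,4,1,3,6,4,6,3,6,4] []) (.l [6,6,4,6,3,3,5,5,3,5,4]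 [])) (.n 44 (.l [2,9,1,6,1,5,2,5,1,3,6,4,9,2,3,2,4] []) (.n 45 (.l [9,3,5,4,9,3,6,4,4,5] []) (.l [1,9,3,5,4,2,6,1,6,2,5,2,9,1,3,3,1] []))))) (.n 51 (.n 48 (.n 47 (.l [6,2,6,1,5,2,5,1,3,2,6,1,6,2,5,1,5] []) (.l [1,5,2,6,1,4,6,3,3,5,4,5,3,5,4,2,3,6] [])) (.n 49 (.l [4,5,3,2,5,1,6,2,3,5,4,1,3,6,4,6,3,6] []) (.n 50 (.l [2,5,1,3,5,4,2,6,1,3,6] []) (.l [6,4,5,3,6,9,6,2,6,1,5,2,5,1,9,3,5] [])))) (.n 53 (.n 52 (.l [6,8,2,6,1,6,2,5,1,3,3,9,8,6,8,3,2] []) (.l [1,3,2,4,1,3,2,4,1,3,2] [])) (.n 54 (.l [9,2,3,2,4,4,2,9,1,6,1,5,2,5,1,3,6] []) (.n 55 (.l [2,4,6,3,1,4,6,6,3,5,3,5] []) (.l [9,3,6,4,4,5,4,9,3,5] [])))))) (.n 65 (.n 60 (.n 58 (.n 57 (.l [7,5,7,9,4,4,2,6,1,5,2,5,1,7,5,3,1] []) (.l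 [5,3,5,4,4,6,3,2,6,1,4,2,5,1,3,3,5] [])) (.n 59 (.l [6,3,3,6,6,4,9,4,9,5] []) (.l [5,3,6,9,6,2,6,1,5,2,5,1,9,3,5,4,6] []))) (.n 62 (.n 61 (.l [6,3,3,6,4,4,5,3,3,5,4,6,2,6,1,5,2,5,1] []) (.l [2,3,6,4,1,5,2,6,1,4,6,3,3,5,4,5,3,5] [])) (.n 63 (.l [6,3,2,5,1,4,5,3,6,2,6,1,5,2,5,1,2,6,1] []) (.n 64 (.l [6,3,2,6,1,4,5,3,2,5,1,2,6,1,6,2,5,1,5] []) (.l [5,3,6,9,3,9,3,5,5,4] []))))) (.n 70 (.n 67 (.n 66 (.l [6,2,6,1,5,2,5,1,4,6,3,3,6,4,4,5,3,3,5] []) (.l [5,3,3,6,4,6,3,6,4,4,2,6,1,3,2,5,1] [])) (.n 68 (.l [6,1,5,2,5,1,3,6,4,9,2,2,9,1,3,3,1] []) (.n 69 (.l [6,3,2,6,1,6,2,5,1,5,4,5,3,6,2,6,1,5,2,5,1] []) (.l [4,5,3,2,6,1,6,2,5,1,5,3,6,4,4,6,3,3,5] [])))) (.n 72 (.n 71 (.l [2,6,1,5,2,5,1,7,5,3,1,4,7,5,7,9,4]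 []) (.l [6,3,5,4,5,3,6,2,6,1,5,2,5,1,6,2,6,1,5,2,5,1,6] [])) (.n 73 (.l [2,9,4,6,3,9,3,3,5,1,6,3,6] []) (.n 74 (.l [4,9,4,5,3,9,1,3,5,4,5,2,6] []) (.l [5,3,5,4,2,3,6,4,1,5,2,6,1,4,6,3,3,5] [])))))))) (.l [] []) ( .cons 4 3 (.n 37 (.n 18 (.n 9 (.n 4 (.n 2 (.n 1 (.l [8,4,7] []) (.l [9,3,5,5,4,4,5,3,6,9] [])) (.n 3 (.l [7,4,8] []) (.l [6,9,6,9,5,3] []))) (.n 6 (.n 5 (.l [3,3,3,3] []) (.l [3,5,4,9,3,6,4,9,3,6] [])) (.n 7 (.l [1,1,4,2,2] []) (.n 8 (.l [5,5,3,3,6,4,6,6,4,4,5] []) (.l [2,5,1,4,5,3,3,6,4,6,3,6,4,4,2,6,1] []))))) (.n 13 (.n 11 (.n 10 (.l [1,4,6,6,3,5,3,5,4,2,4,6] []) (.l [2,2,4,1,1] [])) (.n 12 (.l [5,5,4,4,5,3,6,9,3,9] []) (.l [1,3,1,3,1,3,1] []))) (.n 15 (.n 14 (.l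 [6,4,2,5,1,3,5,4,2,6,1] []) (.l [5,4,2,5,1,3,6,4,2,6,1] [])) (.n 16 (.l [6,4,9,3,6,3,3,5,4,9] []) (.n 17 (.l [6,6,4,9,4,9,5,4,6,3] []) (.l [3,6,9,6,9,5] [])))))) (.n 27 (.n 22 (.n 20 (.n 19 (.l [1,3,6,4,6,4,5,5,3,2,4,5] []) (.l [5,4,6,2,6,1,5,2,5,1,3,6,4,2,6,1,6,2,5,1,5] [])) (.n 21 (.l [5,4,9,3,6,4,9,3,6,3] []) (.l [9,1,3,5,4,5,2,6,4,4,9,4,5] []))) (.n 24 (.n 23 (.l [6,4,2,9,4,6,3,9,3,3,5,1,6] []) (.l [5,4,2,4,6,3,1,4,6,6,3,5] [])) (.n 25 (.l [6,4,4,5,4,9,3,5,4,9] []) (.n 26 (.l [5,4,5,3,5,4,4,6,3,2,6,1,4,2,5,1,3] []) (.l [5,5,3,5,4,4,6,6,4,6,3] []))))) (.n 32 (.n 29 (.n 28 (.l [1,4,2,3,1,4,2,3,1,4,2] []) (.l [6,3,3,5,4,9,3,6,4,9] [])) (.n 30 (.l [6,9,3,9,3,5,5,4,4,5] []) (.n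 31 (.l [5,4,5,2,6,4,4,9,4,5,3,9,1] []) (.l [5,4,9,3,6,4,4,5,4,9] [])))) (.n 34 (.n 33 (.l [3,6,4,6,6,4,4,5,3,5,5] []) (.l [5,4,6,4,5,3,6,9,6,2,6,1,5,2,5,1,9] [])) (.n 35 (.l [5,4,4,6,6,4,6,3,3,5,5] []) (.n 36 (.l [9,8,6,8,3,2,4,6,8,2,6,1,6,2,5,1,3] []) (.l [5,4,2,6,1,3,6,4,2,5,1] []))))))) (.n 55 (.n 46 (.n 41 (.n 39 (.n 38 (.l [5,4,1,3,6,4,6,3,6,4,4,5,3,2,5,1,6,2] []) (.l [9,3,3,5,1,6,3,6,4,2,9,4,6] [])) (.n 40 (.l [6,4,9,2,2,9,1,3,3,1,4,6,1,5,2,5,1] []) (.l [5,4,2,6,1,6,2,5,3,2,4,4,2,9,1,1,9] []))) (.n 43 (.n 42 (.l [6,4,2,6,1,3,5,4,2,5,1] []) (.l [3,1,4,1,9,3,5,4,2,6,1,6,2,5,2,9,1] [])) (.n 44 (.l [3,5,5,3,5,4,4,6,6,4,6] []) (.n 45 (.l [2,4,6,8,2,6,1,6,2,5,1,3,3,9,8,6,8] [])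 (.l [6,4,9,2,6,1,6,2,5,1,5,9,5,4,6,3,5] []))))) (.n 50 (.n 48 (.n 47 (.l [5,3,6,4,9,2,6,1,6,2,5,1,5,9,5,4,6] []) (.l [6,2,6,1,5,2,5,1,2,6,1,4,6,3,2,5,1,4,5] [])) (.n 49 (.l [1,4,1,9,3,5,4,2,6,1,6,2,5,2,9,1,3] []) (.l [2,4,5,3,1,3,6,4,6,4,5,5] []))) (.n 52 (.n 51 (.l [2,5,1,4,5,3,6,2,6,1,5,2,5,1,2,6,1,4,6] []) (.l [2,4,1,3,2,4,1,3,2,4,1] [])) (.n 53 (.l [6,4,6,4,5,5,3,2,4,5,3,1] []) (.n 54 (.l [2,6,1,4,2,5,1,3,3,5,4,5,3,5,4,4,6] []) (.l [5,4,2,6,1,9,2,5,1,9,2,6,1,9,2,2,2,4,6,3,2] [])))))) (.n 64 (.n 59 (.n 57 (.n 56 (.l [5,3,5,4,2,4,6,3,1,4,6,6] []) (.l [3,5,4,5,3,5,4,4,6,3,2,6,1,4,2,5,1] [])) (.n 58 (.l [1,4,7,5,7,9,4,4,2,6,1,5,2,5,1,7,5] []) (.l [9,8,1,3,3,2,4,6,3,6,4,2,6,1,6,2,5,1,5,1,9,1,9,6,1]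 []))) (.n 61 (.n 60 (.l [6,4,1,5,2,6,1,4,6,3,3,5,4,5,3,5,4,2] []) (.l [3,6,6,4,9,4,9,5,4,6] [])) (.n 62 (.l [2,6,1,6,2,5,1,5,4,5,3,6,2,6,1,5,2,5,1,4,6] []) (.n 63 (.l [6,9,6,2,6,1,5,2,5,1,9,3,5,4,6,4,5] []) (.l [3,5,1,6,3,6,4,2,9,4,6,3,9] []))))) (.n 69 (.n 66 (.n 65 (.l [2,5,1,2,6,1,6,2,5,1,5,4,6,3,2,6,1,4,5] []) (.l [2,6,1,6,2,5,1,5,4,6,2,6,1,5,2,5,1] [])) (.n 67 (.l [5,4,5,3,6,2,6,1,5,2,5,1,6,2,6,1,5,2,5,1,6,4,6] []) (.n 68 (.l [2,6,1,6,2,5,1,5,3,6,4,4,6,3,3,5,4,4,5] []) (.l [3,1,4,6,1,5,2,5,1,3,6,4,9,2,2,9,1] [])))) (.n 71 (.n 70 (.l [2,4,4,2,9,1,6,1,5,2,5,1,3,6,4,9,2] []) (.l [1,4,6,1,5,2,5,1,3,6,4,9,2,2,9,1,3] [])) (.n 72 (.l [6,4,4,5,3,3,5,4,6,2,6,1,5,2,5,1,4,6,3] [])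 (.n 73 (.l [6,4,6,3,5,4,5,6,2,6,1,5,2,5,1,6,2,6,1,5,2,5,1] []) (.l [5,4,4,5,3,2,6,1,6,2,5,1,5,3,6,4,4,6,3] [])))))))) (.l [] []) ( .cons 5 6 (.n 42 (.n 21 (.n 10 (.n 5 (.n 2 (.n 1 (.l [9,5,3,3,6,9] []) (.l [6,6,6,6] [])) (.n 3 (.l [3,1,4,6,6,3,5,3,5,4,2,4] []) (.n 4 (.l [9,6,9,5,3,3] []) (.l [9,5,9,5,4,4] [])))) (.n 7 (.n 6 (.l [2,3,5,4,1,3,6,4,6,3,6,4,4,5,3,2,5,1] []) (.l [1,1,6,6,2,2] [])) (.n 8 (.l [3,3,5,4,5,3,5,4,2,3,6,4,1,5,2,6,1,4] []) (.n 9 (.l [4,2,5,1,3,5,4,2,6,1,3] []) (.l [4,9,3,6,3,3,5,4,9,3] []))))) (.n 15 (.n 12 (.n 11 (.l [6,2,2,6,1,1] []) (.l [4,2,6,1,3,5,4,2,5,1,3] [])) (.n 13 (.l [1,6,2,5,3,2,4,4,2,9,1,1,9,3,5,4,2] []) (.n 14 (.l [3,3,6,6,4,9,4,9,5,4] []) (.l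 [3,3,5,5,3,5,4,4,6,6,4] [])))) (.n 18 (.n 16 (.l [3,5,3,5,4,2,4,6,3,1,4,6] []) (.n 17 (.l [4,6,3,6,4,4,5,3,2,5,1,6,2,3,5,4,1,3] []) (.l [2,2,6,1,1,6] []))) (.n 19 (.l [6,4,6,3,3,5,5,3,5,4,4] []) (.n 20 (.l [1,3,6,4,2,5,1,3,5,4,2] []) (.l [2,6,1,5,2,5,1,5,2,6,1,6,2,5,1] [])))))) (.n 31 (.n 26 (.n 23 (.n 22 (.l [2,6,1,5,2,5,1,3,2,6,1,6,2,5,1,5,4] []) (.l [3,3,5,4,9,3,6,4,9,3] [])) (.n 24 (.l [4,4,5,4,9,3,5,4,9,3] []) (.n 25 (.l [4,5,3,5,2,6,1,6,2,5,1,5,2,6,1,6,2,5,1,5,4,6,3] []) (.l [4,6,4,5,5,3,2,4,5,3,1,3] [])))) (.n 28 (.n 27 (.l [1,3,5,4,2,5,1,3,6,4,2] []) (.l [8,3,2,4,6,8,2,6,1,6,2,5,1,3,3,9,8] [])) (.n 29 (.l [6,4,4,5,3,5,5,3,3,6,4] []) (.n 30 (.l [1,3,2,5,1,4,5,3,3,6,4,6,3,6,4,4,2]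 []) (.l [2,5,1,5,3,6,4,4,6,3,3,5,4,4,5,3,2,6,1] []))))) (.n 36 (.n 33 (.n 32 (.l [4,6,3,3,5,5,3,5,4,4,6] []) (.l [9,3,9,3,5,5,4,4,5,3] [])) (.n 34 (.l [4,2,9,4,6,3,9,3,3,5,1,6,3] []) (.n 35 (.l [4,9,4,9,5,4,6,3,3,6] []) (.l [3,9,3,3,5,1,6,3,6,4,2,9,4] [])))) (.n 39 (.n 37 (.l [4,5,5,3,2,4,5,3,1,3,6,4] []) (.n 38 (.l [1,5,2,5,1,2,6,1,4,6,3,2,5,1,4,5,3,6,2] []) (.l [3,2,5,1,4,5,3,6,2,6,1,5,2,5,1,2,6,1,4] []))) (.n 40 (.l [4,5,3,5,4,2,6,1,6,2,5,1,5,2,6,1,6,2,5,1,5,6,3] []) (.n 41 (.l [6,4,9,4,9,5,4,6,3,3] []) (.l [2,6,1,5,2,5,1,2,6,1,4,6,3,2,5,1,4,5,3] []))))))) (.n 63 (.n 52 (.n 47 (.n 44 (.n 43 (.l [3,2,6,1,4,2,5,1,3,3,5,4,5,3,5,4,4] []) (.l [4,1,5,2,6,1,4,6,3,3,5,4,5,3,5,4,2,3]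 [])) (.n 45 (.l [2,6,1,5,2,5,1,7,2,6,1,6,2,5,1,5,7,6,2,6,1,5,2,5,2,7] []) (.n 46 (.l [2,5,1,3,3,9,8,6,8,3,2,4,6,8,2,6,1] []) (.l [1,5,2,5,1,3,2,6,1,6,2,5,1,5,4,6,2] [])))) (.n 49 (.n 48 (.l [6,3,5,3,5,4,2,4,6,3,1,4] []) (.l [4,6,6,4,4,5,3,5,5,3,3] [])) (.n 50 (.l [3,6,4,2,9,4,6,3,9,3,3,5,1] []) (.n 51 (.l [2,5,1,5,9,5,4,6,3,5,3,6,4,9,2,6,1] []) (.l [1,5,2,5,1,7,5,3,1,4,7,5,7,9,4,4,2] []))))) (.n 57 (.n 54 (.n 53 (.l [2,6,1,6,2,5,1,5,2,6,1,5,2,5,1] []) (.l [4,4,9,4,5,3,9,1,3,5,4,5,2] [])) (.n 55 (.l [3,5,3,6,4,9,2,6,1,6,2,5,1,5,9,5,4] []) (.n 56 (.l [3,2,6,1,6,2,5,1,5,4,5,3,6,2,6,1,5,2,5,1,4] []) (.l [1,5,2,5,1,5,2,6,1,6,2,5,1,6,2] [])))) (.n 60 (.n 58 (.l [1,6,2,5,1,5,2,6,1,5,2,5,1,6,2]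 []) (.n 59 (.l [1,4,2,5,1,3,3,5,4,5,3,5,4,4,6,3,2] []) (.l [1,6,2,5,1,6,2,6,1,5,2,5,1,5,2] []))) (.n 61 (.l [1,5,2,5,1,6,2,6,1,6,2,5,1,5,2] []) (.n 62 (.l [2,5,2,9,1,3,3,1,4,1,9,3,5,4,2,6,1] []) (.l [3,5,4,5,3,6,2,6,1,5,2,5,1,6,2,6,1,5,2,5,1,6,4] [])))))) (.n 74 (.n 68 (.n 65 (.n 64 (.l [4,5,3,6,9,6,2,6,1,5,2,5,1,9,3,5,4] []) (.l [1,9,2,5,1,9,2,6,1,9,2,2,2,4,6,3,2,3,5,4,2] [])) (.n 66 (.l [4,4,5,3,5,5,3,3,6,4,6] []) (.n 67 (.l [2,5,1,6,2,6,1,5,2,5,1,5,2,6,1] []) (.l [1,9,2,2,2,4,6,3,2,3,5,4,2,6,1,9,2,5,1,9,2] [])))) (.n 71 (.n 69 (.l [4,6,3,6,4,4,2,6,1,3,2,5,1,4,5,3,3] []) (.n 70 (.l [1,6,2,6,1,5,2,5,5,1,2,6,1,6,2,5,1,5,2] []) (.l [1,5,2,5,1,9,3,5,4,6,4,5,3,6,9,6,2] []))) (.n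 72 (.l [1,5,2,5,1,3,6,4,9,2,3,2,4,4,2,9,1] []) (.n 73 (.l [1,6,2,5,1,5,7,6,2,6,1,5,2,5,2,7,6,2,6,1,5,2,5,1,7,2] []) (.l [2,5,1,5,3,6,2,6,1,5,2,5,1,4,2,6,1] []))))) (.n 79 (.n 76 (.n 75 (.l [1,3,9,8,1,3,3,2,4,6,3,6,4,2,6,1,6,2,5,1,5,1,9,1,9] []) (.l [2,5,1,5,4,6,2,6,1,5,2,5,1,3,2,6,1] [])) (.n 77 (.l [2,6,1,5,2,5,2,7,6,2,6,1,5,2,5,1,7,2,6,1,6,2,5,1,5,7] []) (.n 78 (.l [8,2,6,1,6,2,5,1,3,3,9,8,6,8,3,2,4] []) (.l [1,6,2,5,1,3,3,9,8,6,8,3,2,4,6,8,2] [])))) (.n 82 (.n 80 (.l [2,6,1,5,2,5,1,8,2,6,1,6,2,5,1,5,8,1,6,1,6,2,5,1,5,8] []) (.n 81 (.l [2,6,1,5,2,5,1,9,3,5,4,6,4,5,3,6,9] []) (.l [3,2,6,1,4,5,3,2,5,1,2,6,1,6,2,5,1,5,4] []))) (.n 83 (.l [2,5,1,5,2,6,1,5,2,5,1,6,2,6,1] []) (.n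 84 (.l [1,4,6,3,3,5,4,5,3,5,4,2,3,6,4,1,5,2] []) (.l [3,6,4,4,2,6,1,3,2,5,1,4,5,3,3,6,4] [])))))))) (.l [] []) ( .cons 6 5 (.n 44 (.n 22 (.n 11 (.n 5 (.n 2 (.n 1 (.l [9,5,4,4,6,9] []) (.l [3,1,3,6,4,6,4,5,5,3,2,4] [])) (.n 3 (.l [9,2,9,2,6,2,6,1,5,2,5,1,3,5,4,5,3,1,4,4,2,7,9,4,2] []) (.n 4 (.l [4,4,6,9,5,9] []) (.l [3,3,6,9,6,9] [])))) (.n 8 (.n 6 (.l [5,3,5,4,4,6,6,4,6,3,3] []) (.n 7 (.l [3,6,4,9,2,6,1,6,2,5,1,5,9,5,4,6,3] []) (.l [2,6,1,4,6,3,3,5,4,5,3,5,4,2,3,6,4,1] []))) (.n 9 (.l [1,1,5,5,2,2] []) (.n 10 (.l [3,2,5,1,6,2,3,5,4,1,3,6,4,6,3,6,4,4] []) (.l [4,2,5,1,3,6,4,2,6,1,3] []))))) (.n 16 (.n 13 (.n 12 (.l [4,9,3,6,4,9,3,6,3,3] []) (.l [5,5,5,5] [])) (.n 14 (.l [2,2,5,1,1,5]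 []) (.n 15 (.l [4,9,3,6,4,4,5,4,9,3] []) (.l [4,2,4,6,3,1,4,6,6,3,5,3] [])))) (.n 19 (.n 17 (.l [5,2,2,5,1,1] []) (.n 18 (.l [4,6,4,5,3,6,9,6,2,6,1,5,2,5,1,9,3] []) (.l [2,5,1,9,3,5,4,6,4,5,3,6,9,6,2,6,1] []))) (.n 20 (.l [2,6,1,5,2,5,1,6,2,6,1,6,2,5,1] []) (.n 21 (.l [3,2,6,1,6,2,5,1,5,4,6,3,6,2,6,1,5,2,5,1,4] []) (.l [3,2,4,5,3,1,3,6,4,6,4,5] [])))))) (.n 33 (.n 27 (.n 24 (.n 23 (.l [1,3,2,6,1,6,2,5,1,5,4,6,2,6,1,5,2] []) (.l [4,6,3,6,2,6,1,5,2,5,1,4,5,3,2,6,1,6,2,5,1] [])) (.n 25 (.l [3,5,5,3,3,6,4,6,6,4,4] []) (.n 26 (.l [2,5,1,6,2,6,1,6,2,5,1,5,2,6,1] []) (.l [2,6,1,6,2,5,1,6,2,6,1,5,2,5,1] [])))) (.n 30 (.n 28 (.l [5,3,3,6,4,6,6,4,4,5,3] []) (.n 29 (.l [4,6,3,3,6,6,4,9,4,9]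 []) (.l [1,3,5,4,2,6,1,3,6,4,2] []))) (.n 31 (.l [3,5,4,4,6,6,4,6,3,3,5] []) (.n 32 (.l [4,9,3,5,4,9,3,6,4,4] []) (.l [7,9,4,4,2,6,1,5,2,5,1,7,5,3,1,4,7] []))))) (.n 38 (.n 35 (.n 34 (.l [4,2,6,1,3,6,4,2,5,1,3] []) (.l [1,3,6,4,2,6,1,3,5,4,2] [])) (.n 36 (.l [4,4,6,6,4,6,3,3,5,5,3] []) (.n 37 (.l [3,9,1,3,5,4,5,2,6,4,4,9,4] []) (.l [1,5,9,5,4,6,3,5,3,6,4,9,2,6,1,6,2] [])))) (.n 41 (.n 39 (.l [3,6,2,6,1,5,2,5,1,2,6,1,4,6,3,2,5,1,4] []) (.n 40 (.l [5,4,4,5,3,6,9,3,9,3] []) (.l [3,6,9,3,9,3,5,5,4,4] []))) (.n 42 (.l [4,4,5,3,6,9,3,9,3,5] []) (.n 43 (.l [1,7,5,3,1,4,7,5,7,9,4,4,2,6,1,5,2] []) (.l [3,1,4,7,5,7,9,4,4,2,6,1,5,2,5,1,7] []))))))) (.n 66 (.n 55 (.n 49 (.n 46 (.n 45 (.l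 [1,5,2,6,1,6,2,6,1,5,2,5,5,1,2,6,1,6,2] []) (.l [1,3,3,5,4,5,3,5,4,4,6,3,2,6,1,4,2] [])) (.n 47 (.l [4,6,3,2,6,1,4,5,3,2,5,1,2,6,1,6,2,5,1] []) (.n 48 (.l [1,9,2,6,1,9,2,2,2,4,6,3,2,3,5,4,2,6,1,9,2] []) (.l [3,5,4,4,6,3,2,6,1,4,2,5,1,3,3,5,4] [])))) (.n 52 (.n 50 (.l [4,5,3,6,2,6,1,5,2,5,1,6,2,6,1,5,2,5,1,6,4,6,3] []) (.n 51 (.l [2,5,1,7,5,3,1,4,7,5,7,9,4,4,2,6,1] []) (.l [1,6,2,6,1,6,2,5,1,5,2,6,1,5,2] []))) (.n 53 (.l [7,6,2,6,1,5,2,5,2,7,6,2,6,1,5,2,5,1,7,2,6,1,6,2,5,1] []) (.n 54 (.l [8,6,2,6,1,5,2,5,1,8,2,6,1,6,2,5,1,5,8,1,6,1,6,2,5,1] []) (.l [1,5,8,6,2,6,1,5,2,5,1,8,2,6,1,6,2,5,1,5,8,1,6,1,6,2] []))))) (.n 60 (.n 57 (.n 56 (.l [1,5,2,6,1,5,2,5,1,6,2,6,1,6,2] []) (.l [2,6,4,4,9,4,5,3,9,1,3,5,4]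 [])) (.n 58 (.l [4,2,6,1,6,2,5,1,5,2,6,1,6,2,5,1,5,6,3,6,4,5,3] []) (.n 59 (.l [2,5,1,3,2,6,1,6,2,5,1,5,4,6,2,6,1] []) (.l [3,6,2,6,1,5,2,5,1,4,2,6,1,6,2,5,1] [])))) (.n 63 (.n 61 (.l [2,5,1,4,2,6,1,6,2,5,1,5,3,6,2,6,1] []) (.n 62 (.l [4,2,3,6,4,1,5,2,6,1,4,6,3,3,5,4,5,3] []) (.l [1,6,2,6,1,5,2,5,1,5,2,6,1,6,2] []))) (.n 64 (.l [3,2,5,1,2,6,1,6,2,5,1,5,4,6,3,2,6,1,4] []) (.n 65 (.l [1,4,2,6,1,6,2,5,1,5,3,6,2,6,1,5,2] []) (.l [1,4,5,3,3,6,4,6,3,6,4,4,2,6,1,3,2] [])))))) (.n 77 (.n 71 (.n 68 (.n 67 (.l [2,5,1,5,2,6,1,6,2,5,1,6,2,6,1] []) (.l [4,5,2,6,4,4,9,4,5,3,9,1,3] [])) (.n 69 (.l [3,5,4,2,4,6,3,1,4,6,6,3] []) (.n 70 (.l [2,5,1,7,2,6,1,6,2,5,1,5,7,6,2,6,1,5,2,5,2,7,6,2,6,1]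 []) (.l [1,5,2,6,1,6,2,5,1,6,2,6,1,5,2] [])))) (.n 74 (.n 72 (.l [1,3,3,9,8,6,8,3,2,4,6,8,2,6,1,6,2] []) (.n 73 (.l [2,5,1,3,5,4,5,3,1,4,4,2,7,9,4,2,5,9,2,9,2,6,2,6,1] []) (.l [5,3,2,4,5,3,1,3,6,4,6,4] []))) (.n 75 (.l [3,3,6,4,6,6,4,4,5,3,5] []) (.n 76 (.l [1,6,3,6,4,2,9,4,6,3,9,3,3] []) (.l [1,6,2,6,1,5,2,5,1,2,6,6,1,6,2,5,1,5,2] []))))) (.n 83 (.n 80 (.n 78 (.l [2,5,1,3,6,4,9,2,3,2,4,4,2,9,1,6,1] []) (.n 79 (.l [1,5,4,6,3,2,6,1,4,5,3,2,5,1,2,6,1,6,2] []) (.l [1,9,1,9,6,1,3,9,8,1,3,3,2,4,6,3,6,4,2,6,1,6,2,5,1] []))) (.n 81 (.l [4,6,2,6,1,5,2,5,1,3,2,6,1,6,2,5,1] []) (.n 82 (.l [4,6,3,5,3,6,4,9,2,6,1,6,2,5,1,5,9] []) (.l [2,5,1,8,2,6,1,6,2,5,1,5,8,1,6,1,6,2,5,1,5,8,6,2,6,1]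 [])))) (.n 86 (.n 84 (.l [1,9,3,5,4,6,4,5,3,6,9,6,2,6,1,5,2] []) (.n 85 (.l [2,5,5,1,2,6,1,6,2,5,1,5,2,6,1,6,2,6,1] []) (.l [1,4,5,3,6,2,6,1,5,2,5,1,2,6,1,4,6,3,2] []))) (.n 87 (.l [4,6,2,6,1,5,2,5,1,4,6,3,3,6,4,4,5,3,3] []) (.n 88 (.l [8,1,6,1,6,2,5,1,5,8,6,2,6,1,5,2,5,1,8,2,6,1,6,2,5,1] []) (.l [5,1,2,6,1,6,2,5,1,5,2,6,1,6,2,6,1,5,2] [])))))))) (.l [] []) ( .cons 7 8 (.n 6 (.n 3 (.n 1 (.l [1,1,1,1,8] []) (.n 2 (.l [4,7,3] []) (.l [3,7,4] []))) (.n 4 (.l [8,1,1,1,1] []) (.n 5 (.l [2,7,1,1,1] []) (.l [1,7,2,2,2] [])))) (.n 9 (.n 7 (.l [6,8,3,2,4,6,8,2,6,1,6,2,5,1,3,3,9] []) (.n 8 (.l [3,2,4,6,8,2,6,1,6,2,5,1,3,3,9,8,6] []) (.l [2,6,1,6,2,5,1,3,3,9,8,6,8,3,2,4,6] []))) (.n 11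 (.n 10 (.l [1,6,1,6,2,5,1,5,8,6,2,6,1,5,2,5,1,8,2,6,1,6,2,5,1,5] []) (.l [1,3,3,2,4,6,3,6,4,2,6,1,6,2,5,1,5,1,9,1,9,6,1,3,9] [])) (.n 12 (.l [2,6,1,6,2,5,1,5,8,1,6,1,6,2,5,1,5,8,6,2,6,1,5,2,5,1] []) (.l [6,2,6,1,5,2,5,1,8,2,6,1,6,2,5,1,5,8,1,6,1,6,2,5,1,5] []))))) (.e) ( .cons 8 7 (.n 6 (.n 3 (.n 1 (.l [2,2,2,2,7] []) (.n 2 (.l [4,8,3] []) (.l [3,8,4] []))) (.n 4 (.l [5,7,9,4,4,2,6,1,5,2,5,1,7,5,3,1,4] []) (.n 5 (.l [1,1,1,8,2] []) (.l [7,2,2,2,2] [])))) (.n 9 (.n 7 (.l [9,4,4,2,6,1,5,2,5,1,7,5,3,1,4,7,5] []) (.n 8 (.l [2,2,2,8,1] []) (.l [5,3,1,4,7,5,7,9,4,4,2,6,1,5,2,5,1] []))) (.n 11 (.n 10 (.l [6,2,6,1,5,2,5,2,7,6,2,6,1,5,2,5,1,7,2,6,1,6,2,5,1,5] []) (.l [9,4,2,5,9,2,9,2,6,2,6,1,5,2,5,1,3,5,4,5,3,1,4,4,2]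 [])) (.n 12 (.l [6,2,6,1,5,2,5,1,7,2,6,1,6,2,5,1,5,7,6,2,6,1,5,2,5,2] []) (.l [2,6,1,6,2,5,1,5,7,6,2,6,1,5,2,5,2,7,6,2,6,1,5,2,5,1] []))))) (.e) ( .cons 9 9 (.n 20 (.n 10 (.n 5 (.n 2 (.n 1 (.l [5,9,5,4,4,6] []) (.l [5,4,4,6,9,5] [])) (.n 3 (.l [4,9,5,4,6,3,3,6,6,4] []) (.n 4 (.l [6,9,5,3,3,6] []) (.l [2,6,1,9,2,2,2,4,6,3,2,3,5,4,2,6,1,9,2,5,1] [])))) (.n 7 (.n 6 (.l [1,3,3,1,4,6,1,5,2,5,1,3,6,4,9,2,2] []) (.l [3,3,5,1,6,3,6,4,2,9,4,6,3] [])) (.n 8 (.l [3,6,4,9,3,6,3,3,5,4] []) (.n 9 (.l [2,5,1,9,2,6,1,9,2,2,2,4,6,3,2,3,5,4,2,6,1] []) (.l [3,5,5,4,4,5,3,6,9,3] []))))) (.n 15 (.n 12 (.n 11 (.l [5,3,3,6,9,6] []) (.l [3,5,4,9,3,6,4,4,5,4] [])) (.n 13 (.l [5,4,6,3,3,6,6,4,9,4] [])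 (.n 14 (.l [8,6,8,3,2,4,6,8,2,6,1,6,2,5,1,3,3] []) (.l [3,6,3,3,5,4,9,3,6,4] [])))) (.n 17 (.n 16 (.l [3,9,3,5,5,4,4,5,3,6] []) (.l [4,5,3,9,1,3,5,4,5,2,6,4,4] [])) (.n 18 (.l [4,2,5,9,2,9,2,6,2,6,1,5,2,5,1,3,5,4,5,3,1,4,4,2,7] []) (.n 19 (.l [2,6,1,6,2,5,1,5,9,5,4,6,3,5,3,6,4] []) (.l [1,3,5,4,5,2,6,4,4,9,4,5,3] [])))))) (.n 30 (.n 25 (.n 22 (.n 21 (.l [8,1,3,3,2,4,6,3,6,4,2,6,1,6,2,5,1,5,1,9,1,9,6,1,3] []) (.l [4,6,3,9,3,3,5,1,6,3,6,4,2] [])) (.n 23 (.l [2,2,2,4,6,3,2,3,5,4,2,6,1,9,2,5,1,9,2,6,1] []) (.n 24 (.l [1,1,9,3,5,4,2,6,1,6,2,5,3,2,4,4,2] []) (.l [4,4,2,6,1,5,2,5,1,7,5,3,1,4,7,5,7] [])))) (.n 27 (.n 26 (.l [1,3,3,1,4,1,9,3,5,4,2,6,1,6,2,5,2] []) (.l [6,1,3,9,8,1,3,3,2,4,6,3,6,4,2,6,1,6,2,5,1,5,1,9,1]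 [])) (.n 28 (.l [3,6,4,4,5,4,9,3,5,4] []) (.n 29 (.l [2,5,1,3,6,4,1,4,5,3,1,1,1,9,2,5,1,9,2,6,1] []) (.l [3,5,4,2,6,1,6,2,5,3,2,4,4,2,9,1,1] []))))) (.n 35 (.n 32 (.n 31 (.l [2,6,1,9,2,5,1,3,6,4,1,4,5,3,1,1,1,9,2,5,1] []) (.l [2,9,2,6,2,6,1,5,2,5,1,3,5,4,5,3,1,4,4,2,7,9,4,2,5] [])) (.n 33 (.l [1,6,1,5,2,5,1,3,6,4,9,2,3,2,4,4,2] []) (.n 34 (.l [6,2,6,1,5,2,5,1,9,3,5,4,6,4,5,3,6] []) (.l [2,2,9,1,3,3,1,4,6,1,5,2,5,1,3,6,4] [])))) (.n 38 (.n 36 (.l [1,9,6,1,3,9,8,1,3,3,2,4,6,3,6,4,2,6,1,6,2,5,1,5,1] []) (.n 37 (.l [3,5,4,6,4,5,3,6,9,6,2,6,1,5,2,5,1] []) (.l [5,4,6,3,5,3,6,4,9,2,6,1,6,2,5,1,5] []))) (.n 39 (.l [2,3,2,4,4,2,9,1,6,1,5,2,5,1,3,6,4] []) (.n 40 (.l [2,5,1,9,2,6,1,9,2,5,1,3,6,4,1,4,5,3,1,1,1]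 []) (.l [3,5,4,2,6,1,6,2,5,2,9,1,3,3,1,4,1] []))))))) (.e) ( .nil )))))))))

def iv : List (Nat × Nat) := [(1, 2), (3, 4), (5, 6), (7, 8)]

def RL : List (List Nat × Nat) := [([1], 8), ([3], 5), ([1, 3], 4), ([2, 2, 4, 1, 1, 3], 1), ([2, 4, 1, 3], 3), ([5], 5), ([6, 2, 6, 1, 5, 2, 5, 1], 5), ([6, 2, 6, 1, 6, 2, 5, 1, 5, 2, 6, 1, 5, 2, 5, 1], 1), ([2, 6, 6, 1, 6, 2, 5, 1, 5, 2, 5, 1, 6, 2, 6, 1, 5, 2, 5, 1], 1), ([4, 6, 3, 2, 6, 1, 6, 2, 5, 1, 5, 4, 5, 3, 6, 2, 6, 1, 5, 2, 5, 1], 1), ([3, 6, 4, 2, 6, 1, 6, 2, 5, 1, 5, 3, 5, 4, 6, 2, 6, 1, 5, 2, 5, 1], 1), ([6, 4, 6, 3, 5, 4, 5, 3, 6, 2, 6, 1, 5, 2, 5, 1, 6, 2, 6, 1, 5, 2, 5, 1], 1), ([6, 3, 6, 4, 5, 3, 5, 4, 2, 6, 1, 6, 2, 5,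 1, 5, 2, 6, 1, 6, 2, 5, 1, 5], 1), ([2, 6, 1, 4, 6, 3, 2, 5, 1, 4, 5, 3, 6, 2, 6, 1, 5, 2, 5, 1], 1), ([2, 6, 1, 3, 6, 4, 2, 5, 1, 3, 5, 4], 1), ([4, 6, 3, 3, 6, 4, 4, 5, 3, 3, 5, 4, 6, 2, 6, 1, 5, 2, 5, 1], 1), ([2, 2, 5, 1, 1, 5, 5], 1), ([2, 4, 5, 3, 1, 3, 6, 4, 6, 4, 5, 5, 3], 1), ([2, 3, 5, 4, 1, 3, 6, 4, 6, 3, 6, 4, 4, 5, 3, 2, 5, 1, 6], 1), ([2, 6, 2, 6, 1, 5, 2, 5, 1, 6, 1, 6, 2, 5, 1, 5, 2, 6, 1, 6, 2, 5, 1, 5], 1), ([4, 2, 5, 1, 3, 3, 5, 4, 5, 3, 5, 4, 4, 6, 3, 2, 6, 1], 1), ([4, 4, 5, 3, 5, 5, 3, 3, 6, 4, 6, 6], 1), ([4, 6, 2, 6, 1, 5, 2, 5, 1, 3, 2, 6, 1, 6, 2, 5, 1, 5], 1), ([9, 8, 6, 8, 3, 2, 4, 6, 8, 2, 6, 1, 6, 2, 5, 1, 3, 3], 1), ([9, 5, 9, 5, 4, 4, 6], 1), ([9,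 4, 5, 3, 9, 1, 3, 5, 4, 5, 2, 6, 4, 4], 1), ([9, 3, 5, 4, 9, 3, 6, 4, 4, 5, 4], 1), ([9, 6, 2, 6, 1, 5, 2, 5, 1, 9, 3, 5, 4, 6, 4, 5, 3, 6], 1), ([9, 1, 1, 9, 3, 5, 4, 2, 6, 1, 6, 2, 5, 3, 2, 4, 4, 2], 1), ([9, 3, 9, 3, 5, 5, 4, 4, 5, 3, 6], 1), ([9, 1, 3, 3, 1, 4, 1, 9, 3, 5, 4, 2, 6, 1, 6, 2, 5, 2], 1), ([9, 2, 5, 1, 9, 2, 6, 1, 9, 2, 5, 1, 3, 6, 4, 1, 4, 5, 3, 1, 1, 1], 1), ([7, 9, 4, 2, 5, 9, 2, 9, 2, 6, 2, 6, 1, 5, 2, 5, 1, 3, 5, 4, 5, 3, 1, 4, 4, 2], 1), ([7, 7, 2, 2, 2, 2], 1), ([4, 8, 3, 7], 1), ([8, 1, 7, 2, 2, 2], 1), ([7, 6, 2, 6, 1, 5, 2, 5, 1], 5), ([7, 6, 2, 6, 1, 5, 2, 5, 1, 7, 2, 6, 1, 6, 2, 5, 1, 5, 7, 6, 2, 6, 1, 5, 2, 5, 2], 1)]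

def subs : List (List Nat) := [[1], [3], [5]]

noncomputable def P : Par := ⟨tab, 440, 2839213766779714416208296124562517712318911565184836172974571090549372219192960637992933791850638927971728600024477257552869537611775, 5399, icG 9 iv, lw⟩

end Cfsg.Agent.CosetEnum.LYH
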