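import Cfsg.Agent.CosetEnum.Ly.Facts
import Cfsg.Agent.CosetEnum.Ly.Count
import Cfsg.Agent.CosetEnum.Ly.CV1
import Cfsg.Agent.CosetEnum.Ly.CV2
import Cfsg.Agent.CosetEnum.Ly.CV3
import Cfsg.Agent.CosetEnum.Ly.CV4

/-! The index of `H` is at most 8835156 (generated, owner: helper66). -/

set_option autoImplicit false
set_option maxRecDepth 1000000

namespace Cfsg.Agent.LyG

open MulAction Cfsg.Agent.CosetEnum

variable {G : Type} [Group G] {g : ℕ → G} (hg : Good g 15 ivG RLG)

/-- representatives of the double cosets -/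
def Ws : List (List ℕ) := [W0, W1, W2, W3, W4]

include hg in
theorem gd0 (a : QA) : Gd hg Ws W0 a := by
  refine ⟨W1, by decide, 1, ?_⟩
  have h1 : ev g W1 = g 14 := by simp [ev, W1]
  have h2 : ev g W0 = 1 := by simp [ev, W0]
  rw [h1, h2, map_one, one_mul, mul_one, mul_assoc, mul_inv_cancel, mul_one]
  exact th_mem hg a

include hg in
theorem sg0 (A : MulAction QA (G ⧸ Cl g 13)) (hA : ∀ (a : QA) (x : G ⧸ Cl g 13), a • x = th hg a • x) :
    5859000000 ≤ 1 * Nat.card (stabilizer QA (pt g (ev g W0))) := by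
  have h1 : stabilizer QA (pt g (ev g W0)) = ⊤ := by
    rw [eq_top_iff]
    intro a _
    show a • pt g (ev g W0) = pt g (ev g W0)
    have h2 : ev g W0 = 1 := by simp [ev, W0]
    rw [hA, smul_pt, h2, pt_eq, one_mul, inv_one, mul_one]
    exact th_mem hg _
  rw [h1, Nat.card_congr (Subgroup.topEquiv (G := QA)).toEquiv, card_QA]

include hg in
theorem gd1 (a : QA) : Gd hg Ws W1 a := by
  refine gd_all (st := st1) (gens := gens1) ?_ ?_ (by decide +kernel) cov1 a
  · exact ⟨⟨by decide +kernel, Gd.start (a := []) (u1 hg) (by decide +kernel) (by decide +kernel) (by decide +kernel)⟩, ⟨by decide +kernel, Gd.start (a := [9]) (u2 hg) (by decide +kernel) (by decide +kernel) (by decide +kernel)⟩, ⟨by decide +kernel, Gd.start (a := [13, 6]) (u3 hg) (by decide +kernel) (by decide +kernel) (by decide +kernel)⟩, ⟨by decide +kernel, Gd.start (a := [11]) (u4 hg) (by decide +kernel) (by decide +kernel) (by decide +kernel)⟩, ⟨by decide +kernel, Gd.start (a := [9, 11]) (u9 hg) (by decide +kernel)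 (by decide +kernel) (by decide +kernel)⟩, ⟨by decide +kernel, Gd.start (a := [11, 13]) (u34 hg) (by decide +kernel) (by decide +kernel) (by decide +kernel)⟩, trivial⟩
  · exact ⟨s1_0 hg, (s1_0 hg).inv hg, s1_1 hg, (s1_1 hg).inv hg, s1_2 hg, (s1_2 hg).inv hg, s1_3 hg, (s1_3 hg).inv hg, trivial⟩

theorem ch1 : chX LYT.P ([] :: gens1) ls1 [] = true := by decide +kernel

include hg in
theorem sg1 (A : MulAction QA (G ⧸ Cl g 13)) (hA : ∀ (a : QA) (x : G ⧸ Cl g 13), a • x = th hg a • x) :
    5859000000 ≤ 19530 * Nat.card (stabilizer QA (pt g (ev g W1))) := by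
  have h := stab_ge hg (W := W1) (ws := gens1) ⟨s1_0 hg, (s1_0 hg).inv hg, s1_1 hg, (s1_1 hg).inv hg, s1_2 hg, (s1_2 hg).inv hg, s1_3 hg, (s1_3 hg).inv hg, trivial⟩ (by decide +kernel) (ls := ls1) ch1 A hA
  have h1 : (ls1.map fun p => p.2.length).prod = 300000 := by decide +kernel
  rw [h1] at h
  exact Nat.mul_le_mul_left 19530 h

include hg in
theorem gd2 (a : QA) : Gd hg Ws W2 a := by
  refine gd_all (st := st2) (gens := gens2) ?_ ?_ (by decide +kernel) cov2 a
  · exact ⟨⟨by decide +kernel, Gd.start (a := []) (u5 hg) (by decide +kernel) (by decide +kernel) (by decide +kernel)⟩, ⟨by decide +kernel, Gd.start (a := [9, 11]) (u8 hg) (by decide +kernel) (by decide +kernel) (by decide +kernel)⟩, ⟨by decide +kernel, Gd.start (a := [9]) (u13 hg) (by decide +kernel) (by decide +kernel) (by decide +kernel)⟩, ⟨by decide +kernel, Gd.start (a := [10, 7, 12]) (u15 hg) (by decide +kernel) (by decide +kernel) (by decide +kernel)⟩, ⟨by decide +kernel, Gd.start (a := [7, 13, 11]) (u17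 hg) (by decide +kernel) (by decide +kernel) (by decide +kernel)⟩, ⟨by decide +kernel, Gd.start (a := [11]) (u42 hg) (by decide +kernel) (by decide +kernel) (by decide +kernel)⟩, ⟨by decide +kernel, Gd.start (a := [7, 1, 9, 13]) (u44 hg) (by decide +kernel) (by decide +kernel) (by decide +kernel)⟩, ⟨by decide +kernel, Gd.start (a := [7, 2, 7, 11]) (u46 hg) (by decide +kernel) (by decide +kernel) (by decide +kernel)⟩, ⟨by decide +kernel, Gd.start (a := [3, 7, 1, 13, 3, 11, 13, 2, 4, 8, 5]) (u70 hg) (by decide +kernel) (by decide +kernel) (by decide +kernel)⟩, ⟨by decide +kernel, Gd.start (a := [7, 5, 7, 9, 6, 11]) (u71 hg) (by decide +kernel) (by decide +kernel) (by decide +kernel)⟩, ⟨by decide +kernel, Gd.start (a := [7, 7, 13, 8, 5, 12, 7]) (u72 hg) (by decide +kernel) (by decide +kernel) (by decide +kernel)⟩, trivial⟩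
  · exact ⟨s2_0 hg, (s2_0 hg).inv hg, s2_1 hg, (s2_1 hg).inv hg, s2_2 hg, (s2_2 hg).inv hg, s2_3 hg, (s2_3 hg).inv hg, trivial⟩

theorem ch2 : chX LYT.P ([] :: gens2) ls2 [] = true := by decide +kernel

include hg in
theorem sg2 (A : MulAction QA (G ⧸ Cl g 13)) (hA : ∀ (a : QA) (x : G ⧸ Cl g 13), a • x = th hg a • x) :
    5859000000 ≤ 968750 * Nat.card (stabilizer QA (pt g (ev g W2))) := by
  have h := stab_ge hg (W := W2) (ws := gens2) ⟨s2_0 hg, (s2_0 hg).inv hg, s2_1 hg, (s2_1 hg).inv hg, s2_2 hg, (s2_2 hg).inv hg, s2_3 hg, (s2_3 hg).inv hg, trivial⟩ (by decide +kernel) (ls := ls2) ch2 A hA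
  have h1 : (ls2.map fun p => p.2.length).prod = 6048 := by decide +kernel
  rw [h1] at h
  exact Nat.mul_le_mul_left 968750 h

include hg in
theorem gd3 (a : QA) : Gd hg Ws W3 a := by
  refine gd_all (st := st3) (gens := gens3) ?_ ?_ (by decide +kernel) cov3 a
  · exact ⟨⟨by decide +kernel, Gd.start (a := []) (u10 hg) (by decide +kernel) (by decide +kernel) (by decide +kernel)⟩, ⟨by decide +kernel, Gd.start (a := [5, 3, 2, 9]) (u14 hg) (by decide +kernel) (by decide +kernel) (by decide +kernel)⟩, ⟨by decide +kernel, Gd.start (a := [7, 7, 9, 3, 1, 13, 2, 8, 6, 4, 7]) (u16 hg) (by decide +kernel) (by decide +kernel) (by decide +kernel)⟩, ⟨by decide +kernel, Gd.start (a := [7, 1, 13, 2, 4, 13, 8, 3, 5, 9, 13]) (u18 hg) (by decide +kernel) (by decide +kernel) (by decide +kernel)⟩, ⟨by decide +kernel, Gd.start (a := [9]) (u19 hg) (by decide +kernel) (by decide +kernel) (by decide +kernel)⟩, ⟨by decide +kernel, Gd.start (a := [5, 13]) (u20 hg) (by decide +kernel) (by decide +kernel)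 (by decide +kernel)⟩, ⟨by decide +kernel, Gd.start (a := [13, 11]) (u21 hg) (by decide +kernel) (by decide +kernel) (by decide +kernel)⟩, ⟨by decide +kernel, Gd.start (a := [7, 2, 13]) (u22 hg) (by decide +kernel) (by decide +kernel) (by decide +kernel)⟩, ⟨by decide +kernel, Gd.start (a := [9, 6, 7, 2, 3, 1, 13, 6, 8, 5, 3]) (u23 hg) (by decide +kernel) (by decide +kernel) (by decide +kernel)⟩, ⟨by decide +kernel, Gd.start (a := [7, 12, 13]) (u24 hg) (by decide +kernel) (by decide +kernel) (by decide +kernel)⟩, ⟨by decide +kernel, Gd.start (a := [7, 13, 11]) (u25 hg) (by decide +kernel) (by decide +kernel) (by decide +kernel)⟩, ⟨by decide +kernel, Gd.start (a := [7, 1, 9, 13, 6, 7, 7, 10, 7, 10, 12]) (u26 hg) (by decide +kernel) (by decide +kernel) (by decide +kernel)⟩, ⟨by decide +kernel, Gd.start (a := [8, 6, 13]) (u27 hg) (by decide +kernel) (by decide +kernel) (by decide +kernel)⟩, ⟨by decide +kernel, Gd.start (a := [10, 13, 11]) (u28 hg) (by decide +kernel) (by decide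 +kernel) (by decide +kernel)⟩, ⟨by decide +kernel, Gd.start (a := [13, 4, 13]) (u29 hg) (by decide +kernel) (by decide +kernel) (by decide +kernel)⟩, ⟨by decide +kernel, Gd.start (a := [7, 13, 9, 5, 11, 7, 2, 7, 10, 7]) (u30 hg) (by decide +kernel) (by decide +kernel) (by decide +kernel)⟩, ⟨by decide +kernel, Gd.start (a := [13, 7, 11]) (u31 hg) (by decide +kernel) (by decide +kernel) (by decide +kernel)⟩, ⟨by decide +kernel, Gd.start (a := [13, 9, 11]) (u32 hg) (by decide +kernel) (by decide +kernel) (by decide +kernel)⟩, ⟨by decide +kernel, Gd.start (a := [13, 7, 12, 4, 2, 3, 9, 13, 5, 11, 8, 11]) (u33 hg) (by decide +kernel) (by decide +kernel) (by decide +kernel)⟩, ⟨by decide +kernel, Gd.start (a := [8, 13]) (u48 hg) (by decide +kernel) (by decide +kernel) (by decide +kernel)⟩, ⟨by decide +kernel, Gd.start (a := [7, 1, 13]) (u50 hg) (by decide +kernel) (by decide +kernel) (by decide +kernel)⟩, ⟨by decide +kernel, Gd.start (a := [7, 11, 13]) (u52 hg) (by decide +kernel)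 (by decide +kernel) (by decide +kernel)⟩, ⟨by decide +kernel, Gd.start (a := [9, 7, 11]) (u54 hg) (by decide +kernel) (by decide +kernel) (by decide +kernel)⟩, ⟨by decide +kernel, Gd.start (a := [10, 7, 11]) (u56 hg) (by decide +kernel) (by decide +kernel) (by decide +kernel)⟩, ⟨by decide +kernel, Gd.start (a := [8, 11, 1, 8, 5, 10, 8, 13, 5, 11]) (u60 hg) (by decide +kernel) (by decide +kernel) (by decide +kernel)⟩, ⟨by decide +kernel, Gd.start (a := [7, 12, 8, 4, 2, 5, 13, 1, 8, 11, 13, 5]) (u64 hg) (by decide +kernel) (by decide +kernel) (by decide +kernel)⟩, ⟨by decide +kernel, Gd.start (a := [7, 13, 12, 6, 2, 4, 7, 5, 13, 1, 3, 10]) (u66 hg) (by decide +kernel) (by decide +kernel) (by decide +kernel)⟩, ⟨by decide +kernel, Gd.start (a := [5, 3, 13, 6, 13, 4, 10, 8, 11]) (u73 hg) (by decide +kernel) (by decide +kernel) (by decide +kernel)⟩, ⟨by decide +kernel, Gd.start (a := [7, 9, 5, 13, 3, 12]) (u74 hg) (by decide +kernel) (by decide +kernel) (by decide +kernel)⟩, ⟨by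 decide +kernel, Gd.start (a := [13, 3, 13, 12, 8, 8, 5, 4]) (u75 hg) (by decide +kernel) (by decide +kernel) (by decide +kernel)⟩, trivial⟩
  · exact ⟨s3_0 hg, (s3_0 hg).inv hg, s3_1 hg, (s3_1 hg).inv hg, s3_2 hg, (s3_2 hg).inv hg, trivial⟩

theorem ch3 : chX LYT.P ([] :: gens3) ls3 [] = true := by decide +kernel

include hg in
theorem sg3 (A : MulAction QA (G ⧸ Cl g 13)) (hA : ∀ (a : QA) (x : G ⧸ Cl g 13), a • x = th hg a • x) :
    5859000000 ≤ 5812500 * Nat.card (stabilizer QA (pt g (ev g W3))) := by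
  have h := stab_ge hg (W := W3) (ws := gens3) ⟨s3_0 hg, (s3_0 hg).inv hg, s3_1 hg, (s3_1 hg).inv hg, s3_2 hg, (s3_2 hg).inv hg, trivial⟩ (by decide +kernel) (ls := ls3) ch3 A hA
  have h1 : (ls3.map fun p => p.2.length).prod = 1008 := by decide +kernel
  rw [h1] at h
  exact Nat.mul_le_mul_left 5812500 h

include hg in
theorem gd4 (a : QA) : Gd hg Ws W4 a := by
  refine gd_all (st := st4) (gens := gens4) ?_ ?_ (by decide +kernel) cov4 a
  · exact ⟨⟨by decide +kernel, Gd.start (a := []) (u35 hg) (by decide +kernel) (by decide +kernel) (by decide +kernel)⟩, ⟨by decide +kernel, Gd.start (a := [4, 7, 4, 2, 9, 6, 7, 13, 4, 11]) (u43 hg) (by decide +kernel) (by decide +kernel) (by decide +kernel)⟩, ⟨by decide +kernel, Gd.start (a := [9, 7, 5, 8, 3, 2, 12, 13, 1, 11, 7]) (u45 hg) (by decide +kernel) (by decide +kernel) (by decide +kernel)⟩, ⟨by decide +kernel, Gd.start (a := [5, 3, 13, 9, 5, 13, 1, 12, 13, 3, 7]) (u47 hg) (by decide +kernel) (by decide +kernel) (by decide +kernel)⟩,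 ⟨by decide +kernel, Gd.start (a := [7, 12, 10, 6, 8, 2, 4, 6, 13, 4, 13, 7]) (u49 hg) (by decide +kernel) (by decide +kernel) (by decide +kernel)⟩, ⟨by decide +kernel, Gd.start (a := [3, 13, 5, 8, 2, 11, 13, 8, 5, 4, 12]) (u51 hg) (by decide +kernel) (by decide +kernel) (by decide +kernel)⟩, ⟨by decide +kernel, Gd.start (a := [9, 13, 4, 7, 4, 6, 13, 1, 13, 2, 13, 4]) (u53 hg) (by decide +kernel) (by decide +kernel) (by decide +kernel)⟩, ⟨by decide +kernel, Gd.start (a := [2, 8, 11, 9, 8, 6, 8, 1, 4, 8]) (u55 hg) (by decide +kernel) (by decide +kernel) (by decide +kernel)⟩, ⟨by decide +kernel, Gd.start (a := [4, 8, 9, 6, 8, 13, 12, 7, 1, 8]) (u57 hg) (by decide +kernel) (by decide +kernel) (by decide +kernel)⟩, ⟨by decide +kernel, Gd.start (a := [9]) (u58 hg) (by decide +kernel) (by decide +kernel) (by decide +kernel)⟩, ⟨by decide +kernel, Gd.start (a := [7, 11]) (u59 hg) (by decide +kernel) (by decide +kernel) (by decide +kernel)⟩, ⟨by decide +kernel, Gd.start (a := [8, 11])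 (u61 hg) (by decide +kernel) (by decide +kernel) (by decide +kernel)⟩, ⟨by decide +kernel, Gd.start (a := [13, 11]) (u62 hg) (by decide +kernel) (by decide +kernel) (by decide +kernel)⟩, ⟨by decide +kernel, Gd.start (a := [1, 7, 11]) (u63 hg) (by decide +kernel) (by decide +kernel) (by decide +kernel)⟩, ⟨by decide +kernel, Gd.start (a := [2, 7, 11]) (u65 hg) (by decide +kernel) (by decide +kernel) (by decide +kernel)⟩, ⟨by decide +kernel, Gd.start (a := [2, 11, 13]) (u67 hg) (by decide +kernel) (by decide +kernel) (by decide +kernel)⟩, ⟨by decide +kernel, Gd.start (a := [5, 7, 11]) (u68 hg) (by decide +kernel) (by decide +kernel) (by decide +kernel)⟩, ⟨by decide +kernel, Gd.start (a := [7, 11, 13]) (u69 hg) (by decide +kernel) (by decide +kernel) (by decide +kernel)⟩, trivial⟩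
  · exact ⟨s4_0 hg, (s4_0 hg).inv hg, s4_1 hg, (s4_1 hg).inv hg, s4_2 hg, (s4_2 hg).inv hg, s4_3 hg, (s4_3 hg).inv hg, s4_4 hg, (s4_4 hg).inv hg, trivial⟩

theorem ch4 : chX LYT.P ([] :: gens4) ls4 [] = true := by decide +kernel

include hg in
theorem sg4 (A : MulAction QA (G ⧸ Cl g 13)) (hA : ∀ (a : QA) (x : G ⧸ Cl g 13), a • x = th hg a • x) :
    5859000000 ≤ 2034375 * Nat.card (stabilizer QA (pt g (ev g W4))) := by
  have h := stab_ge hg (W := W4) (ws := gens4) ⟨s4_0 hg, (s4_0 hg).inv hg, s4_1 hg, (s4_1 hg).inv hg, s4_2 hg, (s4_2 hg).inv hg, s4_3 hg, (s4_3 hg).inv hg, s4_4 hg, (s4_4 hg).inv hg, trivial⟩ (by decide +kernel) (ls := ls4) ch4 A hA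
  have h1 : (ls4.map fun p => p.2.length).prod = 2880 := by decide +kernel
  rw [h1] at h
  exact Nat.mul_le_mul_left 2034375 h

include hg in
/-- **Upper bound for the index.** -/
theorem index_H (htop : Cl g 15 = ⊤) : Finite (G ⧸ Cl g 13) ∧ (Cl g 13).index ≤ 8835156 := by
  have h := index_le hg (Ws := Ws) (cs := [1, 19530, 968750, 5812500, 2034375]) rfl (by decide) ?_ ?_ htop
  · exact h
  · intro W hW a
    simp only [Ws, List.mem_cons, List.not_mem_nil, or_false] at hW
    rcases hW with rfl | rfl | rfl | rfl | rfl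
    · exact gd0 hg a
    · exact gd1 hg a
    · exact gd2 hg a
    · exact gd3 hg a
    · exact gd4 hg a
  · intro A hA p hp
    simp only [Ws, List.zip_cons_cons, List.zip_nil_left, List.mem_cons, List.not_mem_nil, or_false] at hp
    rcases hp with rfl | rfl | rfl | rfl | rfl
    · exact sg0 hg A hA
    · exact sg1 hg A hA
    · exact sg2 hg A hA
    · exact sg3 hg A hA
    · exact sg4 hg A hA

include hg in
theorem card_G (htop : Cl g 15 = ⊤) : Finite G ∧ Nat.card G ≤ 51765179004000000 := by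
  obtain ⟨h1, h2⟩ := index_H hg htop
  have h3 : Nat.card (Cl g 13) ≤ 5859000000 ∧ Finite (Cl g 13) := by
    have h4 := bdH (goodA hg)
    have h5 : Cl (CosetEnum.cut g 13) 13 = Cl g 13 := by
      unfold Cl
      congr 1
      ext y
      constructor
      · rintro ⟨x, hx, rfl⟩
        have hx : isLet 13 x = true := hx
        exact ⟨x, hx, by rw [CosetEnum.cut, if_pos hx]⟩
      · rintro ⟨x, hx, rfl⟩
        have hx : isLet 13 x = true := hx
        exact ⟨x, hx, by rw [CosetEnum.cut, if_pos hx]⟩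
    rw [h5] at h4
    exact ⟨h4.2, h4.1⟩
  have h6 := h3.2
  have h7 : Finite G := by
    apply Nat.finite_of_card_ne_zero
    rw [← (Cl g 13).card_mul_index]
    exact mul_ne_zero Nat.card_pos.ne' Subgroup.index_ne_zero_of_finite
  refine ⟨h7, ?_⟩
  rw [← (Cl g 13).card_mul_index]
  calc Nat.card (Cl g 13) * (Cl g 13).index ≤ 5859000000 * 8835156 := Nat.mul_le_mul h3.1 h2
    _ = 51765179004000000 := by norm_num

end Cfsg.Agent.LyG
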