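import Cfsg.Agent.MRel.StabH

/-! Certificate for the 3-part of the Schur multiplier of the Lyons group (generated; owner: helper66). -/

set_option autoImplicit false
set_option maxRecDepth 100000

namespace Cfsg.Agent.LyG.MC3

open Cfsg.Agent.MRel.Stab Cfsg.Agent.MulX.Coh

/-- rules -/
def rules : List (List ℕ × List ℕ) := [([0, 0, 0], [3, 4, 6, 6]),
  ([1, 0], [0, 1, 3, 3, 5, 6, 6]),
  ([2, 0], [0, 6]),
  ([3, 0], [0, 3]),
  ([4, 0], [0, 2, 2, 3, 3, 6, 6]),
  ([5, 0], [0, 2, 2, 3, 4, 4, 5, 6, 6]),
  ([6, 0], [0, 2, 2, 3, 3, 4, 4]),
  ([1, 1, 1], []),
  ([2, 1], [1, 2, 3, 5, 6, 6]),
  ([3, 1], [1, 3]),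
  ([4, 1], [1, 4, 5, 6, 6]),
  ([5, 1], [1, 4, 4, 5, 5]),
  ([6, 1], [1, 5]),
  ([2, 2, 2], []),
  ([3, 2], [2, 3]),
  ([4, 2], [2, 4]),
  ([5, 2], [2, 5]),
  ([6, 2], [2, 6]),
  ([3, 3, 3], []),
  ([4, 3], [3, 4]),
  ([5, 3], [3, 5]),
  ([6, 3], [3, 6]),
  ([4, 4, 4], []),
  ([5, 4], [4, 5]),
  ([6, 4], [4, 6]),
  ([5, 5, 5], []),
  ([6, 5], [5, 6]),
  ([6, 6, 6], []),
  ([7, 0], [0, 2, 3, 5, 7]),
  ([7, 1], [1, 2, 2, 3, 3, 4, 4, 5, 5, 7]),
  ([7, 2], [2, 2, 7]),
  ([7, 3], [3, 3, 7]),
  ([7, 4], [4, 4, 7]),
  ([7, 5], [5, 5, 7]),
  ([7, 6], [6, 6, 7]),
  ([8, 0], [0, 1, 2, 2, 8]),
  ([8, 1], [0, 3, 5, 8]),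
  ([8, 2], [2, 3, 5, 5, 6, 6, 8]),
  ([8, 3], [3, 4, 4, 6, 8]),
  ([8, 4], [2, 2, 3, 3, 4, 4, 5, 8]),
  ([8, 5], [3, 3, 5, 6, 8]),
  ([8, 6], [2, 2, 5, 6, 6, 8]),
  ([9, 0], [0, 0, 2, 2, 3, 6, 6, 9]),
  ([9, 1], [1, 1, 3, 4, 4, 6, 9]),
  ([9, 2], [2, 2, 3, 3, 4, 4, 9]),
  ([9, 3], [3, 9]),
  ([9, 4], [4, 9]),
  ([9, 5], [4, 4, 5, 5, 9]),
  ([9, 6], [6, 9])]

/-- paths -/
def paths0 : List (List ℕ × List Step) := [([2, 2, 2, 0], [(0, 13, false), (1, 27, true), (0, 2, true), (1, 2, true), (2, 2, true)]),
  ([6, 6, 6, 1], [(0, 27, false), (1, 25, true), (0, 12, true), (1, 12, true), (2, 12, true)]),
  ([3, 2, 0], [(0, 14, false), (1, 3, false), (0, 2, false), (1, 21, false), (0, 3, true), (1, 2, true)]),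
  ([6, 3, 1], [(0, 21, false), (1, 12, false), (0, 9, false), (1, 20, true), (0, 12, true), (1, 9, true)]),
  ([7, 2, 2, 2], [(0, 30, false), (2, 30, false), (4, 30, false), (3, 13, false), (0, 13, false), (1, 13, true)]),
  ([7, 3, 3, 3], [(0, 31, false), (2, 31, false), (4, 31, false), (3, 18, false), (0, 18, false), (1, 18, true)]),
  ([7, 4, 4, 4], [(0, 32, false), (2, 32, false), (4, 32, false), (3, 22, false), (0, 22, false), (1, 22, true)]),
  ([6, 5, 1], [(0, 26, false), (1, 12, false), (0, 11, false), (2, 23, true), (1, 23, true), (0, 12, true), (1, 11, true)]),
  ([9, 5, 4], [(0, 47, false), (4, 46, false), (3, 23, false), (2, 23, false), (1, 47, true), (0, 46, true), (1, 23, true)]),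
  ([3, 0, 0, 0], [(1, 0, false), (1, 19, true), (2, 21, true), (3, 21, true), (0, 0, true), (2, 3, true), (1, 3, true), (0, 3, true)]),
  ([6, 4, 1], [(0, 24, false), (1, 12, false), (0, 10, false), (4, 26, false), (3, 26, false), (1, 23, true), (0, 12, true), (1, 10, true)]),
  ([4, 2, 0], [(0, 15, false), (1, 4, false), (0, 2, false), (1, 17, false), (2, 17, false), (3, 21, false), (4, 21, false), (0, 4, true), (1, 2, true)]),
  ([6, 2, 1], [(0, 17, false), (1, 12, false), (0, 8, false), (5, 26, false), (4, 26, false), (2, 20, true), (1, 16, true), (0, 12, true), (1, 8, true)]),
  ([9, 4, 2], [(0, 46, false), (1, 44, false), (0, 15, false), (1, 15, false), (2, 19, false), (3, 19, false), (6, 46, true), (0, 44, true), (1, 15, true)]),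
  ([9, 3, 1], [(0, 45, false), (1, 43, false), (0, 9, false), (1, 9, false), (3, 19, true), (4, 19, true), (5, 21, true), (6, 45, true), (0, 43, true), (1, 9, true)]),
  ([6, 2, 0], [(0, 17, false), (1, 6, false), (0, 2, false), (1, 17, false), (2, 17, false), (3, 21, false), (4, 21, false), (5, 24, false), (6, 24, false), (0, 6, true), (1, 2, true)]),
  ([7, 3, 0], [(0, 31, false), (2, 28, false), (1, 3, false), (2, 14, false), (0, 3, false), (1, 14, false), (4, 20, true), (3, 20, true), (4, 31, true), (0, 28, true), (1, 3, true)]),
  ([7, 2, 0], [(0, 30, false), (2, 28, false), (1, 2, false), (2, 17, false), (3, 21, false), (4, 26, false), (0, 2, false), (1, 17, false), (2, 21, false), (3, 26, false), (4, 34, true), (0, 28, true), (1, 2, true)]),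
  ([7, 6, 1], [(0, 34, false), (2, 29, false), (1, 12, false), (2, 16, false), (3, 16, false), (4, 20, false), (5, 20, false), (6, 23, false), (7, 23, false), (8, 25, false), (0, 12, false), (1, 16, false), (2, 16, false), (3, 20, false), (4, 20, false), (5, 23, false), (6, 23, false), (8, 25, true), (9, 33, true), (0, 29, true), (1, 12, true)]),
  ([9, 6, 1], [(0, 48, false), (1, 43, false), (0, 12, false), (1, 11, false), (5, 20, false), (6, 23, false), (7, 23, false), (4, 20, false), (5, 23, false), (6, 23, false), (3, 19, false), (4, 22, false), (2, 19, false), (4, 22, true), (8, 26, true), (7, 26, true), (6, 24, true), (5, 24, true), (6, 47, true), (0, 43, true), (1, 12, true)]),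
  ([7, 6, 0], [(0, 34, false), (2, 28, false), (1, 6, false), (7, 15, false), (8, 19, false), (6, 15, false), (7, 19, false), (5, 14, false), (4, 14, false), (5, 18, false), (2, 13, false), (0, 6, false), (6, 22, false), (2, 14, true), (5, 23, true), (4, 20, true), (3, 16, true), (5, 13, true), (9, 18, true), (13, 22, true), (14, 32, true), (12, 32, true), (10, 31, true), (8, 31, true), (6, 30, true), (4, 30, true), (0, 28, true), (1, 6, true)]),
  ([0, 0, 0, 0], [(0, 0, false), (3, 6, false), (2, 6, false), (8, 15, false), (9, 15, false), (10, 19, false), (11, 19, false), (12, 22, false), (7, 15, false), (8, 15, false), (9, 19, false), (10, 19, false), (6, 14, false), (7, 14, false), (8, 18, false), (5, 14, false), (6, 14, false), (4, 13, false), (1, 4, false), (7, 17, false), (8, 21, false), (9, 24, false), (6, 17, false), (7, 21, false), (8, 24, false), (5, 14, false), (4, 14, false), (5, 18, false), (2, 13, false), (0, 3, false), (1, 0, true)]),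
  ([6, 1, 1, 1], [(1, 7, false), (0, 7, true), (3, 22, true), (6, 25, true), (5, 23, true), (4, 23, true), (8, 26, true), (7, 26, true), (6, 24, true), (5, 24, true), (10, 27, true), (9, 26, true), (8, 26, true), (7, 24, true), (6, 24, true), (2, 10, true), (5, 23, true), (7, 26, true), (6, 24, true), (8, 26, true), (7, 24, true), (3, 10, true), (6, 22, true), (8, 23, true), (7, 23, true), (10, 25, true), (9, 23, true), (8, 23, true), (4, 11, true), (5, 11, true), (1, 11, true), (0, 12, true)]),
  ([2, 1, 0], [(0, 8, false), (5, 6, false), (4, 6, false), (10, 15, false), (11, 15, false), (12, 19, false), (13, 19, false), (14, 22, false), (9, 15, false), (10, 15, false), (11, 19, false), (12, 19, false), (8, 14, false), (9, 14, false), (10, 18, false), (7, 14, false), (8, 14, false), (6, 13, false), (3, 5, false), (11, 17, false), (12, 21, false), (13, 24, false), (10, 17, false), (11, 21, false), (12, 24, false), (9, 16, false), (10, 20, false), (11, 23, false), (8, 15, false), (9, 19, false), (7, 15, false), (8, 19, false), (9, 22, false), (6, 14, false), (4, 13, false), (2, 3, false), (3, 18, false), (1, 2, false), (2, 26, false), (3, 27, false), (0, 1, false), (6, 26, false), (5, 26, false), (3, 20,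 true), (2, 20, true), (1, 12, true), (0, 2, true), (1, 1, true)]),
  ([8, 6, 1], [(0, 41, false), (5, 36, false), (4, 6, false), (10, 19, false), (9, 19, false), (7, 18, false), (3, 6, false), (9, 15, false), (10, 15, false), (11, 22, false), (8, 15, false), (9, 15, false), (7, 14, false), (8, 14, false), (6, 14, false), (7, 14, false), (5, 13, false), (2, 5, false), (10, 17, false), (11, 21, false), (12, 21, false), (13, 24, false), (14, 26, false), (9, 17, false), (10, 21, false), (11, 21, false), (12, 24, false), (13, 26, false), (8, 16, false), (9, 20, false), (10, 20, false), (11, 23, false), (7, 15, false), (8, 19, false), (9, 19, false), (6, 15, false), (7, 19, false), (8, 19, false), (9, 22, false), (5, 14, false), (6, 18, false), (3, 13, false), (1, 2, false), (2, 26, false), (3, 26, false), (4, 27, false), (0, 2, false), (1, 26, false), (2, 26, false), (1, 18, true), (3, 20, true), (2, 20, true), (3, 40, true), (0, 36, true), (1, 12, true)]),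
  ([7, 5, 1], [(0, 33, false), (2, 29, false), (1, 11, false), (5, 16, false), (6, 16, false), (7, 20, false), (8, 20, false), (9, 23, false), (10, 23, false), (11, 25, false), (4, 16, false), (5, 16, false), (6, 20, false), (7, 20, false), (8, 23, false), (9, 23, false), (3, 15, false), (4, 15, false), (5, 19, false), (6, 19, false), (7, 22, false), (2, 15, false), (3, 15, false), (4, 19, false), (5, 19, false), (0, 11, false), (4, 16, false), (5, 16, false), (6, 20, false), (7, 20, false), (8, 23, false), (3, 16, false), (4, 16, false), (5, 20, false), (6, 20, false), (7, 23, false), (8, 25, false), (2, 15, false), (3, 15, false), (4, 19, false), (5, 19, false), (1, 15, false), (2, 15, false), (3, 19, false), (4, 19, false), (8, 25, true), (7, 23, true), (8, 23, true), (10, 22, true), (14, 25, true), (15, 33, true), (13, 33, true), (11, 32, true), (9, 32, true), (0, 29, true), (1, 11, true)]),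
  ([7, 5, 0], [(0, 33, false), (2, 28, false), (1, 5, false), (9, 17, false), (10, 21, false), (11, 26, false), (8, 17, false), (9, 21, false), (10, 26, false), (7, 16, false), (8, 20, false), (6, 15, false), (7, 19, false), (5, 15, false), (6, 19, false), (4, 14, false), (2, 13, false), (0, 5, false), (8, 21, false), (9, 21, false), (10, 24, false), (11, 24, false), (12, 26, false), (13, 26, false), (14, 27, false), (7, 21, false), (8, 21, false), (9, 24, false), (10, 24, false), (11, 26, false), (12, 26, false), (6, 20, false), (7, 20, false), (8, 23, false), (9, 23, false), (10, 25, false), (5, 19, false), (6, 19, false), (7, 22, false), (4, 19, false), (5, 19, false), (2, 14, true), (7, 25, true), (6, 23, true), (5, 20, true), (4, 20, true), (3, 16, true), (5, 13, true), (11, 22, true), (17, 27, true), (18, 34, true), (16, 34, true), (14, 33, true), (12, 32, true), (10, 32, true), (8, 31, true), (6, 30, true), (4, 30, true), (0, 28, true), (1, 5, true)]),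
  ([9, 6, 0], [(0, 48, false), (1, 42, false), (0, 6, false), (6, 4, false), (12, 17, false), (13, 17, false), (14, 21, false), (15, 27, false), (11, 17, false), (12, 17, false), (13, 21, false), (10, 14, false), (11, 14, false), (9, 14, false), (10, 14, false), (11, 18, false), (8, 13, false), (5, 4, false), (11, 17, false), (10, 17, false), (11, 27, false), (9, 14, false), (8, 14, false), (6, 13, false), (4, 3, false), (5, 18, false), (3, 3, false), (2, 2, false), (3, 21, false), (1, 2, false), (2, 21, false), (2, 13, true), (4, 14, true), (5, 17, true), (6, 17, true), (8, 13, true), (11, 18, true), (10, 14, true), (9, 14, true), (11, 14, true), (10, 14, true), (14, 22, true), (13, 19, true), (12, 15, true), (11, 15, true), (14, 19, true), (13, 15, true), (12, 15, true), (16, 18, true), (18, 19, true), (17, 19, true), (20, 22, true), (19, 19, true), (18, 19, true), (22, 46, true), (21, 46, true), (20, 45, true), (19, 45, true), (13, 44, true), (7, 44, true), (0, 42, true), (1, 6, true)]),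
  ([8, 5, 1], [(0, 40, false), (4, 36, false), (3, 6, false), (9, 19, false), (8, 19, false), (6, 18, false), (2, 5, false), (10, 17, false), (11, 17, false), (12, 24, false), (13, 24, false), (14, 26, false), (9, 17, false), (10, 17, false), (11, 24, false), (12, 24, false), (13, 26, false), (8, 16, false), (9, 16, false), (10, 23, false), (11, 23, false), (7, 15, false), (8, 15, false), (9, 22, false), (6, 15, false), (7, 15, false), (5, 14, false), (6, 14, false), (4, 13, false), (1, 3, false), (2, 14, false), (0, 3, false), (5, 23, true), (4, 20, true), (3, 20, true), (2, 16, true), (4, 13, true), (6, 14, true), (5, 14, true), (7, 14, true), (6, 14, true), (8, 15, true), (7, 15, true), (10, 22, true), (9, 15, true), (8, 15, true), (12, 23, true), (11, 23, true), (10, 16, true), (9, 16, true), (12, 18, true), (14, 19, true), (15, 19, true), (17, 25, true), (16, 20, true), (18, 18, true), (20, 20, true), (19, 20, true), (22, 26, true), (21, 21, true), (20, 21, true), (21, 40, true), (17, 40, true), (10, 39, true), (3, 39, true), (0, 36, true), (1, 11, true)]),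
  ([9, 2, 0], [(0, 44, false), (6, 42, false), (5, 4, false), (11, 6, false), (17, 15, false), (18, 15, false), (19, 19, false), (16, 15, false), (17, 15, false), (18, 19, false), (15, 14, false), (16, 14, false), (14, 14, false), (15, 14, false), (16, 18, false), (13, 13, false), (10, 6, false), (16, 15, false), (17, 22, false), (15, 15, false), (14, 14, false), (13, 14, false), (11, 13, false), (9, 3, false), (10, 18, false), (8, 3, false), (7, 2, false), (8, 21, false), (9, 24, false), (10, 27, false), (6, 2, false), (7, 21, false), (8, 24, false), (4, 4, false), (10, 6, false), (16, 19, false), (15, 19, false), (16, 22, false), (13, 18, false), (9, 6, false), (15, 15, false), (16, 15, false), (14, 15, false), (15, 15, false), (13, 14, false), (14, 14, false), (12, 14, false), (13, 14, false), (11, 13, false), (8, 3, false), (9, 14, false), (10, 18, false), (7, 3, false), (8, 14, false), (6, 2, false), (7, 17, false), (8, 21, false), (9, 24, false), (10, 24, false), (5, 2, false), (6, 17, false), (7, 21, false), (8, 24, false), (9, 24, false), (10, 27, false), (3, 3, false), (4, 3, false), (5, 14, false), (2, 3, false), (3, 3, false), (4, 14, false), (5, 18, false), (1, 2, false), (2, 6, false), (8,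 15, false), (9, 22, false), (7, 15, false), (6, 14, false), (5, 14, false), (3, 13, false), (0, 2, false), (1, 6, false), (7, 19, false), (8, 19, false), (6, 19, false), (7, 19, false), (8, 22, false), (5, 18, false), (5, 27, true), (7, 48, true), (0, 42, true), (1, 2, true)]),
  ([8, 1, 1, 1], [(0, 36, false), (3, 36, false), (6, 36, false), (5, 5, false), (13, 21, false), (14, 26, false), (12, 21, false), (13, 26, false), (11, 20, false), (10, 19, false), (9, 19, false), (4, 3, false), (5, 14, false), (6, 14, false), (7, 18, false), (2, 5, false), (10, 6, false), (16, 15, false), (17, 15, false), (18, 22, false), (15, 15, false), (16, 15, false), (14, 14, false), (15, 14, false), (13, 14, false), (14, 14, false), (12, 13, false), (9, 6, false), (15, 15, false), (16, 19, false), (17, 19, false), (14, 15, false), (15, 19, false), (16, 19, false), (17, 22, false), (13, 14, false), (14, 18, false), (12, 14, false), (10, 13, false), (8, 5, false), (16, 21, false), (17, 26, false), (18, 26, false), (19, 27, false), (15, 21, false), (16, 26, false), (17, 26, false), (14, 20, false), (15, 25, false), (13, 19, false), (12, 19, false), (7, 4, false), (13, 17, false), (14, 17, false), (15, 21, false), (16, 21,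 false), (17, 24, false), (18, 24, false), (12, 17, false), (13, 17, false), (14, 21, false), (15, 21, false), (16, 24, false), (17, 24, false), (18, 27, false), (11, 14, false), (12, 14, false), (13, 18, false), (10, 14, false), (11, 14, false), (9, 13, false), (6, 4, false), (12, 17, false), (13, 21, false), (14, 24, false), (15, 24, false), (11, 17, false), (12, 21, false), (13, 24, false), (14, 24, false), (10, 14, false), (9, 14, false), (10, 18, false), (7, 13, false), (5, 3, false), (4, 2, false), (5, 21, false), (6, 24, false), (7, 24, false), (8, 27, false), (3, 2, false), (4, 21, false), (5, 24, false), (6, 24, false), (1, 3, false), (2, 3, false), (0, 0, false), (3, 21, false), (4, 21, false), (5, 24, false), (6, 24, false), (2, 21, false), (3, 21, false), (4, 24, false), (5, 24, false), (6, 27, false), (1, 19, false), (2, 19, false), (3, 22, false), (0, 18, false), (1, 7, true)]),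
  ([9, 1, 1, 1], [(0, 43, false), (6, 43, false), (12, 43, false), (11, 12, false), (12, 11, false), (16, 20, false), (17, 23, false), (18, 23, false), (15, 20, false), (16, 23, false), (17, 23, false), (14, 19, false), (15, 22, false), (13, 19, false), (10, 10, false), (14, 12, false), (15, 20, false), (16, 23, false), (17, 25, false), (13, 12, false), (14, 20, false), (15, 23, false), (12, 11, false), (16, 20, false), (17, 23, false), (15, 20, false), (16, 23, false), (17, 25, false), (14, 19, false), (13, 19, false), (14, 22, false), (11, 10, false), (15, 21, false), (14, 21, false), (15, 27, false), (13, 20, false), (12, 19, false), (9, 10, false), (13, 12, false), (14, 20, false), (15, 23, false), (12, 12, false), (13, 20, false), (14, 23, false), (15, 25, false), (11, 11, false), (15, 20, false), (16, 23, false), (14, 20, false), (15, 23, false), (13, 19, false), (12, 19, false), (13, 22, false), (10, 10, false), (14, 21, false), (15, 26, false), (16, 26, false), (13, 21, false), (14, 26, false), (15, 26, false), (12, 20, false), (13, 25, false), (11, 19, false), (8, 9, false), (9, 9, false), (7, 7, false), (5, 12, false), (6, 20, false), (7, 20, false), (8, 23, false), (4, 10, false), (8, 21,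 false), (9, 21, false), (10, 24, false), (11, 26, false), (12, 27, false), (7, 21, false), (8, 21, false), (9, 24, false), (10, 26, false), (6, 20, false), (7, 20, false), (8, 23, false), (5, 19, false), (6, 19, false), (3, 10, false), (7, 21, false), (8, 21, false), (9, 24, false), (10, 24, false), (11, 26, false), (12, 26, false), (6, 21, false), (7, 21, false), (8, 24, false), (9, 24, false), (10, 26, false), (11, 26, false), (12, 27, false), (5, 20, false), (6, 20, false), (7, 23, false), (8, 23, false), (9, 25, false), (4, 19, false), (5, 19, false), (6, 22, false), (2, 9, false), (3, 18, false), (0, 7, false), (1, 7, true)]),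
  ([8, 2, 1], [(0, 37, false), (6, 36, false), (5, 6, false), (11, 19, false), (10, 19, false), (8, 18, false), (4, 6, false), (10, 15, false), (11, 15, false), (12, 22, false), (9, 15, false), (10, 15, false), (8, 14, false), (9, 14, false), (7, 14, false), (8, 14, false), (6, 13, false), (3, 5, false), (11, 17, false), (12, 21, false), (13, 21, false), (14, 24, false), (15, 26, false), (10, 17, false), (11, 21, false), (12, 21, false), (13, 24, false), (14, 26, false), (9, 16, false), (10, 20, false), (11, 20, false), (12, 23, false), (8, 15, false), (9, 19, false), (10, 19, false), (7, 15, false), (8, 19, false), (9, 19, false), (10, 22, false), (6, 14, false), (7, 18, false), (4, 13, false), (2, 5, false), (10, 26, false), (11, 26, false), (12, 27, false), (9, 26, false), (10, 26, false), (8, 25, false), (1, 3, false), (2, 14, false), (3, 14, false), (0, 2, false), (1, 17, false), (2, 17, false), (3, 21, false), (4, 21, false), (5, 24, false), (6, 24, false), (2, 14, true), (1, 14, true), (7, 25, true), (6, 23, true), (5, 23, true), (4, 20, true), (3, 16, true), (2, 16, true), (4, 14, true), (7, 23, true), (6, 23, true), (5, 16, true), (8, 23, true), (7, 23, true), (6, 16, true), (9, 24, true), (8,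 24, true), (7, 17, true), (10, 24, true), (9, 24, true), (8, 17, true), (10, 18, true), (9, 14, true), (12, 19, true), (11, 19, true), (10, 15, true), (13, 19, true), (12, 19, true), (11, 15, true), (15, 27, true), (14, 21, true), (13, 21, true), (12, 17, true), (13, 14, true), (14, 14, true), (16, 25, true), (15, 16, true), (18, 26, true), (17, 26, true), (16, 17, true), (18, 13, true), (20, 16, true), (19, 16, true), (22, 26, true), (21, 17, true), (20, 17, true), (24, 27, true), (23, 26, true), (22, 17, true), (21, 17, true), (22, 41, true), (17, 41, true), (13, 40, true), (9, 38, true), (3, 37, true), (0, 36, true), (1, 8, true)]),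
  ([9, 2, 1], [(0, 44, false), (6, 43, false), (5, 10, false), (9, 12, false), (10, 20, false), (11, 23, false), (12, 23, false), (8, 12, false), (9, 20, false), (10, 23, false), (11, 23, false), (7, 11, false), (11, 20, false), (12, 23, false), (13, 23, false), (14, 25, false), (10, 20, false), (11, 23, false), (12, 23, false), (9, 19, false), (10, 22, false), (8, 19, false), (6, 10, false), (10, 21, false), (11, 24, false), (12, 26, false), (9, 21, false), (10, 24, false), (11, 26, false), (12, 27, false), (8, 20, false), (9, 23, false), (7, 19, false), (4, 10, false), (8, 12, false), (9, 20, false), (10, 23, false), (11, 23, false), (12, 25, false), (7, 12, false), (8, 20, false), (9, 23, false), (10, 23, false), (6, 11, false), (10, 20, false), (11, 23, false), (12, 23, false), (9, 20, false), (10, 23, false), (11, 23, false), (12, 25, false), (8, 19, false), (9, 22, false), (7, 19, false), (5, 10, false), (9, 21, false), (10, 24, false), (8, 21, false), (9, 24, false), (7, 20, false), (8, 23, false), (6, 19, false), (3, 9, false), (4, 9, false), (2, 9, false), (3, 9, false), (4, 18, false), (1, 8, false), (6, 12, false), (7, 23, false), (8, 23, false), (5, 12, false), (6, 23, false), (7, 23, false),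 (8, 25, false), (4, 11, false), (8, 23, false), (9, 23, false), (7, 23, false), (8, 23, false), (6, 22, false), (3, 9, false), (2, 8, false), (7, 21, false), (8, 24, false), (9, 26, false), (10, 26, false), (11, 27, false), (6, 21, false), (7, 24, false), (8, 26, false), (9, 26, false), (5, 20, false), (6, 23, false), (7, 25, false), (0, 8, false), (5, 12, false), (6, 16, false), (7, 20, false), (8, 20, false), (9, 23, false), (4, 12, false), (5, 16, false), (6, 20, false), (7, 20, false), (8, 23, false), (3, 11, false), (7, 16, false), (8, 20, false), (9, 20, false), (10, 23, false), (11, 25, false), (6, 16, false), (7, 20, false), (8, 20, false), (9, 23, false), (5, 15, false), (6, 19, false), (7, 19, false), (4, 15, false), (5, 19, false), (6, 19, false), (7, 22, false), (2, 9, false), (3, 14, false), (4, 18, false), (1, 8, false), (6, 17, false), (7, 26, false), (5, 17, false), (6, 26, false), (7, 27, false), (4, 16, false), (2, 14, true), (5, 22, true), (4, 15, true), (3, 15, true), (5, 15, true), (4, 15, true), (10, 27, true), (9, 26, true), (8, 26, true), (7, 24, true), (6, 17, true), (5, 17, true), (8, 18, true), (10, 19, true), (12, 22, true), (11, 19, true), (18, 48, true), (17, 48, true),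 (13, 47, true), (12, 45, true), (6, 44, true), (0, 43, true), (1, 8, true)]),
  ([8, 1, 0], [(0, 36, false), (3, 35, false), (2, 5, false), (10, 12, false), (11, 16, false), (12, 16, false), (9, 12, false), (10, 16, false), (11, 16, false), (8, 11, false), (12, 16, false), (13, 16, false), (14, 25, false), (11, 16, false), (12, 16, false), (10, 15, false), (11, 15, false), (9, 15, false), (10, 15, false), (7, 10, false), (11, 17, false), (12, 17, false), (13, 24, false), (14, 24, false), (15, 26, false), (10, 17, false), (11, 17, false), (12, 24, false), (13, 24, false), (14, 26, false), (9, 16, false), (10, 16, false), (11, 23, false), (12, 23, false), (8, 15, false), (9, 15, false), (10, 22, false), (6, 10, false), (10, 17, false), (11, 17, false), (12, 26, false), (13, 26, false), (14, 27, false), (9, 17, false), (10, 17, false), (11, 26, false), (12, 26, false), (8, 16, false), (9, 16, false), (10, 25, false), (7, 15, false), (8, 15, false), (5, 9, false), (6, 14, false), (7, 14, false), (4, 8, false), (9, 17, false), (10, 17, false), (11, 21, false), (12, 24, false), (8, 17, false), (9, 17, false), (10, 21, false), (11, 24, false), (12, 27, false), (7, 16, false), (8, 16, false), (9, 20, false),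 (10, 23, false), (6, 14, false), (7, 14, false), (5, 13, false), (3, 8, false), (8, 21, false), (9, 21, false), (10, 24, false), (11, 26, false), (7, 21, false), (8, 21, false), (9, 24, false), (10, 26, false), (6, 20, false), (7, 20, false), (8, 23, false), (5, 18, false), (1, 3, false), (2, 9, false), (5, 18, true), (4, 14, true), (8, 23, true), (7, 20, true), (6, 20, true), (5, 16, true), (10, 26, true), (9, 24, true), (8, 21, true), (7, 21, true), (6, 17, true), (11, 26, true), (10, 24, true), (9, 21, true), (8, 21, true), (7, 17, true), (1, 1, true), (8, 27, true), (7, 26, true), (6, 24, true), (5, 21, true), (4, 21, true), (3, 17, true), (2, 2, true), (8, 26, true), (7, 24, true), (6, 21, true), (5, 21, true), (4, 17, true), (3, 2, true), (5, 14, true), (8, 23, true), (7, 20, true), (6, 16, true), (7, 14, true), (8, 15, true), (10, 22, true), (9, 15, true), (12, 24, true), (11, 24, true), (10, 17, true), (12, 18, true), (11, 14, true), (14, 19, true), (13, 19, true), (12, 15, true), (15, 19, true), (14, 19, true), (13, 15, true), (17, 27, true), (16, 21, true), (15, 21, true), (14, 17, true), (15, 14, true), (16, 14, true), (18, 25, true), (17, 16, true), (20, 26, true), (19, 26, true), (18, 17,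 true), (20, 13, true), (22, 16, true), (21, 16, true), (24, 26, true), (23, 17, true), (22, 17, true), (26, 27, true), (25, 26, true), (24, 17, true), (23, 17, true), (24, 41, true), (19, 41, true), (15, 40, true), (11, 38, true), (7, 38, true), (4, 36, true), (0, 35, true), (1, 1, true)]),
  ([8, 5, 0], [(0, 40, false), (4, 35, false), (3, 6, false), (9, 10, false), (13, 17, false), (14, 17, false), (12, 17, false), (13, 17, false), (11, 16, false), (12, 16, false), (10, 15, false), (11, 15, false), (8, 10, false), (12, 17, false), (13, 17, false), (14, 24, false), (15, 26, false), (16, 27, false), (11, 17, false), (12, 17, false), (13, 24, false), (14, 26, false), (10, 16, false), (11, 16, false), (12, 23, false), (9, 15, false), (10, 15, false), (7, 9, false), (8, 14, false), (9, 14, false), (6, 9, false), (7, 14, false), (8, 14, false), (5, 8, false), (10, 17, false), (11, 17, false), (12, 21, false), (13, 21, false), (14, 24, false), (15, 24, false), (16, 26, false), (17, 26, false), (9, 17, false), (10, 17, false), (11, 21, false), (12, 21, false), (13, 24, false), (14, 24, false), (15, 26, false), (16, 26, false), (17, 27, false), (8, 16, false), (9, 16, false), (10, 20, false), (11, 20, false),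 (12, 23, false), (13, 23, false), (14, 25, false), (7, 14, false), (8, 14, false), (9, 18, false), (6, 13, false), (4, 8, false), (9, 24, false), (10, 24, false), (8, 24, false), (9, 24, false), (7, 23, false), (8, 23, false), (2, 5, false), (10, 12, false), (11, 16, false), (12, 20, false), (13, 23, false), (14, 23, false), (9, 12, false), (10, 16, false), (11, 20, false), (12, 23, false), (13, 23, false), (14, 25, false), (8, 11, false), (12, 16, false), (13, 20, false), (14, 23, false), (15, 23, false), (11, 16, false), (12, 20, false), (13, 23, false), (14, 23, false), (10, 15, false), (11, 19, false), (12, 22, false), (9, 15, false), (10, 19, false), (7, 10, false), (11, 17, false), (12, 21, false), (13, 24, false), (14, 26, false), (15, 26, false), (16, 27, false), (10, 17, false), (11, 21, false), (12, 24, false), (13, 26, false), (14, 26, false), (9, 16, false), (10, 20, false), (11, 23, false), (12, 25, false), (8, 15, false), (9, 19, false), (6, 10, false), (10, 17, false), (11, 21, false), (12, 24, false), (13, 24, false), (9, 17, false), (10, 21, false), (11, 24, false), (12, 24, false), (13, 27, false), (8, 16, false), (9, 20, false), (10, 23, false), (11, 23, false), (7, 15, false), (8,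 19, false), (9, 22, false), (5, 9, false), (6, 14, false), (4, 8, false), (9, 17, false), (10, 21, false), (11, 21, false), (12, 26, false), (8, 17, false), (9, 21, false), (10, 21, false), (11, 26, false), (7, 16, false), (8, 20, false), (9, 20, false), (6, 14, false), (7, 18, false), (3, 8, false), (8, 17, false), (9, 17, false), (10, 26, false), (11, 26, false), (12, 27, false), (7, 17, false), (8, 17, false), (9, 26, false), (10, 26, false), (6, 16, false), (7, 16, false), (8, 25, false), (5, 14, false), (6, 14, false), (4, 13, false), (1, 3, false), (2, 9, false), (0, 3, false), (1, 9, false), (2, 18, false), (2, 13, true), (5, 18, true), (8, 25, true), (7, 20, true), (6, 20, true), (8, 20, true), (7, 20, true), (10, 26, true), (9, 21, true), (8, 21, true), (12, 27, true), (11, 26, true), (10, 21, true), (9, 21, true), (10, 13, true), (12, 14, true), (11, 14, true), (14, 20, true), (13, 16, true), (12, 16, true), (16, 25, true), (15, 20, true), (14, 16, true), (13, 16, true), (18, 26, true), (17, 26, true), (16, 21, true), (15, 17, true), (14, 17, true), (19, 26, true), (18, 26, true), (17, 21, true), (16, 17, true), (15, 17, true), (17, 14, true), (16, 14, true), (19, 22, true), (18, 15, true),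 (17, 15, true), (19, 15, true), (18, 15, true), (24, 27, true), (23, 26, true), (22, 26, true), (21, 24, true), (20, 17, true), (19, 17, true), (22, 18, true), (24, 19, true), (26, 22, true), (25, 19, true), (28, 23, true), (27, 23, true), (26, 20, true), (27, 13, true), (29, 14, true), (31, 18, true), (30, 14, true), (33, 19, true), (32, 19, true), (31, 15, true), (34, 19, true), (33, 19, true), (32, 15, true), (35, 20, true), (34, 20, true), (33, 16, true), (34, 14, true), (35, 14, true), (37, 25, true), (36, 16, true), (39, 26, true), (38, 26, true), (37, 17, true), (39, 13, true), (41, 16, true), (40, 16, true), (43, 26, true), (42, 17, true), (41, 17, true), (45, 27, true), (44, 26, true), (43, 17, true), (42, 17, true), (43, 41, true), (38, 41, true), (34, 40, true), (27, 39, true), (20, 39, true), (16, 38, true), (10, 37, true), (4, 37, true), (0, 35, true), (1, 5, true)])]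

/-- rows -/
def rows0 : List ℕ := [0x400000000000000000000000000000000000000000000000000000000000000000080000000000000000000000000000000000000000000000000018000000000,
  0x200000000100000000000000000000000000000000000000000000000000000000000006000000000000000000000000000000000000000000000000000000000,
  0x800000000000000000000000000000000400000000000000000000000000000000000000000000000000060000c000000000,
  0x8000200000000000000000000000000000000000003000000000000018000000000000000000000000000000000000000000,
  0xc0000000000000000000000000000000000000000000000000000000000000000000000000000000200000000000000000000000000000000000000000000000000000000000000,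
  0x6000000000000000000000000000000000000000000000000000000000000100000000000000000000000000000000000000000000000000000000000000000000000000000000000000,
  0x300000000000000000000000000000000000000000000001000000000000000000000000000000000000000000000000000000000000000000000000000000000000000000000000000000000,
  0x4000000000000080000000000000000000000000000000000000000000000000003000060000000000000000000000000000000000000000000000000000,
  0x60000c00000000000000000000000000000000000000000000000000000000000000000000000000000000000000000000000000000000000080000000000000000000000000000000000000000000000000000000000000000000000000000000000000000000000000000000000000,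
  0x20000000004000000000000000000000000000000000000000000000000000000000000000000000000000c00000000000003,
  0x8000000001000040000000000000000000000000000000000000000000000000003000000000c00000000000000000000000000000000000000000000000,
  0x1000000000000000000100000000020000000000000000000000000000000000000000000000000003000000000c000000000,
  0x8000000000000000000000000000200000000000000800020000000000000000003000000000000000000300000000000000000000000000000000000000,
  0xc00000000300000000000000000000000000000000000000000000000000000000000000000000000000000000000000000000000000000000000000000000004000000000000000000800000000000000000000000000000000000000000000000000000000000000000000000,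
  0x18000000006000000000000000000000000000000000000000000000000000000000000000000000000000000000000000000000000000000010000000008000000000000000000000000000000000000000000000020000000000000000000000000000000000000000000,
  0x20000000000000100000000000000000018000000000000000000000000000000000000000000000000000c000000000000000000c000000000,
  0x6000000000000030000000000000000000000000000000000000400000000000000000000000000008000000000000000000000000000000000000000000000000000800000000000000,
  0x800000000000000000040000000030000000008000000000000000000000010000000000000000001000000000000000000000000000000000000000000000000000000000000000000000010000000000,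
  0x400010000000000000000001800000000000000000180000000080000000000000400000000000000000040000000000000000004000000000000000000000000000000000000000000000000000000000,
  0x1000040000000000000000006000000000000000000000000000000000000000000000000000000000000000000000000000000010000000004000080000c00000000200004000000000000000000000000000000003000020000000000000000000000000000000000000000000000000000,
  0x400000000400008000100000000030000000000000000000000040000c000000002000040000c0000000020000400010000180000000000000000000000000000000100000000000000000000000000000,
  0x2000000000400010000000008000080001000000000800018000100000000000000000000000000000000080000000010000200000000000003,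
  0x40003000020000c0001c00010000000000000000000000000000000000000000000000020000c0001000000000000006000000000000000000000000000000000,
  0x20000c00000000200002000080001000050000c000080001000010000c0001400010000200000000000000000010000000008000080000000020000c000180000,
  0x80002000000000000000000300000000000000000000000000000000000000000020001800000000200002000080002000060000c000100001000010000c00014000100002000000000000000000000000000080000800000000000008000000000,
  0x28000400000000000001800000000000000000300000000140000c00000000800010000000000000080001000000000000000000080000000000000000000000000000000000000000000000000000,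
  0x1000018000400004000100000000030000600018000180004000080000c0003000070000c00000000100003000040000c000180000000000000000000000000000000000002000000000000000000000000,
  0x10000000010000200004000000000c00000000000000000000000000000000000000000000000000000000000000000000004000000000000000000000010000200000000180001800050000000010000400003000000000000000000000000000000000c0000000020000400008000000000,
  0x50000800000000000003000000000000000000000000000000000000000000000010000100004000100000c00020000a0000c00014000200008000180002c000180000000040000000000000000000000040000800000000400000000000000,
  0x20000000000000000001000000000c0000000000000000000000000000000000000000000000000000000000000000000000800000000000006000000001000020000000010000180001000000001800040000200000000000000000000000000000000180000000020001000020000000000,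
  0x3000000000000000000000000000000000000000000800018000080010000000000c00080000200014000140003000000000c00038000200000000000000000000000000004000080001800020000800008000000001,
  0x6000000000000000000000000000000000000000000000000000000000000000000000000000600028000280006000200001000060001200018000040000000000000000000000000006000060001800018000000008000000000000000000000000000000000,
  0x2000020000000008000180003000000000000000000000000000000000000000000a0003800028000c0001a000080005000040001c00010000a0000f000140004c000200000000000000000000000200000000080001000000000200004000000000,
  0x4000040000000010000300006000000000000000000000000000000000000000000000000000000000000000000000000000a000300003000080003e000200003000130001c00010000300005000140000c000000008000080001000030000600000000000000000000000000000000000000,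
  0x2000020000000010000000003000060000000000000000000000000000000000001000060000200014000100000c000d0000900010000140011000180002000040000180002000020000800010000200000000000000800000000200010000200000,
  0x20000300008000080002000000000600000000000000000000000000000000000016000a00005000120002800018000c0001c000200002400160001f0002800068000500002000020001000028000400000000040001800000000400000000000000]

/-- rows -/
def rows : List ℕ := rows0

/-- the certificate -/
def D : Cert where
  b := 19
  m := 3
  n := 49
  ns := 28
  rules := rules
  M := 783
  rows := rows
  gauge := [0,
    0,
    0x2000000000000000000100000000000000800000000400004000000000000000000000000000000000000000000000000000000000000000000000000000000000000000000000000000000000000000000000000000000000000000000000000000000000000000000000000000000000000,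
    0x800000000400008000000000000000000000000000000000000000000000000000000000000000000000000000000000000000000000000000000000000000000000000000000000000000000000000000000000000000000000000000000000000,
    0x8000000000000000000000000000000000000000000000000000000000000000000000000000000000000000000000000000000000000000000000000000000000000000000000000000000000000000000000000000000000000,
    0x2000020000000000000000000000000000000000000000008000000000000000000000000000000000000000000000000000000000000000000000000000000000000000000000000000000000000000000000000000000000000000000000000000000000000000000000000000000000000,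
    0]
  prm := []
  ords := []
  certs := [(0x111010111101102101021210221110210, 0),
    (0x10100020002210010012112010111202220, 0),
    (0x200120222201201211022121101100222, 0),
    (0x12000020020001100, 0),
    (0x100110111102102111001001220222110, 0),
    (0x200100001201000020010210200012210, 0),
    (0x100110111101102122001100221110210, 0),
    (0x10000000000000000000000022210022, 0),
    (0x100010001200010012002201111121110, 0),
    (0x100001000000000, 0),
    (0x200000221210211221010011111220122, 0),
    (0x10001000002020002000, 0),
    (0x200000221200211221010011012220112, 0),
    (0x10000, 0),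
    (0x1000010010000100, 0),
    (0x2010022020000000, 0),
    (0x1012212100001000, 0),
    (0x10202000000000, 0),
    (0x100000, 0),
    (0x2000022020000000, 0),
    (0x2000020020002000, 0),
    (0x2000020020000000, 0),
    (0x1000000, 0),
    (0x100000000, 0),
    (0x10010000000, 0),
    (0x10022, 0),
    (0x210000000, 0),
    (0x10002, 0)]
  ocerts := []

theorem path0 : Rows D.b D.m D.n D.M D.rules rows0 := rowsB_spec (ps := paths0) (by decide +kernel)

theorem tgt_ok : (List.range D.ns).all D.tgtB = true := by decide +kernel

theorem good : D.Good where
  m1 := by decide
  nsn := by decide +kernel
  rows := path0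
  gau := by decide +kernel
  prm := by decide +kernel
  bnd := by decide +kernel
  tgt := fun r hr => (List.all_eq_true.1 tgt_ok) r (List.mem_range.2 hr)
  ord := fun j hj => absurd hj (Nat.not_lt_zero j)

theorem pc_ok : pcB 3 7 D.ns D.rules = true := by decide +kernel

end Cfsg.Agent.LyG.MC3
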