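import Cfsg.Agent.MRel.KM
import Cfsg.Agent.CosetEnum.Ly.MC2
import Cfsg.Agent.CosetEnum.Ly.MC3
import Cfsg.Agent.CosetEnum.Ly.ChData

/-!
Words for the Sylow subgroups of the Lyons group (generated; owner: helper66).
-/

set_option autoImplicit false
set_option maxRecDepth 1000000

namespace Cfsg.Agent.LyG

open Cfsg.Agent.CosetEnum Cfsg.Agent.KMat Cfsg.Agent.MRel.KM

/-- words of the letters -/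
def WM2 : List (List ℕ) := [[30], [29], [28], [27], [26], [25], [24], [23], [2, 8, 6, 8, 4, 8, 1, 4, 9, 9, 13, 11, 14, 11, 13, 14, 13, 14, 13, 7], [29, 24], [28, 24], [27, 24], [26, 24], [25, 24], [6, 8, 4, 8, 1, 3, 6, 7, 10, 14, 11, 7, 7, 13, 3, 13, 15, 10], [4, 10, 14, 9], [28, 27]]

/-- words of the old letters -/
def lwM2 : List (List ℕ) := [[], [], [], [], [], [], [], [], [], [], [], [], [], [], [], [], [], [], [], [], [], [], [], [7], [6], [5], [4], [3], [2], [1], [0]]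

/-- pairs of words -/
def prsM2 : List (List ℕ × List ℕ) := [([30, 30], []),
  ([29, 30], [30, 29, 27, 24, 23]),
  ([28, 30], [30, 29, 27]),
  ([27, 30], [30, 29, 28, 27, 24, 23]),
  ([26, 30], [30, 29, 28, 27, 25]),
  ([25, 30], [30, 29, 24, 23]),
  ([24, 30], [30, 29, 27, 26, 24]),
  ([23, 30], [30, 23]),
  ([29, 29], [28, 27, 25, 24]),
  ([28, 29], [29, 27, 25, 24]),
  ([27, 29], [29, 27, 26, 25, 23]),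
  ([26, 29], [29, 26, 23]),
  ([25, 29], [29, 25]),
  ([24, 29], [29, 28, 27, 25]),
  ([23, 29], [29, 23]),
  ([28, 28], [26, 25]),
  ([27, 28], [28, 27, 23]),
  ([26, 28], [28, 25]),
  ([25, 28], [28, 26, 23]),
  ([24, 28], [28, 26, 25, 24]),
  ([23, 28], [28, 23]),
  ([27, 27], [26, 25]),
  ([26, 27], [27, 25]),
  ([25, 27], [27, 26, 23]),
  ([24, 27], [27, 26, 25, 24, 23]),
  ([23, 27], [27, 23]),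
  ([26, 26], [23]),
  ([25, 26], [26, 25, 23]),
  ([24, 26], [26, 24]),
  ([23, 26], [26, 23]),
  ([25, 25], [23]),
  ([24, 25], [25, 24, 23]),
  ([23, 25], [25, 23]),
  ([24, 24], []),
  ([23, 24], [24, 23]),
  ([23, 23], []),
  ([29, 24], [29, 24]),
  ([28, 24], [28, 24]),
  ([27, 24], [27, 24]),
  ([26, 24], [26, 24]),
  ([25, 24], [25, 24]),
  ([2, 8, 6, 8, 4, 8, 1, 4, 9, 9, 13, 11, 14, 11, 13, 14, 13, 14, 13, 7, 29, 24], [26, 2, 8, 6, 8, 4, 8, 1, 4, 9, 9, 13, 11, 14, 11, 13, 14, 13, 14, 13, 7]),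
  ([2, 8, 6, 8, 4, 8, 1, 4, 9, 9, 13, 11, 14, 11, 13, 14, 13, 14, 13, 7, 28, 24], [28, 27, 25, 24, 2, 8, 6, 8, 4, 8, 1, 4, 9, 9, 13, 11, 14, 11, 13, 14, 13, 14, 13, 7]),
  ([2, 8, 6, 8, 4, 8, 1, 4, 9, 9, 13, 11, 14, 11, 13, 14, 13, 14, 13, 7, 27, 24], [27, 25, 2, 8, 6, 8, 4, 8, 1, 4, 9, 9, 13, 11, 14, 11, 13, 14, 13, 14, 13, 7]),
  ([2, 8, 6, 8, 4, 8, 1, 4, 9, 9, 13, 11, 14, 11, 13, 14, 13, 14, 13, 7, 26, 24], [28, 24, 23, 2, 8, 6, 8, 4, 8, 1, 4, 9, 9, 13, 11, 14, 11, 13, 14, 13, 14, 13, 7]),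
  ([2, 8, 6, 8, 4, 8, 1, 4, 9, 9, 13, 11, 14, 11, 13, 14, 13, 14, 13, 7, 25, 24], [27, 24, 2, 8, 6, 8, 4, 8, 1, 4, 9, 9, 13, 11, 14, 11, 13, 14, 13, 14, 13, 7]),
  ([2, 8, 6, 8, 4, 8, 1, 4, 9, 9, 13, 11, 14, 11, 13, 14, 13, 14, 13, 7, 23], [23, 2, 8, 6, 8, 4, 8, 1, 4, 9, 9, 13, 11, 14, 11, 13, 14, 13, 14, 13, 7]),
  ([6, 8, 4, 8, 1, 3, 6, 7, 10, 14, 11, 7, 7, 13, 3, 13, 15, 10, 30], [28, 26, 23, 6, 8, 4, 8, 1, 3, 6, 7, 10, 14, 11, 7, 7, 13, 3, 13, 15, 10]),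
  ([6, 8, 4, 8, 1, 3, 6, 7, 10, 14, 11, 7, 7, 13, 3, 13, 15, 10, 29, 24], [26, 6, 8, 4, 8, 1, 3, 6, 7, 10, 14, 11, 7, 7, 13, 3, 13, 15, 10]),
  ([6, 8, 4, 8, 1, 3, 6, 7, 10, 14, 11, 7, 7, 13, 3, 13, 15, 10, 28], [30, 29, 24, 6, 8, 4, 8, 1, 3, 6, 7, 10, 14, 11, 7, 7, 13, 3, 13, 15, 10]),
  ([6, 8, 4, 8, 1, 3, 6, 7, 10, 14, 11, 7, 7, 13, 3, 13, 15, 10, 27, 24], [30, 29, 28, 27, 26, 25, 6, 8, 4, 8, 1, 3, 6, 7, 10, 14, 11, 7, 7, 13, 3, 13, 15, 10]),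
  ([6, 8, 4, 8, 1, 3, 6, 7, 10, 14, 11, 7, 7, 13, 3, 13, 15, 10, 26], [29, 24, 6, 8, 4, 8, 1, 3, 6, 7, 10, 14, 11, 7, 7, 13, 3, 13, 15, 10]),
  ([6, 8, 4, 8, 1, 3, 6, 7, 10, 14, 11, 7, 7, 13, 3, 13, 15, 10, 25], [25, 6, 8, 4, 8, 1, 3, 6, 7, 10, 14, 11, 7, 7, 13, 3, 13, 15, 10]),
  ([6, 8, 4, 8, 1, 3, 6, 7, 10, 14, 11, 7, 7, 13, 3, 13, 15, 10, 23], [23, 6, 8, 4, 8, 1, 3, 6, 7, 10, 14, 11, 7, 7, 13, 3, 13, 15, 10]),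
  ([28, 27], [28, 27]),
  ([4, 10, 14, 9, 29], [29, 4, 10, 14, 9]),
  ([4, 10, 14, 9, 28, 27], [28, 27, 25, 23, 4, 10, 14, 9]),
  ([4, 10, 14, 9, 26], [26, 25, 4, 10, 14, 9]),
  ([4, 10, 14, 9, 25], [25, 23, 4, 10, 14, 9]),
  ([4, 10, 14, 9, 24], [25, 24, 23, 4, 10, 14, 9]),
  ([4, 10, 14, 9, 23], [23, 4, 10, 14, 9]),
  ([30], [30]),
  ([29], [29]),
  ([28], [28]),
  ([27], [27]),
  ([26], [26]),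
  ([25], [25]),
  ([24], [24]),
  ([23], [23])]

/-- words of the letters -/
def WM3 : List (List ℕ) := [[22], [19], [21], [20], [18], [17], [16], [1, 8, 3, 8, 4, 8, 5, 10, 11, 7, 2, 12, 8, 13], [8, 3, 2, 7, 5, 8, 3, 10, 11, 8, 13, 2, 6, 14, 11, 7, 3, 9, 15, 13, 2], [7, 6, 4, 7, 2, 8, 3, 7, 14, 11, 7, 9, 7, 2, 15]]

/-- words of the old letters -/
def lwM3 : List (List ℕ) := [[], [], [], [], [], [], [], [], [], [], [], [], [], [], [], [], [6], [5], [4], [1], [3], [2], [0], [], [], [], [], [], [], [], []]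

/-- pairs of words -/
def prsM3 : List (List ℕ × List ℕ) := [([22, 22, 22], [20, 18, 16, 16]),
  ([19, 22], [22, 19, 20, 20, 17, 16, 16]),
  ([21, 22], [22, 16]),
  ([20, 22], [22, 20]),
  ([18, 22], [22, 21, 21, 20, 20, 16, 16]),
  ([17, 22], [22, 21, 21, 20, 18, 18, 17, 16, 16]),
  ([16, 22], [22, 21, 21, 20, 20, 18, 18]),
  ([19, 19, 19], []),
  ([21, 19], [19, 21, 20, 17, 16, 16]),
  ([20, 19], [19, 20]),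
  ([18, 19], [19, 18, 17, 16, 16]),
  ([17, 19], [19, 18, 18, 17, 17]),
  ([16, 19], [19, 17]),
  ([21, 21, 21], []),
  ([20, 21], [21, 20]),
  ([18, 21], [21, 18]),
  ([17, 21], [21, 17]),
  ([16, 21], [21, 16]),
  ([20, 20, 20], []),
  ([18, 20], [20, 18]),
  ([17, 20], [20, 17]),
  ([16, 20], [20, 16]),
  ([18, 18, 18], []),
  ([17, 18], [18, 17]),
  ([16, 18], [18, 16]),
  ([17, 17, 17], []),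
  ([16, 17], [17, 16]),
  ([16, 16, 16], []),
  ([1, 8, 3, 8, 4, 8, 5, 10, 11, 7, 2, 12, 8, 13, 22], [22, 21, 20, 17, 1, 8, 3, 8, 4, 8, 5, 10, 11, 7, 2, 12, 8, 13]),
  ([1, 8, 3, 8, 4, 8, 5, 10, 11, 7, 2, 12, 8, 13, 19], [19, 21, 21, 20, 20, 18, 18, 17, 17, 1, 8, 3, 8, 4, 8, 5, 10, 11, 7, 2, 12, 8, 13]),
  ([1, 8, 3, 8, 4, 8, 5, 10, 11, 7, 2, 12, 8, 13, 21], [21, 21, 1, 8, 3, 8, 4, 8, 5, 10, 11, 7, 2, 12, 8, 13]),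
  ([1, 8, 3, 8, 4, 8, 5, 10, 11, 7, 2, 12, 8, 13, 20], [20, 20, 1, 8, 3, 8, 4, 8, 5, 10, 11, 7, 2, 12, 8, 13]),
  ([1, 8, 3, 8, 4, 8, 5, 10, 11, 7, 2, 12, 8, 13, 18], [18, 18, 1, 8, 3, 8, 4, 8, 5, 10, 11, 7, 2, 12, 8, 13]),
  ([1, 8, 3, 8, 4, 8, 5, 10, 11, 7, 2, 12, 8, 13, 17], [17, 17, 1, 8, 3, 8, 4, 8, 5, 10, 11, 7, 2, 12, 8, 13]),
  ([1, 8, 3, 8, 4, 8, 5, 10, 11, 7, 2, 12, 8, 13, 16], [16, 16, 1, 8, 3, 8, 4, 8, 5, 10, 11, 7, 2, 12, 8, 13]),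
  ([8, 3, 2, 7, 5, 8, 3, 10, 11, 8, 13, 2, 6, 14, 11, 7, 3, 9, 15, 13, 2, 22], [22, 19, 21, 21, 8, 3, 2, 7, 5, 8, 3, 10, 11, 8, 13, 2, 6, 14, 11, 7, 3, 9, 15, 13, 2]),
  ([8, 3, 2, 7, 5, 8, 3, 10, 11, 8, 13, 2, 6, 14, 11, 7, 3, 9, 15, 13, 2, 19], [22, 20, 17, 8, 3, 2, 7, 5, 8, 3, 10, 11, 8, 13, 2, 6, 14, 11, 7, 3, 9, 15, 13, 2]),
  ([8, 3, 2, 7, 5, 8, 3, 10, 11, 8, 13, 2, 6, 14, 11, 7, 3, 9, 15, 13, 2, 21], [21, 20, 17, 17, 16, 16, 8, 3, 2, 7, 5, 8, 3, 10, 11, 8, 13, 2, 6, 14, 11, 7, 3, 9, 15, 13, 2]),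
  ([8, 3, 2, 7, 5, 8, 3, 10, 11, 8, 13, 2, 6, 14, 11, 7, 3, 9, 15, 13, 2, 20], [20, 18, 18, 16, 8, 3, 2, 7, 5, 8, 3, 10, 11, 8, 13, 2, 6, 14, 11, 7, 3, 9, 15, 13, 2]),
  ([8, 3, 2, 7, 5, 8, 3, 10, 11, 8, 13, 2, 6, 14, 11, 7, 3, 9, 15, 13, 2, 18], [21, 21, 20, 20, 18, 18, 17, 8, 3, 2, 7, 5, 8, 3, 10, 11, 8, 13, 2, 6, 14, 11, 7, 3, 9, 15, 13, 2]),
  ([8, 3, 2, 7, 5, 8, 3, 10, 11, 8, 13, 2, 6, 14, 11, 7, 3, 9, 15, 13, 2, 17], [20, 20, 17, 16, 8, 3, 2, 7, 5, 8, 3, 10, 11, 8, 13, 2, 6, 14, 11, 7, 3, 9, 15, 13, 2]),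
  ([8, 3, 2, 7, 5, 8, 3, 10, 11, 8, 13, 2, 6, 14, 11, 7, 3, 9, 15, 13, 2, 16], [21, 21, 17, 16, 16, 8, 3, 2, 7, 5, 8, 3, 10, 11, 8, 13, 2, 6, 14, 11, 7, 3, 9, 15, 13, 2]),
  ([7, 6, 4, 7, 2, 8, 3, 7, 14, 11, 7, 9, 7, 2, 15, 22], [22, 22, 21, 21, 20, 16, 16, 7, 6, 4, 7, 2, 8, 3, 7, 14, 11, 7, 9, 7, 2, 15]),
  ([7, 6, 4, 7, 2, 8, 3, 7, 14, 11, 7, 9, 7, 2, 15, 19], [19, 19, 20, 18, 18, 16, 7, 6, 4, 7, 2, 8, 3, 7, 14, 11, 7, 9, 7, 2, 15]),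
  ([7, 6, 4, 7, 2, 8, 3, 7, 14, 11, 7, 9, 7, 2, 15, 21], [21, 21, 20, 20, 18, 18, 7, 6, 4, 7, 2, 8, 3, 7, 14, 11, 7, 9, 7, 2, 15]),
  ([7, 6, 4, 7, 2, 8, 3, 7, 14, 11, 7, 9, 7, 2, 15, 20], [20, 7, 6, 4, 7, 2, 8, 3, 7, 14, 11, 7, 9, 7, 2, 15]),
  ([7, 6, 4, 7, 2, 8, 3, 7, 14, 11, 7, 9, 7, 2, 15, 18], [18, 7, 6, 4, 7, 2, 8, 3, 7, 14, 11, 7, 9, 7, 2, 15]),
  ([7, 6, 4, 7, 2, 8, 3, 7, 14, 11, 7, 9, 7, 2, 15, 17], [18, 18, 17, 17, 7, 6, 4, 7, 2, 8, 3, 7, 14, 11, 7, 9, 7, 2, 15]),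
  ([7, 6, 4, 7, 2, 8, 3, 7, 14, 11, 7, 9, 7, 2, 15, 16], [16, 7, 6, 4, 7, 2, 8, 3, 7, 14, 11, 7, 9, 7, 2, 15]),
  ([22], [22]),
  ([19], [19]),
  ([21], [21]),
  ([20], [20]),
  ([18], [18]),
  ([17], [17]),
  ([16], [16])]

/-- pairs of words -/
def prsMO : List (List ℕ × List ℕ) := [([11, 7, 13, 11, 7, 13, 11, 7, 13, 11, 7, 13, 11, 7, 13, 11, 7, 13, 11, 7, 13], []),
  ([13, 10, 6, 13, 10, 6, 13, 10, 6, 13, 10, 6, 13, 10, 6, 13, 10, 6, 13, 10, 6, 13, 10, 6, 13, 10, 6, 13, 10, 6, 13, 10, 6, 13, 10, 6, 13, 10, 6, 13, 10, 6, 13, 10, 6, 13, 10, 6, 13, 10, 6, 13, 10, 6, 13, 10, 6, 13, 10, 6, 13, 10, 6, 13, 10, 6, 13, 10, 6, 13, 10, 6, 13, 10, 6, 13, 10, 6, 13, 10, 6, 13, 10, 6, 13, 10, 6, 13, 10, 6, 13, 10, 6], [])]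

/-- pairs of words -/
def prsMM : List (List ℕ × List ℕ) := prsM2 ++ (prsM3 ++ prsMO)

theorem rlM2 : (MC2.rules.all fun q => prsM2.contains (ex WM2 q.1, ex WM2 q.2)) = true := by decide +kernel

theorem rlM3 : (MC3.rules.all fun q => prsM3.contains (ex WM3 q.1, ex WM3 q.2)) = true := by decide +kernel

theorem llM2 : (([23, 24, 25, 26] ++ [27, 28, 29, 30]).all fun x => prsM2.contains ([x], ex WM2 (lwM2.getD x []))) = true := by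
  decide +kernel

theorem llM3 : (([16, 17, 18, 19] ++ [20, 21, 22]).all fun x => prsM3.contains ([x], ex WM3 (lwM3.getD x []))) = true := by
  decide +kernel

end Cfsg.Agent.LyG
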