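import Cfsg.Agent.CosetEnum.Ly.Mats

/-!
Relations of the matrices, part 3 (owner: helper66).
-/

set_option autoImplicit false
set_option maxRecDepth 1000000

namespace Cfsg.Agent.LyG

open Cfsg.Agent.CosetEnum Cfsg.Agent.KMat

theorem rc3_0 : allR (prB PM ms prsM) 57 9 = true := by decide +kernel

theorem rc3_1 : allR (prB PM ms prsM) 66 9 = true := by decide +kernel

theorem rc3 : Cov (prB PM ms prsM) 57 75 := (Cov.of rc3_0 rfl).trans (Cov.of rc3_1 rfl)

end Cfsg.Agent.LyG
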