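import Cfsg.Agent.CosetEnum.Ly.PA
import Cfsg.Agent.CosetEnum.Ly.G2
import Cfsg.Agent.KMat.Simp
import Cfsg.Prelude.Def_Sporadic

/-!
The order and the simplicity of the Lyons group (owner: helper66).
-/

set_option autoImplicit false
set_option maxRecDepth 1000000
set_option linter.all false

namespace Cfsg.Agent.LyG

open MulAction Cfsg.Agent.CosetEnum Cfsg.Agent.KMat Cfsg.Spor

section

variable {G : Type} [Group G] {g : ℕ → G} (hg : Good g 15 ivG RLG)

include hg

/-- the double cosets cover the group -/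
theorem cover {Ws : List (List ℕ)} (h0 : [] ∈ Ws) (hgd : ∀ W ∈ Ws, ∀ a, Gd hg Ws W a) (htop : Cl g 15 = ⊤) (x : G) :
    ∃ W ∈ Ws, ∃ a : QA, x * (ev g W * th hg a)⁻¹ ∈ Cl g 13 := by
  letI A : MulAction QA (G ⧸ Cl g 13) := MulAction.compHom _ (th hg)
  have hA : ∀ (a : QA) (x : G ⧸ Cl g 13), a • x = th hg a • x := fun _ _ => rfl
  have hcov : ∀ x : G, ∃ W ∈ Ws, pt g x ∈ orbit QA (pt g (ev g W)) := by
    have hu : ∀ x : G, (∃ W ∈ Ws, pt g x ∈ orbit QA (pt g (ev g W))) →
        ∃ W ∈ Ws, pt g (x * g 14) ∈ orbit QA (pt g (ev g W)) := by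
      rintro x ⟨W, hW, a, ha⟩
      have h1 : th hg a • pt g (ev g W) = pt g x := ha
      rw [smul_pt, eq_comm, pt_eq] at h1
      obtain ⟨W', hW', b, hb⟩ := hgd W hW a⁻¹
      refine ⟨W', hW', b⁻¹, ?_⟩
      show th hg b⁻¹ • pt g (ev g W') = pt g (x * g 14)
      rw [smul_pt, inv_inv, eq_comm, pt_eq]
      have h2 := Subgroup.mul_mem _ h1 hb
      have h3 : x * (ev g W * th hg a⁻¹)⁻¹ * (ev g W * th hg a⁻¹ * g 14 * (ev g W' * th hg b)⁻¹) =
          x * g 14 * (ev g W' * th hg b)⁻¹ := by group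
      rwa [h3] at h2
    have hq : ∀ (x y : G), (∃ W ∈ Ws, pt g x ∈ orbit QA (pt g (ev g W))) → (∃ c : QA, th hg c = y) →
        ∃ W ∈ Ws, pt g (x * y) ∈ orbit QA (pt g (ev g W)) := by
      rintro x y ⟨W, hW, a, ha⟩ ⟨c, rfl⟩
      have h1 : th hg a • pt g (ev g W) = pt g x := ha
      refine ⟨W, hW, c⁻¹ * a, ?_⟩
      show th hg (c⁻¹ * a) • pt g (ev g W) = pt g (x * th hg c)
      rw [map_mul, mul_smul, h1, smul_pt, inv_inv]
    have h13 : ∀ z : G, (∃ W ∈ Ws, pt g z ∈ orbit QA (pt g (ev g W))) →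
        ∃ W ∈ Ws, pt g (z * (g 14)⁻¹) ∈ orbit QA (pt g (ev g W)) := by
      intro z hz
      have h1 : (g 14)⁻¹ = g 14 * (g 2 * g 2) := by
        have h2 := hg.rel ([14, 14, 2, 2], 1) (by decide +kernel)
        have h4 : g 14 * (g 14 * (g 2 * g 2)) = 1 := by simpa using h2
        exact (eq_inv_of_mul_eq_one_right h4).symm
      rw [h1, ← mul_assoc]
      refine hq _ _ (hu z hz) ⟨ev qa [2, 2], ?_⟩
      rw [th_word hg (by decide +kernel)]
      simp [ev]
    have hlet : ∀ y ∈ Cl g 15, ∀ x : G, (∃ W ∈ Ws, pt g x ∈ orbit QA (pt g (ev g W))) →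
        (∃ W ∈ Ws, pt g (x * y) ∈ orbit QA (pt g (ev g W))) ∧
          ∃ W ∈ Ws, pt g (x * y⁻¹) ∈ orbit QA (pt g (ev g W)) := by
      intro y hy
      unfold Cl at hy
      induction hy using Subgroup.closure_induction with
      | mem y hy =>
        intro x hx
        obtain ⟨l, hl, rfl⟩ := hy
        obtain ⟨h1, h2⟩ := isLet_iff.1 (show isLet 15 l = true from hl)
        rcases Nat.lt_or_ge l 14 with h3 | h3
        · have h5 := th_qa hg (isLet_iff.2 ⟨h1, (show l ≤ 13 by omega)⟩)
          exact ⟨hq x _ hx ⟨qa l, h5⟩, hq x _ hx ⟨(qa l)⁻¹, by rw [map_inv, h5]⟩⟩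
        · rcases Nat.lt_or_ge l 15 with h4 | h4
          · have : l = 14 := by omega
            subst this
            exact ⟨hu x hx, h13 x hx⟩
          · have : l = 15 := by omega
            subst this
            rw [g15 hg, inv_inv]
            exact ⟨h13 x hx, hu x hx⟩
      | one => intro x hx; rw [inv_one, mul_one]; exact ⟨hx, hx⟩
      | mul y z _ _ h1 h2 =>
        intro x hx
        rw [mul_inv_rev, ← mul_assoc, ← mul_assoc]
        exact ⟨(h2 _ (h1 _ hx).1).1, (h1 _ (h2 _ hx).2).2⟩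
      | inv y _ h1 => intro x hx; rw [inv_inv]; exact ⟨(h1 x hx).2, (h1 x hx).1⟩
    intro x
    have h1 := (hlet x (by rw [htop]; exact Subgroup.mem_top _) 1 ⟨[], h0, ?_⟩).1
    · rwa [one_mul] at h1
    · show pt g 1 ∈ orbit QA (pt g 1)
      exact mem_orbit_self _
  obtain ⟨W, hW, a, ha⟩ := hcov x
  have h1 : th hg a • pt g (ev g W) = pt g x := ha
  rw [smul_pt, eq_comm, pt_eq] at h1
  exact ⟨W, hW, a⁻¹, h1⟩


theorem gdA : ∀ W ∈ Ws, ∀ a, Gd hg Ws W a := by
  intro W hW a
  simp only [Ws, List.mem_cons, List.not_mem_nil, or_false] at hW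
  rcases hW with rfl | rfl | rfl | rfl | rfl
  · exact gd0 hg a
  · exact gd1 hg a
  · exact gd2 hg a
  · exact gd3 hg a
  · exact gd4 hg a

end

/-- `G₂(5)` in the Lyons group -/
noncomputable abbrev HG : Subgroup Spor.Ly := Cl gL 13

/-- the homomorphism of `G₂(5)` -/
noncomputable abbrev tL : QA →* Spor.Ly := th gL_good

theorem tL_inj : Function.Injective tL := by
  haveI := QA_simple
  rcases (inferInstance : tL.ker.Normal).eq_bot_or_eq_top with h | h
  · exact (MonoidHom.ker_eq_bot_iff _).1 h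
  · exfalso
    have h1 : qa 7 ∈ tL.ker := by rw [h]; exact Subgroup.mem_top _
    rw [MonoidHom.mem_ker, th_qa gL_good (by decide)] at h1
    exact c_ne h1

theorem tL_range : tL.range = HG := by
  apply le_antisymm
  · rintro _ ⟨a, rfl⟩
    exact th_mem gL_good a
  · show Cl gL 13 ≤ _
    unfold Cl
    rw [Subgroup.closure_le]
    rintro _ ⟨x, hx, rfl⟩
    exact ⟨qa x, th_qa gL_good hx⟩

noncomputable def eHG : QA ≃* HG := (MonoidHom.ofInjective tL_inj).trans (MulEquiv.subgroupCongr tL_range)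

theorem card_HG : Nat.card HG = 5859000000 := by
  rw [← card_QA]
  exact (Nat.card_congr eHG.toEquiv).symm

theorem HG_simple : IsSimpleGroup HG := by
  haveI := QA_simple
  exact eHG.symm.isSimpleGroup

theorem card_eq : Nat.card Spor.Ly = 5859000000 * HG.index := by
  rw [← card_HG]
  exact (HG.card_mul_index).symm

theorem index_eq : HG.index = 8835156 := by
  haveI := finite_Ly
  have h1 := dvd_card
  rw [card_eq] at h1
  have h2 : 8835156 ∣ HG.index := by
    have h3 : 1728 * 8835156 ∣ 1728 * (3390625 * HG.index) := by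
      have e1 : 1728 * 8835156 = 2 ^ 8 * 3 ^ 7 * 11 * 37 * 67 := by norm_num
      have e2 : 1728 * (3390625 * HG.index) = 5859000000 * HG.index := by ring
      rw [e1, e2]
      exact h1
    have h4 := Nat.dvd_of_mul_dvd_mul_left (by norm_num) h3
    exact (Nat.Coprime.dvd_of_dvd_mul_left (by norm_num) h4)
  have h3 : HG.index ≤ 8835156 := index_Ly.2
  have h4 : HG.index ≠ 0 := Subgroup.index_ne_zero_of_finite
  exact le_antisymm h3 (Nat.le_of_dvd (Nat.pos_of_ne_zero h4) h2)

theorem card_Ly : Nat.card Spor.Ly = 51765179004000000 := by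
  rw [card_eq, index_eq]

theorem normal_top (N : Subgroup Spor.Ly) (hN : N.Normal) (h : HG ≤ N) : N = ⊤ := by
  have hm : ∀ {x : ℕ}, isLet 13 x = true → gL x ∈ N := fun hx => h (mem_Cl gL hx)
  let π := QuotientGroup.mk' N
  have hp : ∀ {x : ℕ}, isLet 13 x = true → π (gL x) = 1 := fun hx => (QuotientGroup.eq_one_iff _).2 (hm hx)
  have r1 := gL_good.rel ([14, 14, 2, 2], 1) (by decide +kernel)
  have r2 := gL_good.rel ([10, 10, 1, 9, 9, 14, 10, 10, 1, 9, 9, 14, 10, 10, 1, 9, 9, 14, 1, 1], 1) (by decide +kernel)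
  have p1 := hp (x := 1) (by decide)
  have p2 := hp (x := 2) (by decide)
  have p9 := hp (x := 9) (by decide)
  have p10 := hp (x := 10) (by decide)
  have h1 : π (gL 14) ^ 2 = 1 := by
    have := congrArg π r1
    simp only [List.map_cons, List.map_nil, List.prod_cons, List.prod_nil, mul_one, pow_one, map_mul, map_one, p2] at this
    rw [pow_two]
    exact this
  have h2 : π (gL 14) ^ 3 = 1 := by
    have := congrArg π r2
    simp only [List.map_cons, List.map_nil, List.prod_cons, List.prod_nil, mul_one, one_mul, pow_one, map_mul, map_one, p1, p9,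
      p10] at this
    rw [pow_succ, pow_two, mul_assoc]
    exact this
  have h3 : π (gL 14) = 1 := by
    rw [pow_succ, h1, one_mul] at h2
    exact h2
  have h14 : gL 14 ∈ N := (QuotientGroup.eq_one_iff _).1 h3
  rw [eq_top_iff, ← gL_top]
  unfold Cl
  rw [Subgroup.closure_le]
  rintro _ ⟨x, hx, rfl⟩
  obtain ⟨h4, h5⟩ := isLet_iff.1 (show isLet 15 x = true from hx)
  rcases Nat.lt_or_ge x 14 with h6 | h6
  · exact hm (isLet_iff.2 ⟨h4, by omega⟩)
  · rcases Nat.lt_or_ge x 15 with h7 | h7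
    · have : x = 14 := by omega
      subst this
      exact h14
    · have : x = 15 := by omega
      subst this
      have : gL 15 = (gL 14)⁻¹ := gL_good.inv 14
      rw [this]
      exact inv_mem h14

/-- the points of the nontrivial double cosets are not fixed by `G₂(5)` -/
theorem no_fix {W : List ℕ} (hW : W ∈ Ws) (hW0 : W ≠ []) (hfix : ∀ a : QA, tL a • pt gL (ev gL W) = pt gL (ev gL W)) :
    False := by
  have key : ∀ (A : MulAction QA (Spor.Ly ⧸ Cl gL 13)), (∀ (a : QA) (x : Spor.Ly ⧸ Cl gL 13), a • x = tL a • x) →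
      5859000000 ≤ 1 * Nat.card (stabilizer QA (pt gL (ev gL W))) := by
    intro A hA
    have h1 : stabilizer QA (pt gL (ev gL W)) = ⊤ := by
      rw [eq_top_iff]
      intro a _
      show a • pt gL (ev gL W) = pt gL (ev gL W)
      rw [hA]
      exact hfix a
    rw [h1, Nat.card_congr (Subgroup.topEquiv (G := QA)).toEquiv, card_QA]
  have fin : ∀ cs : List ℕ, Ws.length = cs.length → (∀ (A : MulAction QA (Spor.Ly ⧸ Cl gL 13)),
      (∀ (a : QA) (x : Spor.Ly ⧸ Cl gL 13), a • x = tL a • x) →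
      ∀ p ∈ Ws.zip cs, 5859000000 ≤ p.2 * Nat.card (stabilizer QA (pt gL (ev gL p.1)))) → cs.sum < 8835156 → False := by
    intro cs h1 h2 h3
    have h4 := (index_le gL_good h1 (by decide) (gdA gL_good) h2 gL_top).2
    have h5 : (Cl gL 13).index = 8835156 := index_eq
    omega
  simp only [Ws, List.mem_cons, List.not_mem_nil, or_false] at hW
  rcases hW with rfl | rfl | rfl | rfl | rfl
  · exact hW0 rfl
  · refine fin [1, 1, 968750, 5812500, 2034375] rfl ?_ (by decide)
    intro A hA p hp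
    simp only [Ws, List.zip_cons_cons, List.zip_nil_left, List.mem_cons, List.not_mem_nil, or_false] at hp
    rcases hp with rfl | rfl | rfl | rfl | rfl
    · exact sg0 gL_good A hA
    · exact key A hA
    · exact sg2 gL_good A hA
    · exact sg3 gL_good A hA
    · exact sg4 gL_good A hA
  · refine fin [1, 19530, 1, 5812500, 2034375] rfl ?_ (by decide)
    intro A hA p hp
    simp only [Ws, List.zip_cons_cons, List.zip_nil_left, List.mem_cons, List.not_mem_nil, or_false] at hp
    rcases hp with rfl | rfl | rfl | rfl | rfl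
    · exact sg0 gL_good A hA
    · exact sg1 gL_good A hA
    · exact key A hA
    · exact sg3 gL_good A hA
    · exact sg4 gL_good A hA
  · refine fin [1, 19530, 968750, 1, 2034375] rfl ?_ (by decide)
    intro A hA p hp
    simp only [Ws, List.zip_cons_cons, List.zip_nil_left, List.mem_cons, List.not_mem_nil, or_false] at hp
    rcases hp with rfl | rfl | rfl | rfl | rfl
    · exact sg0 gL_good A hA
    · exact sg1 gL_good A hA
    · exact sg2 gL_good A hA
    · exact key A hA
    · exact sg4 gL_good A hA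
  · refine fin [1, 19530, 968750, 5812500, 1] rfl ?_ (by decide)
    intro A hA p hp
    simp only [Ws, List.zip_cons_cons, List.zip_nil_left, List.mem_cons, List.not_mem_nil, or_false] at hp
    rcases hp with rfl | rfl | rfl | rfl | rfl
    · exact sg0 gL_good A hA
    · exact sg1 gL_good A hA
    · exact sg2 gL_good A hA
    · exact sg3 gL_good A hA
    · exact key A hA

theorem center_le : Subgroup.center Spor.Ly ≤ HG := by
  intro k hk
  rw [Subgroup.mem_center_iff] at hk
  obtain ⟨W, hW, a, ha⟩ := cover (hg := gL_good) (by decide) (gdA gL_good) gL_top k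
  by_cases hW0 : W = []
  · subst hW0
    have hta : tL a ∈ HG := th_mem gL_good a
    have h1 : k = k * (ev gL [] * tL a)⁻¹ * (ev gL [] * tL a) := by rw [inv_mul_cancel_right]
    rw [h1]
    refine mul_mem ha ?_
    rw [show ev gL [] = 1 from rfl, one_mul]
    exact hta
  · exfalso
    have hk1 : ∀ b : QA, tL b • pt gL k = pt gL k := by
      intro b
      rw [smul_pt, pt_eq, ← hk, mul_assoc, mul_inv_cancel, mul_one]
      exact th_mem gL_good _
    have h1 : pt gL k = pt gL (ev gL W * tL a) := pt_eq.2 ha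
    have h2 : pt gL (ev gL W) = pt gL k := by
      rw [← hk1 a, h1, smul_pt, map_inv, mul_assoc, mul_inv_cancel, mul_one]
    refine no_fix hW hW0 fun b => ?_
    rw [h2]
    exact hk1 b

theorem arith (r a b : ℕ) (hr : r.Prime) (h : r ^ a ∣ 8835156) (hb : b ≤ a) (hm : r ^ b ≡ r ^ a [MOD 31]) : b = a := by
  rcases Nat.eq_zero_or_pos a with rfl | ha
  · omega
  · have h1 : r ∣ 8835156 := (dvd_pow_self r (by omega)).trans h
    have h2 : 8835156 = 2 ^ 2 * 3 ^ 4 * 11 * 37 * 67 := by norm_num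
    rw [h2, hr.dvd_mul, hr.dvd_mul, hr.dvd_mul, hr.dvd_mul] at h1
    have h3 : r = 2 ∨ r = 3 ∨ r = 11 ∨ r = 37 ∨ r = 67 := by
      rcases h1 with (((h1 | h1) | h1) | h1) | h1
      · exact Or.inl ((Nat.prime_dvd_prime_iff_eq hr (by norm_num)).1 (hr.dvd_of_dvd_pow h1))
      · exact Or.inr (Or.inl ((Nat.prime_dvd_prime_iff_eq hr (by norm_num)).1 (hr.dvd_of_dvd_pow h1)))
      · exact Or.inr (Or.inr (Or.inl ((Nat.prime_dvd_prime_iff_eq hr (by norm_num)).1 h1)))
      · exact Or.inr (Or.inr (Or.inr (Or.inl ((Nat.prime_dvd_prime_iff_eq hr (by norm_num)).1 h1))))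
      · exact Or.inr (Or.inr (Or.inr (Or.inr ((Nat.prime_dvd_prime_iff_eq hr (by norm_num)).1 h1))))
    have key : ∀ {p c : ℕ}, r = p → ¬ p ^ (c + 1) ∣ 8835156 → a ≤ c := by
      intro p c h4 h5
      subst h4
      by_contra h6
      exact h5 ((pow_dvd_pow r (by omega)).trans h)
    rcases h3 with h3 | h3 | h3 | h3 | h3
    · have h4 := key (c := 2) h3 (by norm_num)
      subst h3
      interval_cases a <;> interval_cases b <;> first | rfl | (exfalso; revert hm; decide)
    · have h4 := key (c := 4) h3 (by norm_num)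
      subst h3
      interval_cases a <;> interval_cases b <;> first | rfl | (exfalso; revert hm; decide)
    · have h4 := key (c := 1) h3 (by norm_num)
      subst h3
      interval_cases a <;> interval_cases b <;> first | rfl | (exfalso; revert hm; decide)
    · have h4 := key (c := 1) h3 (by norm_num)
      subst h3
      interval_cases a <;> interval_cases b <;> first | rfl | (exfalso; revert hm; decide)
    · have h4 := key (c := 1) h3 (by norm_num)
      subst h3
      interval_cases a <;> interval_cases b <;> first | rfl | (exfalso; revert hm; decide)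

theorem simple_Ly : IsSimpleGroup Spor.Ly := by
  haveI := finite_Ly
  haveI : Fact (Nat.Prime 31) := ⟨by norm_num⟩
  obtain ⟨x, hx⟩ := exists_prime_orderOf_dvd_card' (G := HG) 31 (by rw [card_HG]; norm_num)
  refine simple_of_sub HG HG_simple (q := 31) (x : Spor.Ly) x.2 (by rw [Subgroup.orderOf_coe]; exact hx) ?_ ?_ normal_top
    center_le
  · rw [index_eq]
    norm_num
  · rw [index_eq]
    exact arith

/-- **The presented group is the Lyons group.** -/
theorem isLy_Ly : Cfsg.IsLy Spor.Ly := ⟨simple_Ly, card_Ly⟩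

/-- letters of the subgroup of the statements -/
theorem sub_eq : ((Subgroup.closure ({Cfsg.Spor.Ly.a, Cfsg.Spor.Ly.b, Cfsg.Spor.Ly.c, Cfsg.Spor.Ly.d} :
    Set (FreeGroup Cfsg.Spor.Ly.Gen))).map (PresentedGroup.mk (Cfsg.Spor.coxRelators Cfsg.Spor.Ly.edges ∪
      {r | r ∈ Cfsg.Spor.Ly.extra}))) = HG := by
  apply le_antisymm
  · rw [Subgroup.map_le_iff_le_comap, Subgroup.closure_le]
    rintro _ (rfl | rfl | rfl | rfl)
    · exact mem_Cl gL (x := 1) (by decide)
    · exact mem_Cl gL (x := 9) (by decide)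
    · exact mem_Cl gL (x := 7) (by decide)
    · exact mem_Cl gL (x := 11) (by decide)
  · set S := (Subgroup.closure ({Cfsg.Spor.Ly.a, Cfsg.Spor.Ly.b, Cfsg.Spor.Ly.c, Cfsg.Spor.Ly.d} :
      Set (FreeGroup Cfsg.Spor.Ly.Gen))).map (PresentedGroup.mk (Cfsg.Spor.coxRelators Cfsg.Spor.Ly.edges ∪
        {r | r ∈ Cfsg.Spor.Ly.extra})) with hS
    have m1 : gL 1 ∈ S := ⟨Cfsg.Spor.Ly.a, Subgroup.subset_closure (by simp), rfl⟩
    have m9 : gL 9 ∈ S := ⟨Cfsg.Spor.Ly.b, Subgroup.subset_closure (by simp), rfl⟩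
    have m7 : gL 7 ∈ S := ⟨Cfsg.Spor.Ly.c, Subgroup.subset_closure (by simp), rfl⟩
    have m11 : gL 11 ∈ S := ⟨Cfsg.Spor.Ly.d, Subgroup.subset_closure (by simp), rfl⟩
    have m2 : gL 2 ∈ S := inv_mem m1
    have m10 : gL 10 ∈ S := inv_mem m9
    have m8 : gL 8 ∈ S := inv_mem m7
    have m12 : gL 12 ∈ S := inv_mem m11
    have r3 := gL_good.rel ([4, 9, 1, 10], 1) (by decide +kernel)
    have r5 := gL_good.rel ([6, 9, 3, 10], 1) (by decide +kernel)
    have i4 : gL 4 = (gL 3)⁻¹ := rfl
    have i6 : gL 6 = (gL 5)⁻¹ := rfl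
    simp only [pow_one, List.map_cons, List.map_nil, List.prod_cons, List.prod_nil, mul_one, i4, i6] at r3 r5
    rw [inv_mul_eq_one] at r3 r5
    have m3 : gL 3 ∈ S := by rw [r3]; exact mul_mem m9 (mul_mem m1 m10)
    have m5 : gL 5 ∈ S := by rw [r5]; exact mul_mem m9 (mul_mem m3 m10)
    have m4 : gL 4 ∈ S := inv_mem m3
    have m6 : gL 6 ∈ S := inv_mem m5
    have m13 : gL 13 ∈ S := by
      have r13 := gL_good.rel ([13, 12, 8, 12, 9, 2, 10, 8, 12, 2, 8, 1, 8, 2, 7, 1, 9, 9], 1) (by decide +kernel)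
      rw [pow_one, List.map_cons, List.prod_cons, mul_eq_one_iff_eq_inv] at r13
      rw [r13]
      apply inv_mem
      apply list_prod_mem
      intro y hy
      rw [List.mem_map] at hy
      obtain ⟨x, hx, rfl⟩ := hy
      simp only [List.mem_cons, List.not_mem_nil, or_false] at hx
      rcases hx with rfl | rfl | rfl | rfl | rfl | rfl | rfl | rfl | rfl | rfl | rfl | rfl | rfl | rfl | rfl | rfl | rfl <;>
        assumption
    show Cl gL 13 ≤ S
    unfold Cl
    rw [Subgroup.closure_le]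
    rintro _ ⟨x, hx, rfl⟩
    obtain ⟨h4, h5⟩ := isLet_iff.1 (show isLet 13 x = true from hx)
    show gL x ∈ S
    interval_cases x <;> assumption

end Cfsg.Agent.LyG
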