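import Cfsg.Agent.CosetEnum.Ly.ChData

/-!
Relations of the matrices of the `p`-subgroups, part 0 (owner: helper66).
-/

set_option autoImplicit false
set_option maxRecDepth 1000000

namespace Cfsg.Agent.LyG

open Cfsg.Agent.CosetEnum Cfsg.Agent.KMat

theorem pc0 : allR (prB PM ms2 prsG) 0 3 = true := by decide +kernel

theorem pc3 : allR (prB PM ms2 prsG) 3 3 = true := by decide +kernel

theorem pc6 : allR (prB PM ms2 prsG) 6 3 = true := by decide +kernel

theorem pc9 : allR (prB PM ms2 prsG) 9 3 = true := by decide +kernel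

theorem pc12 : allR (prB PM ms2 prsG) 12 3 = true := by decide +kernel

theorem pc15 : allR (prB PM ms2 prsG) 15 3 = true := by decide +kernel

theorem pcv0 : Cov (prB PM ms2 prsG) 0 18 :=
  ((((((Cov.of pc0 rfl).trans (Cov.of pc3 rfl)).trans (Cov.of pc6 rfl)).trans (Cov.of pc9 rfl)).trans (Cov.of pc12 rfl)).trans (Cov.of pc15 rfl))

end Cfsg.Agent.LyG
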