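import Cfsg.Agent.CosetEnum.Ly.ChData

/-!
Relations of the matrices of the `p`-subgroups, part 1 (owner: helper66).
-/

set_option autoImplicit false
set_option maxRecDepth 1000000

namespace Cfsg.Agent.LyG

open Cfsg.Agent.CosetEnum Cfsg.Agent.KMat

theorem pc18 : allR (prB PM ms2 prsG) 18 3 = true := by decide +kernel

theorem pc21 : allR (prB PM ms2 prsG) 21 3 = true := by decide +kernel

theorem pc24 : allR (prB PM ms2 prsG) 24 3 = true := by decide +kernel

theorem pc27 : allR (prB PM ms2 prsG) 27 3 = true := by decide +kernel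

theorem pc30 : allR (prB PM ms2 prsG) 30 3 = true := by decide +kernel

theorem pc33 : allR (prB PM ms2 prsG) 33 3 = true := by decide +kernel

theorem pcv1 : Cov (prB PM ms2 prsG) 18 36 :=
  ((((((Cov.of pc18 rfl).trans (Cov.of pc21 rfl)).trans (Cov.of pc24 rfl)).trans (Cov.of pc27 rfl)).trans (Cov.of pc30 rfl)).trans (Cov.of pc33 rfl))

end Cfsg.Agent.LyG
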