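import Cfsg.Agent.CosetEnum.Ly.ChData

/-!
Relations of the matrices of the `p`-subgroups, part 3 (owner: helper66).
-/

set_option autoImplicit false
set_option maxRecDepth 1000000

namespace Cfsg.Agent.LyG

open Cfsg.Agent.CosetEnum Cfsg.Agent.KMat

theorem pc54 : allR (prB PM ms2 prsG) 54 3 = true := by decide +kernel

theorem pc57 : allR (prB PM ms2 prsG) 57 3 = true := by decide +kernel

theorem pc60 : allR (prB PM ms2 prsG) 60 3 = true := by decide +kernel

theorem pc63 : allR (prB PM ms2 prsG) 63 3 = true := by decide +kernel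

theorem pc66 : allR (prB PM ms2 prsG) 66 3 = true := by decide +kernel

theorem pc69 : allR (prB PM ms2 prsG) 69 3 = true := by decide +kernel

theorem pcv3 : Cov (prB PM ms2 prsG) 54 72 :=
  ((((((Cov.of pc54 rfl).trans (Cov.of pc57 rfl)).trans (Cov.of pc60 rfl)).trans (Cov.of pc63 rfl)).trans (Cov.of pc66 rfl)).trans (Cov.of pc69 rfl))

end Cfsg.Agent.LyG
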