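import Cfsg.Agent.CosetEnum.Ly.ChData

/-!
Relations of the matrices of the `p`-subgroups, part 4 (owner: helper66).
-/

set_option autoImplicit false
set_option maxRecDepth 1000000

namespace Cfsg.Agent.LyG

open Cfsg.Agent.CosetEnum Cfsg.Agent.KMat

theorem pc72 : allR (prB PM ms2 prsG) 72 3 = true := by decide +kernel

theorem pc75 : allR (prB PM ms2 prsG) 75 3 = true := by decide +kernel

theorem pc78 : allR (prB PM ms2 prsG) 78 3 = true := by decide +kernel

theorem pc81 : allR (prB PM ms2 prsG) 81 3 = true := by decide +kernel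

theorem pc84 : allR (prB PM ms2 prsG) 84 3 = true := by decide +kernel

theorem pc87 : allR (prB PM ms2 prsG) 87 3 = true := by decide +kernel

theorem pcv4 : Cov (prB PM ms2 prsG) 72 90 :=
  ((((((Cov.of pc72 rfl).trans (Cov.of pc75 rfl)).trans (Cov.of pc78 rfl)).trans (Cov.of pc81 rfl)).trans (Cov.of pc84 rfl)).trans (Cov.of pc87 rfl))

end Cfsg.Agent.LyG
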