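import Cfsg.Agent.CosetEnum.Ly.ChData

/-!
Relations of the matrices of the `p`-subgroups, part 5 (owner: helper66).
-/

set_option autoImplicit false
set_option maxRecDepth 1000000

namespace Cfsg.Agent.LyG

open Cfsg.Agent.CosetEnum Cfsg.Agent.KMat

theorem pc90 : allR (prB PM ms2 prsG) 90 3 = true := by decide +kernel

theorem pc93 : allR (prB PM ms2 prsG) 93 3 = true := by decide +kernel

theorem pc96 : allR (prB PM ms2 prsG) 96 3 = true := by decide +kernel

theorem pc99 : allR (prB PM ms2 prsG) 99 3 = true := by decide +kernel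

theorem pc102 : allR (prB PM ms2 prsG) 102 3 = true := by decide +kernel

theorem pc105 : allR (prB PM ms2 prsG) 105 3 = true := by decide +kernel

theorem pcv5 : Cov (prB PM ms2 prsG) 90 108 :=
  ((((((Cov.of pc90 rfl).trans (Cov.of pc93 rfl)).trans (Cov.of pc96 rfl)).trans (Cov.of pc99 rfl)).trans (Cov.of pc102 rfl)).trans (Cov.of pc105 rfl))

end Cfsg.Agent.LyG
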