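import Cfsg.Agent.CosetEnum.Ly.Phi
import Cfsg.Agent.CosetEnum.Ly.PR0
import Cfsg.Agent.CosetEnum.Ly.PR1
import Cfsg.Agent.CosetEnum.Ly.PR2
import Cfsg.Agent.CosetEnum.Ly.PR3
import Cfsg.Agent.CosetEnum.Ly.PR4
import Cfsg.Agent.CosetEnum.Ly.PR5
import Cfsg.Agent.CosetEnum.Ly.PR6

/-!
The order of the Lyons group is divisible by 2^8 3^7 11 37 67 (owner: helper66).
-/

set_option autoImplicit false
set_option maxRecDepth 1000000
set_option linter.all false

namespace Cfsg.Agent.LyG

open Cfsg.Agent.CosetEnum Cfsg.Agent.KMat Cfsg.Spor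

theorem pcov : Cov (prB PM ms2 prsG) 0 111 := ((((((pcv0.trans pcv1).trans pcv2).trans pcv3).trans pcv4).trans pcv5).trans pcv6)

theorem mokB : matB PM ms2 (List.range' 1 33) = true := by decide +kernel

theorem mok2 {x : ℕ} (h : 1 ≤ x ∧ x ≤ 33) : MatOK PM (ms2 x) := by
  refine matB_sound mokB x ?_
  rw [List.mem_range'_1]
  omega

theorem ms2_low {x : ℕ} (h : x ≤ 15) : ms2 x = ms x := by
  interval_cases x <;> rfl

/-- the units -/
noncomputable def Ug (x : ℕ) : MU := if x ≤ 15 then RT.gm x else ev RT.gm (gw x)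

/-- the letters of the matrices -/
def letsA : List ℕ := List.range' 1 33

theorem gw_ok : (List.range' 16 18).all (fun x => (gw x).all (fun y => Nat.ble 1 y && Nat.ble y 15)) = true := by decide +kernel

theorem gw_ok' {x : ℕ} (h : 16 ≤ x ∧ x ≤ 33) : ∀ y ∈ gw x, 1 ≤ y ∧ y ≤ 15 := by
  intro y hy
  have := (List.all_eq_true.1 ((List.all_eq_true.1 gw_ok) x (by rw [List.mem_range'_1]; omega))) y hy
  rw [Bool.and_eq_true] at this
  exact ⟨Nat.le_of_ble_eq_true this.1, Nat.le_of_ble_eq_true this.2⟩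

theorem mem_prsW {x : ℕ} (h : 16 ≤ x ∧ x ≤ 33) : ([x], gw x) ∈ prsG := by
  have h1 : (List.range' 16 18).all (fun x => prsG.contains ([x], gw x)) = true := by decide +kernel
  have h2 := (List.all_eq_true.1 h1) x (by rw [List.mem_range'_1]; omega)
  simpa using h2

theorem wm_low {u : List ℕ} (h : ∀ x ∈ u, 1 ≤ x ∧ x ≤ 15) : wm PM ms2 u = wm PM ms u := by
  unfold wm
  congr 1
  apply List.map_congr_left
  intro x hx
  rw [ms2_low (h x hx).2]

theorem Ug_val {x : ℕ} (h : 1 ≤ x ∧ x ≤ 33) :
    ((Ug x : MU) : Matrix (Fin PM.n) (Fin PM.n) (ZMod PM.p)) = mat PM (ms2 x) := by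
  unfold Ug
  split
  · rename_i h1
    rw [ms2_low h1]
    exact RT.gm_val (memM.2 (isLet_iff.2 ⟨h.1, h1⟩))
  · rename_i h1
    have h2 := gw_ok' (x := x) (by omega)
    have h3 := wm_eq PM_ok (by show 1 < 5; norm_num) pcov (p := ([x], gw x)) (mem_prsW (by omega)) (by
      intro z hz
      simp only [List.mem_cons, List.not_mem_nil, or_false] at hz
      subst hz
      exact mok2 (by omega)) (by
      intro z hz
      have := h2 z hz
      exact mok2 (by omega))
    have h4 : wm PM ms2 [x] = mat PM (ms2 x) := by simp [wm]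
    rw [← h4, h3]
    show _ = wm PM ms2 (gw x)
    rw [wm_low h2, ev, RT.gm_word (fun y hy => memM.2 (isLet_iff.2 (h2 y hy)))]

theorem FG : Fam PM ms2 letsA Ug where
  ok := PM_ok
  p1 := by show 1 < 5; norm_num
  mok x hx := mok2 (by rw [letsA, List.mem_range'_1] at hx; omega)
  val x hx := Ug_val (by rw [letsA, List.mem_range'_1] at hx; omega)

theorem rgm (x : ℕ) : RT.gm x ∈ phi.range := ⟨gL x, phi_gL x⟩

theorem rgU (x : ℕ) : Ug x ∈ phi.range := by
  unfold Ug
  split
  · exact rgm x
  · unfold ev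
    apply list_prod_mem
    intro z hz
    obtain ⟨y, _, rfl⟩ := List.mem_map.1 hz
    exact rgm y

theorem finMU : Finite MU := by
  have h2 : NeZero PM.p := ⟨by show (5 : ℕ) ≠ 0; norm_num⟩
  have h3 : Finite (ZMod PM.p) := inferInstance
  have h1 : Finite (Matrix (Fin PM.n) (Fin PM.n) (ZMod PM.p)) := by
    unfold Matrix
    infer_instance
  exact inferInstance

theorem finR : Finite phi.range := by
  haveI := finMU
  infer_instance

theorem e0_vec : Vec PM 1 := by
  have := basis_vec (P := PM) (i := 0) (by show 1 < 5; norm_num) (by show 0 < 111; norm_num)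
  simpa using this

theorem vec_of {v : ℕ} (h1 : Nat.ble (Nat.succ v) (Nat.pow 2 (12 * 111)) = true)
    (h2 : (List.range 111).all (fun i => Nat.ble (Nat.succ (dig 12 v i)) 5) = true) : Vec PM v := by
  refine ⟨dig 12 v, fun i hi => ?_, ?_⟩
  · exact Nat.le_of_ble_eq_true ((List.all_eq_true.1 h2) i (List.mem_range.2 hi))
  · exact (S_of_lt (w := 12) (x := v) (k := 111) (Nat.le_of_ble_eq_true h1)).symm

theorem fv3_vec : Vec PM fv3 := vec_of (by decide +kernel) (by decide +kernel)

theorem fv2_vec : Vec PM fv2 := vec_of (by decide +kernel) (by decide +kernel)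

theorem d31 : dstB PM ms2 fv3 (pws 3 [20, 21, 22]) = true := by decide +kernel

theorem d30 : dstB PM ms2 1 (pws 3 [16, 17, 18, 19]) = true := by decide +kernel

theorem d21 : dstB PM ms2 fv2 (pws 2 [27, 28, 29, 30]) = true := by decide +kernel

theorem d20 : dstB PM ms2 1 (pws 2 [23, 24, 25, 26]) = true := by decide +kernel

theorem pch3 : pchB prsC3 3 ([16, 17, 18, 19] ++ [20, 21, 22]).reverse = true := by decide +kernel

theorem pch2 : pchB prsC2 2 ([23, 24, 25, 26] ++ [27, 28, 29, 30]).reverse = true := by decide +kernel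

theorem memC3 {r : List ℕ × List ℕ} (h : r ∈ prsC3) : r ∈ prsG := by
  unfold prsG
  exact List.mem_append_right _ (List.mem_append_left _ h)

theorem memC2 {r : List ℕ × List ℕ} (h : r ∈ prsC2) : r ∈ prsG := by
  unfold prsG
  exact List.mem_append_right _ (List.mem_append_right _ (List.mem_append_left _ h))

theorem memP {r : List ℕ × List ℕ} (h : r ∈ prsP) : r ∈ prsG := by
  unfold prsG
  exact List.mem_append_right _ (List.mem_append_right _ (List.mem_append_right _ h))

theorem ltC3 : prsC3.all (fun r => r.1.all (fun x => letsA.contains x) && r.2.all (fun x => letsA.contains x)) = true := by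
  decide +kernel

theorem ltC2 : prsC2.all (fun r => r.1.all (fun x => letsA.contains x) && r.2.all (fun x => letsA.contains x)) = true := by
  decide +kernel

theorem fx3 : [16, 17, 18, 19].all (fun x => Nat.beq (walk PM ms2 [x] fv3) fv3) = true := by decide +kernel

theorem fx2 : [23, 24, 25, 26].all (fun x => Nat.beq (walk PM ms2 [x] fv2) fv2) = true := by decide +kernel

theorem dvd3 : 3 ^ 7 ∣ Nat.card phi.range := by
  haveI : Fact (Nat.Prime 3) := ⟨by norm_num⟩
  exact FG.dvd' (p := 3) (l0 := [16, 17, 18, 19]) (l1 := [20, 21, 22]) pcov (rels := prsC3) (fun _ h => memC3 h) ltC3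
    (by decide +kernel) (by decide +kernel) fv3_vec e0_vec fx3 d31 d30 pch3 (fun x _ => rgU x) finR rfl

theorem dvd2 : 2 ^ 8 ∣ Nat.card phi.range := by
  haveI : Fact (Nat.Prime 2) := ⟨by norm_num⟩
  exact FG.dvd' (p := 2) (l0 := [23, 24, 25, 26]) (l1 := [27, 28, 29, 30]) pcov (rels := prsC2) (fun _ h => memC2 h) ltC2
    (by decide +kernel) (by decide +kernel) fv2_vec e0_vec fx2 d21 d20 pch2 (fun x _ => rgU x) finR rfl

theorem dvdP {p x : ℕ} (hp : p.Prime) (hx : letsA.contains x = true) (hr : (List.replicate p x, []) ∈ prsP)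
    (hmv : Nat.beq (walk PM ms2 [x] 1) 1 = false) : p ∣ Nat.card phi.range := by
  haveI := finR
  haveI : Fact p.Prime := ⟨hp⟩
  have hx' : x ∈ letsA := by simpa using hx
  have h1 := FG.rel pcov (memP hr) (by
    intro y hy
    rw [List.eq_of_mem_replicate hy]
    exact hx') (by simp)
  have h2 : Ug x ^ p = 1 := by simpa using h1
  have h3 : Ug x ≠ 1 := by
    intro h
    have h4 := (FG.walk_eq (u := [x]) (u' := []) (by
      intro y hy
      rw [List.mem_singleton] at hy
      subst hy
      exact hx') (by simp) e0_vec).2 (by simp [h])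
    rw [h4, walk_nil] at hmv
    simp at hmv
  have h4 : orderOf (Ug x) = p := orderOf_eq_prime h2 h3
  have h6 : orderOf (⟨Ug x, rgU x⟩ : phi.range) = p := by
    rw [← h4]
    exact Subgroup.orderOf_mk _ _
  rw [← h6]
  exact orderOf_dvd_natCard _

theorem dvd37 : 37 ∣ Nat.card phi.range :=
  dvdP (x := 31) (by norm_num) (by decide +kernel) (by decide +kernel) (by decide +kernel)

theorem dvd67 : 67 ∣ Nat.card phi.range :=
  dvdP (x := 32) (by norm_num) (by decide +kernel) (by decide +kernel) (by decide +kernel)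

theorem dvd11 : 11 ∣ Nat.card phi.range :=
  dvdP (x := 33) (by norm_num) (by decide +kernel) (by decide +kernel) (by decide +kernel)

/-- the order is divisible by 2^8 3^7 11 37 67 -/
theorem dvd_card : 2 ^ 8 * 3 ^ 7 * 11 * 37 * 67 ∣ Nat.card Spor.Ly := by
  have h1 : Nat.card phi.range ∣ Nat.card Spor.Ly := Subgroup.card_range_dvd phi
  refine dvd_trans ?_ h1
  refine Nat.Coprime.mul_dvd_of_dvd_of_dvd (by norm_num) ?_ dvd67
  refine Nat.Coprime.mul_dvd_of_dvd_of_dvd (by norm_num) ?_ dvd37
  refine Nat.Coprime.mul_dvd_of_dvd_of_dvd (by norm_num) ?_ dvd11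
  exact Nat.Coprime.mul_dvd_of_dvd_of_dvd (by norm_num) dvd2 dvd3

end Cfsg.Agent.LyG
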