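import Cfsg.Agent.CosetEnum.Ly.PT0
import Cfsg.Agent.CosetEnum.Ly.PT1
import Cfsg.Agent.CosetEnum.Ly.PT2
import Cfsg.Agent.CosetEnum.Ly.PT3

/-! Certificate of a coset enumeration (generated data, owner: helper66). -/

set_option autoImplicit false
set_option maxRecDepth 1000000

namespace Cfsg.Agent.CosetEnum.LYP

noncomputable def tab : T := (.n 2560 (.n 1280 tab0 tab1) (.n 3840 tab2 tab3))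

def lw : WT := .n 114 (.n 57 (.n 28 (.n 14 (.n 7 (.n 3 (.n 1 (.l [3,1,1,4,2,2] []) (.n 2 (.l [4,2,2,3,1,1] []) (.l [6,1,1,6,6,2,2] []))) (.n 5 (.n 4 (.l [6,4,6,3,3,5,5,3,5,4,4,6] []) (.l [2,2,3,1,1,4] [])) (.n 6 (.l [6,2,2,6,1,1,6] []) (.l [4,2,4,6,3,1,4,6,6,3,5,3,5] [])))) (.n 10 (.n 8 (.l [1,5,5,2,2,5,1] []) (.n 9 (.l [5,5,5,5,5] []) (.l [6,6,2,2,6,1,1] []))) (.n 12 (.n 11 (.l [2,2,4,1,1,3] []) (.l [4,4,5,3,3,5,4,6,2,6,1,5,2,5,1,4,6,3,3,6] [])) (.n 13 (.l [5,2,6,1,4,6,3,3,5,4,5,3,5,4,2,3,6,4,1] []) (.l [3,5,4,5,3,6,2,6,1,5,2,5,1,6,2,6,1,5,2,5,1,6,4,6] []))))) (.n 21 (.n 17 (.n 15 (.l [1,1,3,2,2,4] []) (.n 16 (.l [4,2,6,1,3,6,4,2,5,1,3,5] []) (.l [4,1,3,6,4,6,3,6,4,4,5,3,2,5,1,6,2,3,5]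 []))) (.n 19 (.n 18 (.l [4,1,1,3,2,2] []) (.l [6,3,3,5,5,3,5,4,4,6,6,4] [])) (.n 20 (.l [4,4,6,6,4,6,3,3,5,5,3,5] []) (.l [5,2,6,1,6,2,5,1,5,2,6,1,6,2,5,1,5,4,6,3,6,4,5,3] [])))) (.n 24 (.n 22 (.l [6,3,1,4,6,6,3,5,3,5,4,2,4] []) (.n 23 (.l [1,4,6,6,3,5,3,5,4,2,4,6,3] []) (.l [5,1,1,5,5,2,2] []))) (.n 26 (.n 25 (.l [3,2,2,4,1,1] []) (.l [3,3,3,3,3] [])) (.n 27 (.l [1,3,2,2,4,1] []) (.l [5,3,5,4,2,4,6,3,1,4,6,6,3] [])))))) (.n 42 (.n 35 (.n 31 (.n 29 (.l [5,4,2,6,1,3,6,4,2,5,1,3] []) (.n 30 (.l [1,1,5,5,2,2,5] []) (.l [3,6,4,6,6,4,4,5,3,5,5,3] []))) (.n 33 (.n 32 (.l [2,2,6,1,1,6,6] []) (.l [4,5,3,5,4,4,6,3,2,6,1,4,2,5,1,3,3,5] [])) (.n 34 (.l [2,5,1,6,2,6,1,6,2,5,1,5,2,6,1,5]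 []) (.l [5,4,4,6,6,4,6,3,3,5,5,3] [])))) (.n 38 (.n 36 (.l [4,4,4,4,4] []) (.n 37 (.l [2,3,6,4,1,5,2,6,1,4,6,3,3,5,4,5,3,5,4] []) (.l [5,6,2,6,1,5,2,5,1,6,2,6,1,5,2,5,1,3,6,4,6,3,5,4] []))) (.n 40 (.n 39 (.l [4,2,5,1,3,5,4,2,6,1,3,6] []) (.l [5,4,1,3,6,4,6,3,6,4,4,5,3,2,5,1,6,2,3] [])) (.n 41 (.l [6,4,6,4,5,5,3,2,4,5,3,1,3] []) (.l [5,5,3,3,6,4,6,6,4,4,5,3] []))))) (.n 49 (.n 45 (.n 43 (.l [4,6,2,6,1,5,2,5,1,3,2,6,1,6,2,5,1,5] []) (.n 44 (.l [2,5,1,3,3,5,4,5,3,5,4,4,6,3,2,6,1,4] []) (.l [1,1,4,2,2,3] []))) (.n 47 (.n 46 (.l [5,5,3,5,4,4,6,6,4,6,3,3] []) (.l [6,4,6,6,4,4,5,3,5,5,3,3] [])) (.n 48 (.l [3,3,5,5,3,5,4,4,6,6,4,6] []) (.l [6,1,6,2,5,1,6,2,6,1,5,2,5,1,5,2] [])))) (.n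 53 (.n 51 (.n 50 (.l [4,5,3,5,5,3,3,6,4,6,6,4] []) (.l [5,5,2,2,5,1,1] [])) (.n 52 (.l [4,6,6,4,6,3,3,5,5,3,5,4] []) (.l [3,5,4,1,3,6,4,6,3,6,4,4,5,3,2,5,1,6,2] []))) (.n 55 (.n 54 (.l [4,2,4,2,4,2,4,2] []) (.l [5,1,3,2,6,1,6,2,5,1,5,4,6,2,6,1,5,2] [])) (.n 56 (.l [6,6,6,6,6] []) (.l [4,5,5,3,2,4,5,3,1,3,6,4,6] []))))))) (.n 85 (.n 71 (.n 64 (.n 60 (.n 58 (.l [1,4,2,2,3,1] []) (.n 59 (.l [3,5,4,2,5,1,3,6,4,2,6,1] []) (.l [2,2,5,1,1,5,5] []))) (.n 62 (.n 61 (.l [3,1,4,6,6,3,5,3,5,4,2,4,6] []) (.l [3,1,3,6,4,6,4,5,5,3,2,4,5] [])) (.n 63 (.l [5,2,2,5,1,1,5] []) (.l [4,5,3,1,3,6,4,6,4,5,5,3,2] [])))) (.n 67 (.n 65 (.l [5,3,1,3,6,4,6,4,5,5,3,2,4] []) (.n 66 (.l [3,3,5,4,5,3,5,4,4,6,3,2,6,1,4,2,5,1]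 []) (.l [3,5,4,4,6,6,4,6,3,3,5,5] []))) (.n 69 (.n 68 (.l [4,2,6,1,6,2,5,1,5,3,6,2,6,1,5,2,5,1] []) (.l [5,4,4,6,3,2,6,1,4,2,5,1,3,3,5,4,5,3] [])) (.n 70 (.l [3,5,4,2,6,1,3,6,4,2,5,1] []) (.l [2,5,1,5,2,6,1,5,2,5,1,6,2,6,1,6] []))))) (.n 78 (.n 74 (.n 72 (.l [6,1,3,2,5,1,4,5,3,3,6,4,6,3,6,4,4,2] []) (.n 73 (.l [3,2,5,1,4,5,3,3,6,4,6,3,6,4,4,2,6,1] []) (.l [5,1,2,6,6,1,6,2,5,1,5,2,5,1,6,2,6,1,5,2] []))) (.n 76 (.n 75 (.l [4,5,3,2,6,1,6,2,5,1,5,3,6,4,4,6,3,3,5,4] []) (.l [6,1,5,2,5,1,6,2,6,1,6,2,5,1,5,2] [])) (.n 77 (.l [1,3,6,4,2,5,1,3,5,4,2,6] []) (.l [1,3,1,3,1,3,1,3] [])))) (.n 81 (.n 79 (.l [4,4,5,3,5,5,3,3,6,4,6,6] []) (.n 80 (.l [6,2,5,1,5,4,6,2,6,1,5,2,5,1,3,2,6,1] [])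 (.l [6,4,2,5,1,3,5,4,2,6,1,3] []))) (.n 83 (.n 82 (.l [5,1,3,5,4,2,6,1,3,6,4,2] []) (.l [2,5,1,3,5,4,2,6,1,3,6,4] [])) (.n 84 (.l [1,6,2,6,1,5,2,5,5,1,2,6,1,6,2,5,1,5,2,6] []) (.l [4,2,6,1,3,5,4,2,5,1,3,6] [])))))) (.n 99 (.n 92 (.n 88 (.n 86 (.l [6,4,2,6,1,3,5,4,2,5,1,3] []) (.n 87 (.l [4,6,3,2,6,1,4,5,3,2,5,1,2,6,1,6,2,5,1,5] []) (.l [1,3,2,5,1,4,5,3,3,6,4,6,3,6,4,4,2,6] []))) (.n 90 (.n 89 (.l [6,2,6,1,5,2,5,1,6,2,6,1,5,2,5,1,6,4,6,3,5,4,5,3] []) (.l [4,5,6,2,6,1,5,2,5,1,6,2,6,1,5,2,5,1,3,6,4,6,3,5] [])) (.n 91 (.l [6,2,6,1,6,2,5,1,5,2,6,1,5,2,5,1] []) (.l [3,2,4,5,3,1,3,6,4,6,4,5,5] [])))) (.n 95 (.n 93 (.l [6,1,4,2,5,1,3,3,5,4,5,3,5,4,4,6,3,2] []) (.n 94 (.l [5,2,5,5,1,2,6,1,6,2,5,1,5,2,6,1,6,2,6,1]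 []) (.l [6,4,6,3,6,4,4,5,3,2,5,1,6,2,3,5,4,1,3] []))) (.n 97 (.n 96 (.l [5,4,5,3,6,2,6,1,5,2,5,1,6,2,6,1,5,2,5,1,6,4,6,3] []) (.l [3,5,5,3,3,6,4,6,6,4,4,5] [])) (.n 98 (.l [5,3,2,5,1,2,6,1,6,2,5,1,5,4,6,3,2,6,1,4] []) (.l [2,6,1,3,6,4,2,5,1,3,5,4] []))))) (.n 106 (.n 102 (.n 100 (.l [3,2,6,1,6,2,5,1,5,4,6,2,6,1,5,2,5,1] []) (.n 101 (.l [6,3,5,3,5,4,2,4,6,3,1,4,6] []) (.l [3,1,3,1,3,1,3,1] []))) (.n 104 (.n 103 (.l [5,2,5,1,5,2,6,1,6,2,5,1,6,2,6,1] []) (.l [2,4,2,4,2,4,2,4] [])) (.n 105 (.l [4,5,3,6,2,6,1,5,2,5,1,6,2,6,1,5,2,5,1,6,4,6,3,5] []) (.l [4,6,6,4,4,5,3,5,5,3,3,6] [])))) (.n 110 (.n 108 (.n 107 (.l [2,5,1,6,2,6,1,5,2,5,1,2,6,6,1,6,2,5,1,5] []) (.l [4,1,3,2,4,1,3,2,4,1,3,2]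 [])) (.n 109 (.l [1,6,2,3,5,4,1,3,6,4,6,3,6,4,4,5,3,2,5] []) (.l [6,4,4,5,3,5,5,3,3,6,4,6] []))) (.n 112 (.n 111 (.l [1,4,5,3,3,6,4,6,3,6,4,4,2,6,1,3,2,5] []) (.l [4,6,3,5,4,5,3,6,2,6,1,5,2,5,1,6,2,6,1,5,2,5,1,6] [])) (.n 113 (.l [6,1,3,6,4,2,5,1,3,5,4,2] []) (.l [2,3,5,4,1,3,6,4,6,3,6,4,4,5,3,2,5,1,6] [])))))))) (.n 171 (.n 142 (.n 128 (.n 121 (.n 117 (.n 115 (.l [3,6,4,4,5,3,2,5,1,6,2,3,5,4,1,3,6,4,6] []) (.n 116 (.l [5,3,5,5,3,3,6,4,6,6,4,4] []) (.l [2,6,1,4,5,3,2,5,1,2,6,1,6,2,5,1,5,4,6,3] []))) (.n 119 (.n 118 (.l [6,6,4,4,5,3,5,5,3,3,6,4] []) (.l [4,6,3,6,4,5,3,5,2,6,1,6,2,5,1,5,2,6,1,6,2,5,1,5] [])) (.n 120 (.l [5,3,5,4,4,6,6,4,6,3,3,5] []) (.l [1,5,2,5,5,1,2,6,1,6,2,5,1,5,2,6,1,6,2,6]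 [])))) (.n 124 (.n 122 (.l [1,4,5,3,6,2,6,1,5,2,5,1,2,6,1,4,6,3,2,5] []) (.n 123 (.l [2,5,1,2,6,6,1,6,2,5,1,5,2,5,1,6,2,6,1,5] []) (.l [1,5,2,6,1,5,2,5,1,6,2,6,1,6,2,5] []))) (.n 126 (.n 125 (.l [1,1,6,6,2,2,6] []) (.l [6,3,2,5,1,4,5,3,6,2,6,1,5,2,5,1,2,6,1,4] [])) (.n 127 (.l [5,3,3,5,4,6,2,6,1,5,2,5,1,4,6,3,3,6,4,4] []) (.l [4,6,3,3,5,5,3,5,4,4,6,6] []))))) (.n 135 (.n 131 (.n 129 (.l [6,3,2,6,1,4,2,5,1,3,3,5,4,5,3,5,4,4] []) (.n 130 (.l [3,6,4,6,3,5,4,5,6,2,6,1,5,2,5,1,6,2,6,1,5,2,5,1] []) (.l [3,5,4,2,4,6,3,1,4,6,6,3,5] []))) (.n 133 (.n 132 (.l [2,5,1,5,2,6,1,6,2,5,1,6,2,6,1,5] []) (.l [6,4,6,3,5,4,5,6,2,6,1,5,2,5,1,6,2,6,1,5,2,5,1,3] [])) (.n 134 (.l [1,6,2,6,1,6,2,5,1,5,2,6,1,5,2,5]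 []) (.l [3,3,6,4,6,6,4,4,5,3,5,5] [])))) (.n 138 (.n 136 (.l [1,5,2,5,1,3,2,6,1,6,2,5,1,5,4,6,2,6] []) (.n 137 (.l [3,2,6,1,4,5,3,2,5,1,2,6,1,6,2,5,1,5,4,6] []) (.l [5,1,3,3,5,4,5,3,5,4,4,6,3,2,6,1,4,2] []))) (.n 140 (.n 139 (.l [3,6,4,6,4,5,5,3,2,4,5,3,1] []) (.l [2,4,5,3,1,3,6,4,6,4,5,5,3] [])) (.n 141 (.l [1,3,6,4,6,4,5,5,3,2,4,5,3] []) (.l [2,5,1,4,5,3,3,6,4,6,3,6,4,4,2,6,1,3] [])))))) (.n 156 (.n 149 (.n 145 (.n 143 (.l [1,5,2,5,1,4,2,6,1,6,2,5,1,5,3,6,2,6] []) (.n 144 (.l [3,5,4,6,2,6,1,5,2,5,1,4,6,3,3,6,4,4,5,3] []) (.l [2,5,1,5,3,6,4,6,2,6,1,5,2,5,1,3,5,4,2,6,1,6] []))) (.n 147 (.n 146 (.l [5,4,2,5,1,3,6,4,2,6,1,3] []) (.l [5,1,5,2,6,1,5,2,5,1,6,2,6,1,6,2] [])) (.n 148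 (.l [5,1,3,6,4,2,6,1,3,5,4,2] []) (.l [6,1,6,2,5,1,5,3,6,2,6,1,5,2,5,1,4,2] [])))) (.n 152 (.n 150 (.l [6,1,5,2,5,1,3,2,6,1,6,2,5,1,5,4,6,2] []) (.n 151 (.l [1,6,6,2,2,6,1] []) (.l [2,4,6,3,1,4,6,6,3,5,3,5,4] []))) (.n 154 (.n 153 (.l [2,3,1,1,4,2] []) (.l [3,5,5,3,5,4,4,6,6,4,6,3] [])) (.n 155 (.l [2,4,1,1,3,2] []) (.l [3,6,4,1,5,2,6,1,4,6,3,3,5,4,5,3,5,4,2] []))))) (.n 163 (.n 159 (.n 157 (.l [1,4,2,6,1,6,2,5,1,5,3,6,2,6,1,5,2,5] []) (.n 158 (.l [6,3,2,6,1,4,5,3,2,5,1,2,6,1,6,2,5,1,5,4] []) (.l [5,3,2,6,1,6,2,5,1,5,3,6,4,4,6,3,3,5,4,4] []))) (.n 161 (.n 160 (.l [6,2,5,1,5,2,5,1,6,2,6,1,5,2,5,1,2,6,6,1] []) (.l [5,3,2,4,5,3,1,3,6,4,6,4,5] [])) (.n 162 (.l [2,6,1,1,6,6,2] [])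 (.l [1,3,6,4,2,6,1,3,5,4,2,5] [])))) (.n 167 (.n 165 (.n 164 (.l [3,5,4,2,6,1,6,2,5,1,5,2,6,1,6,2,5,1,5,6,3,6,4,5] []) (.l [6,6,3,5,3,5,4,2,4,6,3,1,4] [])) (.n 166 (.l [1,4,2,5,1,3,3,5,4,5,3,5,4,4,6,3,2,6] []) (.l [1,3,6,4,6,3,6,4,4,5,3,2,5,1,6,2,3,5,4] []))) (.n 169 (.n 168 (.l [6,1,4,6,3,3,5,4,5,3,5,4,2,3,6,4,1,5,2] []) (.l [2,3,1,4,2,3,1,4,2,3,1,4] [])) (.n 170 (.l [2,6,1,5,2,5,1,2,6,1,4,6,3,2,5,1,4,5,3,6] []) (.l [2,6,1,4,2,5,1,3,3,5,4,5,3,5,4,4,6,3] []))))))) (.n 200 (.n 185 (.n 178 (.n 174 (.n 172 (.l [4,5,3,2,5,1,6,2,3,5,4,1,3,6,4,6,3,6,4] []) (.n 173 (.l [5,3,3,6,4,6,6,4,4,5,3,5] []) (.l [3,6,2,6,1,5,2,5,1,4,2,6,1,6,2,5,1,5] []))) (.n 176 (.n 175 (.l [3,5,4,6,2,6,1,5,2,5,1,3,6,4,2,6,1,6,2,5,1,5]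 []) (.l [2,6,1,5,2,5,1,5,2,6,1,6,2,5,1,6] [])) (.n 177 (.l [4,5,3,5,4,2,6,1,6,2,5,1,5,2,6,1,6,2,5,1,5,6,3,6] []) (.l [2,4,1,3,2,4,1,3,2,4,1,3] [])))) (.n 181 (.n 179 (.l [6,2,6,1,5,2,5,1,5,2,6,1,6,2,5,1] []) (.n 180 (.l [5,2,6,1,5,2,5,1,6,2,6,1,6,2,5,1] []) (.l [6,1,6,2,5,1,5,3,6,4,4,6,3,3,5,4,4,5,3,2] []))) (.n 183 (.n 182 (.l [2,5,1,5,2,5,1,6,2,6,1,5,2,5,1,2,6,6,1,6] []) (.l [1,5,2,5,1,6,2,6,1,6,2,5,1,5,2,6] [])) (.n 184 (.l [3,6,4,2,5,1,3,5,4,2,6,1] []) (.l [5,4,6,2,6,1,5,2,5,1,3,2,6,1,6,2,5,1] []))))) (.n 192 (.n 188 (.n 186 (.l [1,4,5,3,2,5,1,2,6,1,6,2,5,1,5,4,6,3,2,6] []) (.n 187 (.l [5,4,2,4,6,3,1,4,6,6,3,5,3] []) (.l [4,6,3,2,6,1,4,2,5,1,3,3,5,4,5,3,5,4] []))) (.n 190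 (.n 189 (.l [3,2,6,1,6,2,5,1,5,4,6,3,6,2,6,1,5,2,5,1,4,5] []) (.l [5,3,5,4,2,6,1,6,2,5,1,5,2,6,1,6,2,5,1,5,6,3,6,4] [])) (.n 191 (.l [4,6,2,6,1,5,2,5,1,4,6,3,3,6,4,4,5,3,3,5] []) (.l [3,2,6,1,4,2,5,1,3,3,5,4,5,3,5,4,4,6] [])))) (.n 196 (.n 194 (.n 193 (.l [1,6,2,5,1,5,3,6,2,6,1,5,2,5,1,4,2,6] []) (.l [2,6,1,6,2,5,1,6,2,6,1,5,2,5,1,5] [])) (.n 195 (.l [3,5,4,4,6,3,2,6,1,4,2,5,1,3,3,5,4,5] []) (.l [4,2,6,1,3,2,5,1,4,5,3,3,6,4,6,3,6,4] []))) (.n 198 (.n 197 (.l [5,5,3,2,4,5,3,1,3,6,4,6,4] []) (.l [2,6,1,3,5,4,2,5,1,3,6,4] [])) (.n 199 (.l [5,3,5,4,4,6,3,2,6,1,4,2,5,1,3,3,5,4] []) (.l [2,5,1,3,2,6,1,6,2,5,1,5,4,6,2,6,1,5] [])))))) (.n 214 (.n 207 (.n 203 (.n 201 (.l [4,5,3,2,5,1,2,6,1,6,2,5,1,5,4,6,3,2,6,1]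 []) (.n 202 (.l [3,2,4,1,3,2,4,1,3,2,4,1] []) (.l [5,3,6,2,6,1,5,2,5,1,6,2,6,1,5,2,5,1,6,4,6,3,5,4] []))) (.n 205 (.n 204 (.l [3,5,4,5,6,2,6,1,5,2,5,1,6,2,6,1,5,2,5,1,3,6,4,6] []) (.l [2,6,1,6,2,5,1,5,2,6,1,5,2,5,1,6] [])) (.n 206 (.l [1,5,2,6,1,4,6,3,3,5,4,5,3,5,4,2,3,6,4] []) (.l [5,1,6,2,3,5,4,1,3,6,4,6,3,6,4,4,5,3,2] [])))) (.n 210 (.n 208 (.l [2,6,1,3,2,5,1,4,5,3,3,6,4,6,3,6,4,4] []) (.n 209 (.l [6,3,2,6,1,6,2,5,1,5,4,5,3,6,2,6,1,5,2,5,1,4] []) (.l [6,1,6,2,5,1,5,4,6,2,6,1,5,2,5,1,3,2] []))) (.n 212 (.n 211 (.l [3,5,4,5,3,5,4,4,6,3,2,6,1,4,2,5,1,3] []) (.l [5,1,5,4,6,2,6,1,5,2,5,1,3,2,6,1,6,2] [])) (.n 213 (.l [5,4,5,3,5,4,4,6,3,2,6,1,4,2,5,1,3,3] []) (.l [1,3,2,4,1,3,2,4,1,3,2,4]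 []))))) (.n 221 (.n 217 (.n 215 (.l [3,6,4,4,2,6,1,3,2,5,1,4,5,3,3,6,4,6] []) (.n 216 (.l [1,3,5,4,2,6,1,3,6,4,2,5] []) (.l [5,5,1,2,6,1,6,2,5,1,5,2,6,1,6,2,6,1,5,2] []))) (.n 219 (.n 218 (.l [3,6,4,2,6,1,3,5,4,2,5,1] []) (.l [6,1,5,2,5,1,4,6,3,2,6,1,6,2,5,1,5,4,5,3,6,2] [])) (.n 220 (.l [4,4,6,3,3,5,4,4,5,3,2,6,1,6,2,5,1,5,3,6] []) (.l [5,1,4,5,3,6,2,6,1,5,2,5,1,2,6,1,4,6,3,2] [])))) (.n 225 (.n 223 (.n 222 (.l [6,6,4,6,3,3,5,5,3,5,4,4] []) (.l [1,5,3,6,2,6,1,5,2,5,1,4,2,6,1,6,2,5] [])) (.n 224 (.l [2,5,1,6,2,3,5,4,1,3,6,4,6,3,6,4,4,5,3] []) (.l [4,6,4,5,5,3,2,4,5,3,1,3,6] []))) (.n 227 (.n 226 (.l [1,5,4,6,3,2,6,1,4,5,3,2,5,1,2,6,1,6,2,5] []) (.l [6,2,6,1,5,2,5,1,2,6,1,4,6,3,2,5,1,4,5,3]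 [])) (.n 228 (.l [2,6,1,4,6,3,3,5,4,5,3,5,4,2,3,6,4,1,5] []) (.l [2,6,1,5,2,5,5,1,2,6,1,6,2,5,1,5,2,6,1,6] []))))))))

def L : LL := .cons 1 2 (.n 22 (.n 11 (.n 5 (.n 2 (.n 1 (.l [2,6,1,1,6,6] []) (.l [4,1,1,3,2] [])) (.n 3 (.l [3,1,1,4,2] []) (.n 4 (.l [2,4,1,1,3] []) (.l [2,3,1,1,4] [])))) (.n 8 (.n 6 (.l [2,2,2,2,2,2,2] []) (.n 7 (.l [2,5,1,1,5,5] []) (.l [6,1,1,6,6,2] []))) (.n 9 (.l [6,1,3,6,4,2,5,1,3,5,4] []) (.n 10 (.l [5,1,1,5,5,2] []) (.l [4,2,4,2,4,2,4] []))))) (.n 16 (.n 13 (.n 12 (.l [6,1,3,5,4,2,5,1,3,6,4] []) (.l [5,1,3,5,4,2,6,1,3,6,4] [])) (.n 14 (.l [6,1,5,2,5,1,2,6,1,4,6,3,2,5,1,4,5,3,6] []) (.n 15 (.l [4,5,3,1,3,6,4,6,4,5,5,3] []) (.l [6,1,6,2,5,1,5,3,6,2,6,1,5,2,5,1,4]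 [])))) (.n 19 (.n 17 (.l [6,1,5,2,5,1,6,2,6,1,6,2,5,1,5] []) (.n 18 (.l [6,1,4,5,3,2,5,1,2,6,1,6,2,5,1,5,4,6,3] []) (.l [4,1,3,2,4,1,3,2,4,1,3] []))) (.n 20 (.l [5,1,3,6,4,2,6,1,3,5,4] []) (.n 21 (.l [6,1,6,2,5,1,6,2,6,1,5,2,5,1,5] []) (.l [5,1,6,2,6,1,6,2,5,1,5,2,6,1,5] [])))))) (.n 33 (.n 27 (.n 24 (.n 23 (.l [6,1,6,2,5,1,5,2,6,1,5,2,5,1,6] []) (.l [4,6,3,1,4,6,6,3,5,3,5,4] [])) (.n 25 (.l [6,1,6,2,5,1,5,2,6,1,6,2,5,1,5,6,3,6,4,5,3,5,4] []) (.n 26 (.l [5,1,4,5,3,6,2,6,1,5,2,5,1,2,6,1,4,6,3] []) (.l [5,1,4,2,6,1,6,2,5,1,5,3,6,2,6,1,5] [])))) (.n 30 (.n 28 (.l [3,1,4,2,3,1,4,2,3,1,4] []) (.n 29 (.l [6,1,5,2,5,1,5,2,6,1,6,2,5,1,6] []) (.l [6,1,6,2,5,1,5,3,6,4,4,6,3,3,5,4,4,5,3]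 []))) (.n 31 (.l [5,1,5,3,6,2,6,1,5,2,5,1,4,2,6,1,6] []) (.n 32 (.l [5,1,4,5,3,3,6,4,6,3,6,4,4,2,6,1,3] []) (.l [6,1,4,2,5,1,3,3,5,4,5,3,5,4,4,6,3] []))))) (.n 39 (.n 36 (.n 34 (.l [5,1,5,2,6,1,6,2,5,1,6,2,6,1,5] []) (.n 35 (.l [5,1,3,3,5,4,5,3,5,4,4,6,3,2,6,1,4] []) (.l [6,1,5,2,5,1,3,2,6,1,6,2,5,1,5,4,6] []))) (.n 37 (.l [5,1,6,2,6,1,5,2,5,1,5,2,6,1,6] []) (.n 38 (.l [6,1,5,2,5,1,3,6,4,2,6,1,6,2,5,1,5,3,5,4,6] []) (.l [6,1,5,2,5,1,4,2,6,1,6,2,5,1,5,3,6] [])))) (.n 42 (.n 40 (.l [6,1,3,2,5,1,4,5,3,3,6,4,6,3,6,4,4] []) (.n 41 (.l [5,1,5,2,6,1,5,2,5,1,6,2,6,1,6] []) (.l [6,1,6,2,6,1,5,2,5,5,1,2,6,1,6,2,5,1,5] []))) (.n 43 (.l [6,1,4,6,3,3,5,4,5,3,5,4,2,3,6,4,1,5] []) (.n 44 (.l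 [5,1,5,4,6,2,6,1,5,2,5,1,3,2,6,1,6] []) (.l [5,1,5,3,5,4,6,2,6,1,5,2,5,1,3,6,4,2,6,1,6] []))))))) (.l [] []) ( .cons 2 1 (.n 24 (.n 12 (.n 6 (.n 3 (.n 1 (.l [1,6,6,2,2,6] []) (.n 2 (.l [6,6,2,2,6,1] []) (.l [1,4,2,2,3] []))) (.n 4 (.l [1,3,2,2,4] []) (.n 5 (.l [4,2,2,3,1] []) (.l [3,2,2,4,1] [])))) (.n 9 (.n 7 (.l [1,5,5,2,2,5] []) (.n 8 (.l [5,5,2,2,5,1] []) (.l [3,1,3,1,3,1,3] []))) (.n 10 (.l [1,1,1,1,1,1,1] []) (.n 11 (.l [3,6,4,2,6,1,3,5,4,2,5] []) (.l [4,6,6,3,5,3,5,4,2,4,6,3] []))))) (.n 18 (.n 15 (.n 13 (.l [4,5,3,6,2,6,1,5,2,5,1,2,6,1,4,6,3,2,5] []) (.n 14 (.l [5,3,6,4,6,2,6,1,5,2,5,1,3,5,4,2,6,1,6,2,5] []) (.l [3,5,4,2,6,1,3,6,4,2,5] []))) (.n 16 (.l [3,2,5,1,4,5,3,3,6,4,6,3,6,4,4,2,6]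 []) (.n 17 (.l [5,2,6,1,6,2,6,1,5,2,5,5,1,2,6,1,6,2,5] []) (.l [4,5,3,2,5,1,2,6,1,6,2,5,1,5,4,6,3,2,6] [])))) (.n 21 (.n 19 (.l [5,2,5,1,5,2,6,1,6,2,5,1,6,2,6] []) (.n 20 (.l [4,2,3,1,4,2,3,1,4,2,3] []) (.l [5,2,6,1,4,6,3,3,5,4,5,3,5,4,2,3,6,4] []))) (.n 22 (.l [5,2,5,1,2,6,6,1,6,2,5,1,5,2,5,1,6,2,6] []) (.n 23 (.l [4,5,3,3,6,4,6,3,6,4,4,2,6,1,3,2,5] []) (.l [5,2,5,1,3,2,6,1,6,2,5,1,5,4,6,2,6] [])))))) (.n 36 (.n 30 (.n 27 (.n 25 (.l [5,2,5,5,1,2,6,1,6,2,5,1,5,2,6,1,6,2,6] []) (.n 26 (.l [3,5,4,2,5,1,3,6,4,2,6] []) (.l [3,6,4,6,4,5,5,3,2,4,5,3] []))) (.n 28 (.l [5,2,5,1,6,2,6,1,6,2,5,1,5,2,6] []) (.n 29 (.l [3,2,6,1,6,2,5,1,5,4,6,2,6,1,5,2,5] []) (.l [6,2,5,1,6,2,6,1,5,2,5,1,5,2,6]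 [])))) (.n 33 (.n 31 (.l [3,2,4,1,3,2,4,1,3,2,4] []) (.n 32 (.l [6,2,5,1,5,3,6,2,6,1,5,2,5,1,4,2,6] []) (.l [3,6,4,6,3,6,4,4,5,3,2,5,1,6,2,3,5,4] []))) (.n 34 (.l [6,2,6,1,6,2,5,1,5,2,6,1,5,2,5] []) (.n 35 (.l [3,6,4,2,5,1,3,5,4,2,6] []) (.l [5,2,5,1,6,2,6,1,5,2,5,1,2,6,6,1,6,2,5] []))))) (.n 42 (.n 39 (.n 37 (.l [5,2,6,1,5,2,5,1,6,2,6,1,6,2,5] []) (.n 38 (.l [5,2,5,1,4,6,3,3,6,4,4,5,3,3,5,4,6,2,6] []) (.l [6,2,5,1,5,3,5,4,6,2,6,1,5,2,5,1,3,6,4,2,6] []))) (.n 40 (.l [6,2,5,1,5,4,6,3,6,2,6,1,5,2,5,1,4,5,3,2,6] []) (.n 41 (.l [4,6,3,3,5,4,5,3,5,4,2,3,6,4,1,5,2,6] []) (.l [5,4,6,2,6,1,5,2,5,1,3,2,6,1,6,2,5] [])))) (.n 45 (.n 43 (.l [5,4,6,3,2,6,1,4,5,3,2,5,1,2,6,1,6,2,5] []) (.n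 44 (.l [5,2,6,1,6,2,5,1,6,2,6,1,5,2,5] []) (.l [6,2,6,1,5,2,5,1,5,2,6,1,6,2,5] []))) (.n 46 (.l [5,3,5,4,6,2,6,1,5,2,5,1,3,6,4,2,6,1,6,2,5] []) (.n 47 (.l [6,2,5,1,5,2,6,1,6,2,5,1,5,2,6,2,6,1,5,2,5,1,6] []) (.l [3,3,5,4,5,3,5,4,4,6,3,2,6,1,4,2,5] []))))))) (.l [] []) ( .cons 3 4 (.n 24 (.n 12 (.n 6 (.n 3 (.n 1 (.l [4,4,4,4] []) (.n 2 (.l [1,1,3,2,2] []) (.l [6,4,5,5,3,2,4,5,3,1,3,6] []))) (.n 4 (.l [5,3,5,5,3,3,6,4,6,6,4] []) (.n 5 (.l [2,5,1,3,5,4,2,6,1,3,6] []) (.l [2,2,3,1,1] [])))) (.n 9 (.n 7 (.l [6,6,4,6,3,3,5,5,3,5,4] []) (.n 8 (.l [4,5,3,5,5,3,3,6,4,6,6] []) (.l [2,4,2,4,2,4,2] []))) (.n 10 (.l [6,3,1,4,6,6,3,5,3,5,4,2] []) (.n 11 (.l [5,3,6,2,6,1,5,2,5,1,2,6,1,4,6,3,2,5,1]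 []) (.l [5,3,1,3,6,4,6,4,5,5,3,2] []))))) (.n 18 (.n 15 (.n 13 (.l [6,6,3,5,3,5,4,2,4,6,3,1] []) (.n 14 (.l [6,3,2,6,1,4,5,3,2,5,1,2,6,1,6,2,5,1,5] []) (.l [4,5,3,3,5,4,6,2,6,1,5,2,5,1,4,6,3,3,6] []))) (.n 16 (.l [2,6,1,3,6,4,2,5,1,3,5] []) (.n 17 (.l [5,5,3,2,4,5,3,1,3,6,4,6] []) (.l [2,6,1,3,5,4,2,5,1,3,6] [])))) (.n 21 (.n 19 (.l [6,3,3,5,5,3,5,4,4,6,6] []) (.n 20 (.l [6,2,6,1,5,2,5,1,3,2,6,1,6,2,5,1,5] []) (.l [6,6,4,4,5,3,5,5,3,3,6] []))) (.n 22 (.l [2,5,1,3,3,5,4,5,3,5,4,4,6,3,2,6,1] []) (.n 23 (.l [2,5,1,3,6,4,2,6,1,3,5] []) (.l [2,6,1,6,2,5,1,5,2,6,1,6,2,5,1,5,6,3,6,4,5,3,5] [])))))) (.n 36 (.n 30 (.n 27 (.n 25 (.l [2,3,1,4,2,3,1,4,2,3,1] []) (.n 26 (.l [5,3,2,6,1,6,2,5,1,5,3,6,4,4,6,3,3,5,4]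 []) (.l [2,4,6,3,1,4,6,6,3,5,3,5] []))) (.n 28 (.l [4,6,6,4,6,3,3,5,5,3,5] []) (.n 29 (.l [6,2,6,1,5,2,5,1,4,6,3,3,6,4,4,5,3,3,5] []) (.l [2,6,1,6,2,5,1,5,3,6,2,6,1,5,2,5,1] [])))) (.n 33 (.n 31 (.l [4,5,3,2,6,1,6,2,5,1,5,3,6,4,4,6,3,3,5] []) (.n 32 (.l [5,3,5,2,6,1,6,2,5,1,5,2,6,1,6,2,5,1,5,4,6,3,6] []) (.l [5,3,2,5,1,6,2,3,5,4,1,3,6,4,6,3,6,4] []))) (.n 34 (.l [1,3,2,4,1,3,2,4,1,3,2] []) (.n 35 (.l [6,3,2,5,1,4,5,3,6,2,6,1,5,2,5,1,2,6,1] []) (.l [6,3,3,5,4,5,3,5,4,2,3,6,4,1,5,2,6,1] []))))) (.n 42 (.n 39 (.n 37 (.l [1,3,6,4,6,3,6,4,4,5,3,2,5,1,6,2,3,5] []) (.n 38 (.l [6,3,6,4,4,5,3,2,5,1,6,2,3,5,4,1,3,6] []) (.l [1,5,2,6,1,4,6,3,3,5,4,5,3,5,4,2,3,6] []))) (.n 40 (.l [5,3,3,6,4,6,3,6,4,4,2,6,1,3,2,5,1]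 []) (.n 41 (.l [6,2,6,1,5,2,5,1,3,6,4,2,6,1,6,2,5,1,5,3,5] []) (.l [4,2,6,1,3,2,5,1,4,5,3,3,6,4,6,3,6] [])))) (.n 45 (.n 43 (.l [5,3,2,5,1,2,6,1,6,2,5,1,5,4,6,3,2,6,1] []) (.n 44 (.l [5,3,3,5,4,6,2,6,1,5,2,5,1,4,6,3,3,6,4] []) (.l [5,6,2,6,1,5,2,5,1,6,2,6,1,5,2,5,1,3,6,4,6,3,5] []))) (.n 47 (.n 46 (.l [2,6,1,3,2,5,1,4,5,3,3,6,4,6,3,6,4] []) (.l [6,3,6,4,4,2,6,1,3,2,5,1,4,5,3,3,6] [])) (.n 48 (.l [6,3,2,6,1,4,2,5,1,3,3,5,4,5,3,5,4] []) (.l [5,3,6,2,6,1,5,2,5,1,6,2,6,1,5,2,5,1,6,4,6,3,5] []))))))) (.l [] []) ( .cons 4 3 (.n 22 (.n 11 (.n 5 (.n 2 (.n 1 (.l [6,4,6,6,4,4,5,3,5,5,3] []) (.l [6,4,2,5,1,3,5,4,2,6,1] [])) (.n 3 (.l [1,1,4,2,2] []) (.n 4 (.l [6,4,2,6,1,3,5,4,2,5,1] [])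 (.l [5,4,2,6,1,3,6,4,2,5,1] [])))) (.n 8 (.n 6 (.l [2,2,4,1,1] []) (.n 7 (.l [1,3,6,4,6,4,5,5,3,2,4,5] []) (.l [3,3,3,3] []))) (.n 9 (.l [5,5,3,3,6,4,6,6,4,4,5] []) (.n 10 (.l [5,4,4,6,6,4,6,3,3,5,5] []) (.l [5,4,2,4,6,3,1,4,6,6,3,5] []))))) (.n 16 (.n 13 (.n 12 (.l [1,4,6,6,3,5,3,5,4,2,4,6] []) (.l [3,5,5,3,5,4,4,6,6,4,6] [])) (.n 14 (.l [2,4,5,3,1,3,6,4,6,4,5,5] []) (.n 15 (.l [1,3,1,3,1,3,1] []) (.l [5,5,3,5,4,4,6,6,4,6,3] [])))) (.n 19 (.n 17 (.l [6,4,6,4,5,5,3,2,4,5,3,1] []) (.n 18 (.l [5,4,5,6,2,6,1,5,2,5,1,6,2,6,1,5,2,5,1,3,6,4,6] []) (.l [2,5,1,2,6,1,6,2,5,1,5,4,6,3,2,6,1,4,5] []))) (.n 20 (.l [5,3,5,4,2,4,6,3,1,4,6,6] []) (.n 21 (.l [6,4,1,5,2,6,1,4,6,3,3,5,4,5,3,5,4,2]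 []) (.l [3,6,4,6,6,4,4,5,3,5,5] [])))))) (.n 33 (.n 27 (.n 24 (.n 23 (.l [6,4,4,2,6,1,3,2,5,1,4,5,3,3,6,4,6] []) (.l [1,4,2,3,1,4,2,3,1,4,2] [])) (.n 25 (.l [2,5,1,6,2,3,5,4,1,3,6,4,6,3,6,4,4,5] []) (.n 26 (.l [5,4,2,5,1,3,6,4,2,6,1] []) (.l [6,4,5,3,5,2,6,1,6,2,5,1,5,2,6,1,6,2,5,1,5,4,6] [])))) (.n 30 (.n 28 (.l [6,4,6,3,6,4,4,2,6,1,3,2,5,1,4,5,3] []) (.n 29 (.l [6,2,6,1,5,2,5,1,2,6,1,4,6,3,2,5,1,4,5] []) (.l [5,4,1,3,6,4,6,3,6,4,4,5,3,2,5,1,6,2] []))) (.n 31 (.l [2,5,1,4,5,3,3,6,4,6,3,6,4,4,2,6,1] []) (.n 32 (.l [5,4,4,5,3,2,6,1,6,2,5,1,5,3,6,4,4,6,3] []) (.l [3,5,4,6,2,6,1,5,2,5,1,4,6,3,3,6,4,4,5] []))))) (.n 39 (.n 36 (.n 34 (.l [6,2,6,1,5,2,5,1,4,2,6,1,6,2,5,1,5] []) (.n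 35 (.l [2,4,1,3,2,4,1,3,2,4,1] []) (.l [6,4,4,6,3,3,5,4,4,5,3,2,6,1,6,2,5,1,5] []))) (.n 37 (.l [5,4,5,3,6,2,6,1,5,2,5,1,6,2,6,1,5,2,5,1,6,4,6] []) (.n 38 (.l [5,4,2,6,1,6,2,5,1,5,2,6,1,6,2,5,1,5,6,3,6,4,5] []) (.l [2,6,1,4,2,5,1,3,3,5,4,5,3,5,4,4,6] [])))) (.n 42 (.n 40 (.l [3,6,4,6,3,6,4,4,2,6,1,3,2,5,1,4,5] []) (.n 41 (.l [2,6,1,4,5,3,2,5,1,2,6,1,6,2,5,1,5,4,6] []) (.l [3,5,4,4,5,3,2,6,1,6,2,5,1,5,3,6,4,4,6] []))) (.n 43 (.l [2,5,1,4,5,3,6,2,6,1,5,2,5,1,2,6,1,4,6] []) (.n 44 (.l [6,2,6,1,5,2,5,1,6,2,6,1,5,2,5,1,6,4,6,3,5,4,5] []) (.l [5,4,5,3,5,4,4,6,3,2,6,1,4,2,5,1,3] []))))))) (.l [] []) ( .cons 5 6 (.n 30 (.n 15 (.n 7 (.n 3 (.n 1 (.l [6,6,6,6] []) (.n 2 (.l [3,5,3,5,4,2,4,6,3,1,4,6]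 []) (.l [6,2,2,6,1,1] []))) (.n 5 (.n 4 (.l [1,1,6,6,2,2] []) (.l [4,6,3,3,5,5,3,5,4,4,6] [])) (.n 6 (.l [4,6,4,5,5,3,2,4,5,3,1,3] []) (.l [6,4,4,5,3,5,5,3,3,6,4] [])))) (.n 11 (.n 9 (.n 8 (.l [2,2,6,1,1,6] []) (.l [4,5,5,3,2,4,5,3,1,3,6,4] [])) (.n 10 (.l [4,4,5,3,5,5,3,3,6,4,6] []) (.l [3,3,5,5,3,5,4,4,6,6,4] []))) (.n 13 (.n 12 (.l [3,1,4,6,6,3,5,3,5,4,2,4] []) (.l [1,5,2,5,1,5,2,6,1,6,2,5,1,6,2] [])) (.n 14 (.l [1,6,2,6,1,5,2,5,5,1,2,6,1,6,2,5,1,5,2] []) (.l [4,4,5,3,2,5,1,6,2,3,5,4,1,3,6,4,6,3] []))))) (.n 22 (.n 18 (.n 16 (.l [2,5,1,5,2,6,1,6,2,6,1,5,2,5,5,1,2,6,1] []) (.n 17 (.l [1,6,2,5,1,6,2,6,1,5,2,5,1,5,2] []) (.l [4,5,3,5,2,6,1,6,2,5,1,5,2,6,1,6,2,5,1,5,4,6,3] [])))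 (.n 20 (.n 19 (.l [3,6,4,5,3,5,2,6,1,6,2,5,1,5,2,6,1,6,2,5,1,5,4] []) (.l [3,2,6,1,4,5,3,2,5,1,2,6,1,6,2,5,1,5,4] [])) (.n 21 (.l [1,3,2,5,1,4,5,3,3,6,4,6,3,6,4,4,2] []) (.l [1,3,5,4,2,5,1,3,6,4,2] [])))) (.n 26 (.n 24 (.n 23 (.l [4,2,6,1,3,5,4,2,5,1,3] []) (.l [6,4,6,3,3,5,5,3,5,4,4] [])) (.n 25 (.l [6,3,5,3,5,4,2,4,6,3,1,4] []) (.l [1,6,2,5,1,5,3,6,2,6,1,5,2,5,1,4,2] []))) (.n 28 (.n 27 (.l [1,6,2,5,1,5,2,6,1,5,2,5,1,6,2] []) (.l [4,6,6,4,4,5,3,5,5,3,3] [])) (.n 29 (.l [1,3,6,4,2,5,1,3,5,4,2] []) (.l [2,5,1,5,2,5,1,6,2,6,1,5,2,5,1,2,6,6,1] [])))))) (.n 45 (.n 37 (.n 33 (.n 31 (.l [1,4,5,3,2,5,1,2,6,1,6,2,5,1,5,4,6,3,2] []) (.n 32 (.l [3,6,2,6,1,5,2,5,1,4,5,3,2,6,1,6,2,5,1,5,4]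 []) (.l [3,2,6,1,4,2,5,1,3,3,5,4,5,3,5,4,4] []))) (.n 35 (.n 34 (.l [2,6,1,6,2,5,1,5,2,6,1,5,2,5,1] []) (.l [2,6,1,5,2,5,1,3,2,6,1,6,2,5,1,5,4] [])) (.n 36 (.l [2,5,1,6,2,6,1,5,2,5,1,5,2,6,1] []) (.l [4,2,5,1,3,5,4,2,6,1,3] [])))) (.n 41 (.n 39 (.n 38 (.l [1,5,2,5,1,6,2,6,1,6,2,5,1,5,2] []) (.l [1,4,6,3,3,5,4,5,3,5,4,2,3,6,4,1,5,2] [])) (.n 40 (.l [2,6,1,5,2,5,1,2,6,6,1,6,2,5,1,5,2,5,1] []) (.l [2,5,1,5,4,5,3,6,2,6,1,5,2,5,1,4,6,3,2,6,1] []))) (.n 43 (.n 42 (.l [4,6,3,5,4,5,6,2,6,1,5,2,5,1,6,2,6,1,5,2,5,1,3] []) (.l [4,5,3,5,4,2,6,1,6,2,5,1,5,2,6,1,6,2,5,1,5,6,3] [])) (.n 44 (.l [2,5,1,5,3,6,2,6,1,5,2,5,1,4,2,6,1] []) (.l [4,4,5,3,3,5,4,6,2,6,1,5,2,5,1,4,6,3,3] []))))) (.n 53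 (.n 49 (.n 47 (.n 46 (.l [3,2,6,1,6,2,5,1,5,4,5,3,6,2,6,1,5,2,5,1,4] []) (.l [4,1,5,2,6,1,4,6,3,3,5,4,5,3,5,4,2,3] [])) (.n 48 (.l [2,6,1,5,2,5,1,2,6,1,4,6,3,2,5,1,4,5,3] []) (.l [2,6,1,5,2,5,1,5,2,6,1,6,2,5,1] []))) (.n 51 (.n 50 (.l [2,3,5,4,1,3,6,4,6,3,6,4,4,5,3,2,5,1] []) (.l [3,2,5,1,4,5,3,6,2,6,1,5,2,5,1,2,6,1,4] [])) (.n 52 (.l [3,6,4,4,2,6,1,3,2,5,1,4,5,3,3,6,4] []) (.l [2,5,1,5,4,6,2,6,1,5,2,5,1,3,2,6,1] [])))) (.n 57 (.n 55 (.n 54 (.l [2,5,1,5,2,6,1,5,2,5,1,6,2,6,1] []) (.l [4,6,2,6,1,5,2,5,1,3,5,4,2,6,1,6,2,5,1,5,3] [])) (.n 56 (.l [1,5,2,5,1,4,2,6,1,6,2,5,1,5,3,6,2] []) (.l [2,6,1,5,2,5,1,4,2,6,1,6,2,5,1,5,3] []))) (.n 59 (.n 58 (.l [3,5,4,5,3,6,2,6,1,5,2,5,1,6,2,6,1,5,2,5,1,6,4]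 []) (.l [1,5,2,5,1,4,6,3,3,6,4,4,5,3,3,5,4,6,2] [])) (.n 60 (.l [3,3,6,4,4,5,3,3,5,4,6,2,6,1,5,2,5,1,4] []) (.l [2,5,1,5,3,6,4,6,2,6,1,5,2,5,1,3,5,4,2,6,1] []))))))) (.e) ( .cons 6 5 (.n 31 (.n 15 (.n 7 (.n 3 (.n 1 (.l [1,1,5,5,2,2] []) (.n 2 (.l [5,2,2,5,1,1] []) (.l [5,5,5,5] []))) (.n 5 (.n 4 (.l [2,2,5,1,1,5] []) (.l [3,5,4,4,6,6,4,6,3,3,5] [])) (.n 6 (.l [4,4,6,6,4,6,3,3,5,5,3] []) (.l [1,5,3,6,2,6,1,5,2,5,1,4,2,6,1,6,2] [])))) (.n 11 (.n 9 (.n 8 (.l [3,1,3,6,4,6,4,5,5,3,2,4] []) (.l [5,3,3,6,4,6,6,4,4,5,3] [])) (.n 10 (.l [5,3,5,4,4,6,6,4,6,3,3] []) (.l [3,2,4,5,3,1,3,6,4,6,4,5] []))) (.n 13 (.n 12 (.l [1,3,2,6,1,6,2,5,1,5,4,6,2,6,1,5,2] []) (.l [4,2,6,1,3,6,4,2,5,1,3]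 [])) (.n 14 (.l [4,5,6,2,6,1,5,2,5,1,6,2,6,1,5,2,5,1,3,6,4,6,3] []) (.l [2,6,1,4,6,3,3,5,4,5,3,5,4,2,3,6,4,1] []))))) (.n 23 (.n 19 (.n 17 (.n 16 (.l [3,5,4,2,3,6,4,1,5,2,6,1,4,6,3,3,5,4] []) (.l [4,6,3,2,6,1,4,5,3,2,5,1,2,6,1,6,2,5,1] [])) (.n 18 (.l [4,5,3,6,2,6,1,5,2,5,1,6,2,6,1,5,2,5,1,6,4,6,3] []) (.l [3,5,5,3,3,6,4,6,6,4,4] []))) (.n 21 (.n 20 (.l [5,3,2,4,5,3,1,3,6,4,6,4] []) (.l [4,2,5,1,3,6,4,2,6,1,3] [])) (.n 22 (.l [3,2,5,1,2,6,1,6,2,5,1,5,4,6,3,2,6,1,4] []) (.l [3,6,2,6,1,5,2,5,1,2,6,1,4,6,3,2,5,1,4] [])))) (.n 27 (.n 25 (.n 24 (.l [2,5,1,2,6,6,1,6,2,5,1,5,2,5,1,6,2,6,1] []) (.l [2,5,1,5,2,6,1,6,2,5,1,6,2,6,1] [])) (.n 26 (.l [1,3,3,5,4,5,3,5,4,4,6,3,2,6,1,4,2] [])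 (.l [4,2,4,6,3,1,4,6,6,3,5,3] []))) (.n 29 (.n 28 (.l [1,4,5,3,6,2,6,1,5,2,5,1,2,6,1,4,6,3,2] []) (.l [1,3,6,4,2,6,1,3,5,4,2] [])) (.n 30 (.l [1,3,5,4,2,6,1,3,6,4,2] []) (.l [1,3,6,4,2,6,1,6,2,5,1,5,3,5,4,6,2,6,1,5,2] [])))))) (.n 47 (.n 39 (.n 35 (.n 33 (.n 32 (.l [3,3,6,4,6,6,4,4,5,3,5] []) (.l [1,6,2,6,1,5,2,5,1,5,2,6,1,6,2] [])) (.n 34 (.l [5,1,2,6,1,6,2,5,1,5,2,6,1,6,2,6,1,5,2] []) (.l [3,6,2,6,1,5,2,5,1,6,2,6,1,5,2,5,1,6,4,6,3,5,4] []))) (.n 37 (.n 36 (.l [3,5,4,2,4,6,3,1,4,6,6,3] []) (.l [1,5,3,6,4,6,2,6,1,5,2,5,1,3,5,4,2,6,1,6,2] [])) (.n 38 (.l [1,4,5,3,3,6,4,6,3,6,4,4,2,6,1,3,2] []) (.l [2,6,1,5,2,5,1,6,2,6,1,6,2,5,1] [])))) (.n 43 (.n 41 (.n 40 (.l [2,5,1,4,2,6,1,6,2,5,1,5,3,6,2,6,1]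 []) (.l [1,5,2,6,1,6,2,5,1,6,2,6,1,5,2] [])) (.n 42 (.l [3,2,6,1,6,2,5,1,5,4,6,3,6,2,6,1,5,2,5,1,4] []) (.l [4,4,5,3,2,6,1,6,2,5,1,5,3,6,4,4,6,3,3] []))) (.n 45 (.n 44 (.l [3,5,4,2,6,1,6,2,5,1,5,2,6,1,6,2,5,1,5,6,3,6,4] []) (.l [4,6,2,6,1,5,2,5,1,4,6,3,3,6,4,4,5,3,3] [])) (.n 46 (.l [2,5,1,3,2,6,1,6,2,5,1,5,4,6,2,6,1] []) (.l [2,5,1,4,6,3,3,6,4,4,5,3,3,5,4,6,2,6,1] []))))) (.n 55 (.n 51 (.n 49 (.n 48 (.l [3,6,2,6,1,5,2,5,1,4,6,3,2,6,1,6,2,5,1,5,4] []) (.l [3,2,6,1,6,2,5,1,5,3,6,4,4,6,3,3,5,4,4] [])) (.n 50 (.l [2,6,1,6,2,5,1,6,2,6,1,5,2,5,1] []) (.l [1,6,2,6,1,6,2,5,1,5,2,6,1,5,2] []))) (.n 53 (.n 52 (.l [1,6,2,3,5,4,1,3,6,4,6,3,6,4,4,5,3,2] []) (.l [4,4,6,3,2,6,1,4,2,5,1,3,3,5,4,5,3]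 [])) (.n 54 (.l [3,5,4,4,6,3,2,6,1,4,2,5,1,3,3,5,4] []) (.l [4,6,2,6,1,5,2,5,1,3,2,6,1,6,2,5,1] [])))) (.n 59 (.n 57 (.n 56 (.l [2,5,1,6,2,6,1,6,2,5,1,5,2,6,1] []) (.l [3,6,2,6,1,5,2,5,1,4,2,6,1,6,2,5,1] [])) (.n 58 (.l [2,5,1,6,1,6,2,5,1,5,2,6,1,6,2,5,1,5,2,6,2,6,1] []) (.l [2,5,5,1,2,6,1,6,2,5,1,5,2,6,1,6,2,6,1] []))) (.n 61 (.n 60 (.l [4,5,3,5,4,2,3,6,4,1,5,2,6,1,4,6,3,3] []) (.l [1,4,6,3,3,6,4,4,5,3,3,5,4,6,2,6,1,5,2] [])) (.n 62 (.l [3,5,2,6,1,6,2,5,1,5,2,6,1,6,2,5,1,5,4,6,3,6,4] []) (.l [4,1,3,6,4,6,3,6,4,4,5,3,2,5,1,6,2,3] []))))))) (.e) ( .nil ))))))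

def iv : List (Nat × Nat) := [(1, 2), (3, 4), (5, 6)]

def RL : List (List Nat × Nat) := [([1], 8), ([3], 5), ([1, 3], 4), ([2, 2, 4, 1, 1, 3], 1), ([2, 4, 1, 3], 3), ([5], 5), ([6, 2, 6, 1, 5, 2, 5, 1], 5), ([6, 2, 6, 1, 6, 2, 5, 1, 5, 2, 6, 1, 5, 2, 5, 1], 1), ([2, 6, 6, 1, 6, 2, 5, 1, 5, 2, 5, 1, 6, 2, 6, 1, 5, 2, 5, 1], 1), ([4, 6, 3, 2, 6, 1, 6, 2, 5, 1, 5, 4, 5, 3, 6, 2, 6, 1, 5, 2, 5, 1], 1), ([3, 6, 4, 2, 6, 1, 6, 2, 5, 1, 5, 3, 5, 4, 6, 2, 6, 1, 5, 2, 5, 1], 1), ([6, 4, 6, 3, 5, 4, 5, 3, 6, 2, 6, 1, 5, 2, 5, 1, 6, 2, 6, 1, 5, 2, 5, 1], 1), ([6, 3, 6, 4, 5, 3, 5, 4, 2, 6, 1, 6, 2, 5, 1, 5, 2, 6, 1, 6, 2, 5, 1, 5], 1), ([2, 6, 1, 4, 6, 3, 2, 5, 1, 4, 5, 3, 6, 2, 6, 1,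 5, 2, 5, 1], 1), ([2, 6, 1, 3, 6, 4, 2, 5, 1, 3, 5, 4], 1), ([4, 6, 3, 3, 6, 4, 4, 5, 3, 3, 5, 4, 6, 2, 6, 1, 5, 2, 5, 1], 1), ([2, 2, 5, 1, 1, 5, 5], 1), ([2, 4, 5, 3, 1, 3, 6, 4, 6, 4, 5, 5, 3], 1), ([2, 3, 5, 4, 1, 3, 6, 4, 6, 3, 6, 4, 4, 5, 3, 2, 5, 1, 6], 1), ([2, 6, 2, 6, 1, 5, 2, 5, 1, 6, 1, 6, 2, 5, 1, 5, 2, 6, 1, 6, 2, 5, 1, 5], 1), ([4, 2, 5, 1, 3, 3, 5, 4, 5, 3, 5, 4, 4, 6, 3, 2, 6, 1], 1), ([4, 4, 5, 3, 5, 5, 3, 3, 6, 4, 6, 6], 1), ([4, 6, 2, 6, 1, 5, 2, 5, 1, 3, 2, 6, 1, 6, 2, 5, 1, 5], 1)]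

def subs : List (List Nat) := [[1], [3]]

noncomputable def P : Par := ⟨tab, 308, 521481209941628438084722096232800809229175908778479680162851955034721612739414196782949728255, 5182, icG 6 iv, lw⟩

end Cfsg.Agent.CosetEnum.LYP
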