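import Cfsg.Agent.CosetEnum.Ly.Raw
import Cfsg.Agent.CosetEnum.Ly.MatR0
import Cfsg.Agent.CosetEnum.Ly.MatR1
import Cfsg.Agent.CosetEnum.Ly.MatR2
import Cfsg.Agent.CosetEnum.Ly.MatR3
import Cfsg.Agent.CosetEnum.Ly.MatR4
import Cfsg.Agent.CosetEnum.Ly.MatR5

/-!
The representation of degree 111 over the field of order 5 (owner: helper66).
-/

set_option autoImplicit false
set_option maxRecDepth 1000000
set_option linter.all false

namespace Cfsg.Agent.LyG

open Cfsg.Agent.CosetEnum Cfsg.Agent.KMat Cfsg.Spor

theorem repCov : Cov (prB PM ms prsM) 0 111 :=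
  ((((rc0.trans rc1).trans rc2).trans rc3).trans rc4).trans rc5

theorem mok {x : ℕ} (h : 1 ≤ x ∧ x ≤ 15) : MatOK PM (ms x) := by
  refine matB_sound mokA x ?_
  rw [List.mem_range'_1]
  omega

theorem memM {x : ℕ} : x ∈ letsM ↔ isLet 15 x = true := by
  rw [isLet_iff]
  simp only [letsM, List.mem_cons, List.not_mem_nil, or_false]
  omega

theorem RT : RepOK PM ms 15 ivG letsM RLG where
  ok := PM_ok
  p1 := by show 1 < 5; norm_num
  st := stM
  mok x hx := by
    apply mok
    simp only [letsM, List.mem_cons, List.not_mem_nil, or_false] at hx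
    omega
  cov := repCov

/-- invertible matrices -/
abbrev MU : Type := (Matrix (Fin PM.n) (Fin PM.n) (ZMod PM.p))ˣ

/-- the representation -/
noncomputable def phi : Spor.Ly →* MU := (exists_hom RT.good).choose

theorem phi_gL (x : ℕ) : phi (gL x) = RT.gm x := (exists_hom RT.good).choose_spec x

theorem phi_ev (w : List ℕ) : phi (ev gL w) = ev RT.gm w := by
  unfold ev
  rw [map_list_prod, List.map_map]
  congr 1
  apply List.map_congr_left
  intro x _
  exact phi_gL x

/-- a vector moved by `c` -/
theorem c_ne : gL 7 ≠ 1 := by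
  intro h
  have h1 := congrArg phi h
  rw [phi_gL, map_one] at h1
  refine RT.ne (u := [7]) (u' := []) ?_ (by simp) (v := 2 ^ (12 * 0)) ?_ (by decide +kernel) (by simpa using h1)
  · intro x hx
    simp only [List.mem_cons, List.not_mem_nil, or_false] at hx
    subst hx
    decide
  · exact basis_vec (P := PM) (i := 0) (by show 1 < 5; norm_num) (by show 0 < 111; norm_num)

end Cfsg.Agent.LyG
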