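import Cfsg.Agent.CosetEnum.Cox
import Cfsg.Agent.CosetEnum.Ly.Index
import Cfsg.Prelude.Def_Spor_Ly

/-!
The presented Lyons group with letters (generated, owner: helper66).
-/

set_option autoImplicit false
set_option maxRecDepth 1000000
set_option linter.all false

namespace Cfsg.Agent.LyG

open Cfsg.Agent.CosetEnum Cfsg.Spor Cfsg.Spor.Ly

/-- expressions in the generators -/
inductive FE where
  | g (x : Gen)
  | m (a b : FE)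
  | i (a : FE)
  | p (a : FE) (n : ℕ)
  deriving DecidableEq

/-- the element of the free group -/
def den : FE → FreeGroup Gen
  | .g x => FreeGroup.of x
  | .m a b => den a * den b
  | .i a => (den a)⁻¹
  | .p a n => den a ^ n

/-- the generators as words in the letters -/
def wx : Gen → List ℕ
  | .a => [1]
  | .b => [9]
  | .c => [7]
  | .d => [11]
  | .z => [14]
  | .e => [13]
  | .a1 => [1]
  | .a2 => [3]
  | .a3 => [5]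
  | .a4 => [10, 10, 1, 9, 9]
  | .c1 => [7]
  | .c2 => [2, 7, 1]
  | .c3 => [10, 7, 9]
  | .c4 => [9, 7, 10]
  | .c5 => [8, 2, 8, 1, 7, 2, 7, 1]
  | .u => [1, 1]
  | .x23 => [11]
  | .x24 => [12]
  | .x25 => [9, 9, 2, 10, 2, 9, 9, 8, 1, 7, 2, 8, 11, 8, 9, 9, 2, 7, 9]
  | .x29 => [1, 9, 2, 9, 9, 2, 9, 9, 8, 1, 7, 9, 7, 10, 11, 7, 10, 10, 11, 7, 9, 7]
  | .x47 => [8, 12, 2, 8, 2, 9, 8, 12]
  | .x96 => [9, 11]
  | .x129 => [12, 10]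
  | .x162 => [2, 10, 2, 9, 8, 10, 1, 8, 9, 1]
  | .x163 => [10, 10, 1, 7, 2, 9, 7, 9]
  | .x164 => [2, 10, 2, 7, 1, 9, 1]
  | .x165 => [10, 2, 9, 7, 10, 1, 9]
  | .x166 => [9, 9, 2, 10, 7, 9, 1, 7, 10, 10, 8]
  | .x167 => [2, 2, 2]
  | .x168 => [9, 2, 10, 2, 2]
  | .x169 => [1, 9, 9, 1, 10, 10, 2]
  | .x364 => [2, 11, 10, 8, 2, 9, 8, 12, 9, 8, 10, 2, 8, 1, 10, 1, 9, 1, 10]
  | .x365 => [1, 10, 10, 2, 7, 9, 8, 9, 2, 8, 8, 11, 7, 1, 7, 2, 7, 10, 12]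
  | .x366 => [9, 1, 10, 2, 10, 10, 2, 10, 7, 9, 9, 7, 9, 11, 7, 10, 10, 11, 7, 9, 7]
  | .x367 => [8, 10, 8, 12, 9, 9, 8, 12, 10, 8, 10, 10, 8, 9, 1, 9, 9, 1, 9, 2, 10]
  | .x368 => [2, 8, 12, 1, 8, 10, 1, 8, 12, 2, 8, 1, 7, 10, 10, 8, 10, 2, 10, 10]
  | .x369 => [2, 8, 12, 9, 2, 10, 8, 12, 9, 2, 10, 8, 10, 1, 10, 10, 1, 10]
  | .x370 => [12, 1, 7, 9, 7, 2, 8, 12, 1, 10, 2, 7, 2, 10, 10, 2, 9, 2]
  | .x371 => [8, 2, 7, 9, 8, 12, 7, 2, 7, 1, 7, 10, 2, 10, 2, 9]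

/-- repetition -/
def rpl (w : List ℕ) : ℕ → List ℕ
  | 0 => []
  | n + 1 => rpl w n ++ w

/-- the word of an expression -/
def flat : FE → List ℕ
  | .g x => wx x
  | .m a b => flat a ++ flat b
  | .i a => iw (flat a)
  | .p a n => rpl (flat a) n

/-- cancellation -/
def redc (x : ℕ) : List ℕ → List ℕ
  | [] => [x]
  | y :: l => if Nat.beq (ivL ivG x) y then l else x :: y :: l

/-- free reduction -/
def rd : List ℕ → List ℕ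
  | [] => []
  | x :: l => redc x (rd l)

/-- generators of an expression -/
def gns : FE → List Gen
  | .g x => [x]
  | .m a b => gns a ++ gns b
  | .i a => gns a
  | .p a _ => gns a

/-- the relators -/
def ex : List FE := [
  (.p (.g .a) 8),
  (.p (.g .b) 5),
  (.p (.m (.g .a) (.g .b)) 4),
  (.m (.m (.m (.i (.p (.g .a) 2)) (.i (.g .b))) (.p (.g .a) 2)) (.g .b)),
  (.p (.m (.m (.m (.i (.g .a)) (.i (.g .b))) (.g .a)) (.g .b)) 3),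
  (.m (.g .c1) (.i (.g .c))),
  (.m (.g .c2) (.i (.m (.m (.i (.g .a)) (.g .c)) (.g .a)))),
  (.m (.g .c3) (.i (.m (.m (.i (.g .b)) (.g .c)) (.g .b)))),
  (.m (.g .c4) (.i (.m (.m (.i (.i (.g .b))) (.g .c)) (.i (.g .b))))),
  (.m (.g .c5) (.i (.m (.m (.m (.i (.g .c1)) (.i (.g .c2))) (.g .c1)) (.g .c2)))),
  (.p (.g .c1) 5),
  (.p (.g .c5) 5),
  (.m (.m (.m (.i (.g .c1)) (.i (.g .c5))) (.g .c1)) (.g .c5)),
  (.m (.m (.m (.i (.g .c2)) (.i (.g .c5))) (.g .c2)) (.g .c5)),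
  (.m (.m (.m (.i (.g .c3)) (.i (.g .c5))) (.g .c3)) (.g .c5)),
  (.m (.m (.m (.i (.g .c4)) (.i (.g .c5))) (.g .c4)) (.g .c5)),
  (.m (.m (.m (.m (.i (.g .c1)) (.i (.g .c3))) (.g .c1)) (.g .c3)) (.i (.i (.p (.g .c5) 2)))),
  (.m (.m (.m (.m (.i (.g .c1)) (.i (.g .c4))) (.g .c1)) (.g .c4)) (.i (.p (.g .c5) 2))),
  (.m (.m (.m (.m (.i (.g .c2)) (.i (.g .c3))) (.g .c2)) (.g .c3)) (.i (.i (.g .c5)))),
  (.m (.m (.m (.i (.g .c2)) (.i (.g .c4))) (.g .c2)) (.g .c4)),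
  (.m (.m (.m (.m (.i (.g .c3)) (.i (.g .c4))) (.g .c3)) (.g .c4)) (.i (.i (.g .c5)))),
  (.m (.m (.m (.i (.g .a)) (.g .c2)) (.g .a)) (.i (.i (.p (.g .c1) 2)))),
  (.m (.m (.m (.i (.g .a)) (.g .c3)) (.g .a)) (.i (.m (.m (.i (.p (.g .c3) 2)) (.g .c1)) (.g .c4)))),
  (.m (.m (.m (.i (.g .a)) (.g .c4)) (.g .a)) (.i (.m (.m (.m (.m (.m (.g .c1) (.i (.g .c2))) (.i (.g .c3))) (.g .c4)) (.g .c1)) (.g .c4)))),
  (.m (.m (.m (.i (.g .a)) (.g .c5)) (.g .a)) (.i (.p (.g .c5) 2))),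
  (.m (.m (.m (.i (.g .b)) (.g .c2)) (.g .b)) (.i (.m (.m (.m (.m (.g .c2) (.g .c3)) (.i (.g .c4))) (.i (.g .c1))) (.i (.g .c4))))),
  (.m (.m (.m (.i (.g .b)) (.g .c3)) (.g .b)) (.i (.m (.m (.p (.g .c1) 2) (.g .c4)) (.i (.p (.g .c3) 2))))),
  (.m (.m (.m (.i (.g .b)) (.g .c5)) (.g .b)) (.i (.g .c5))),
  (.m (.g .e) (.i (.m (.m (.m (.m (.m (.m (.m (.m (.m (.m (.m (.m (.i (.p (.g .b) 2)) (.m (.m (.m (.i (.g .a)) (.i (.g .c1))) (.g .a)) (.g .c1))) (.i (.g .a))) (.g .c1)) (.g .a)) (.g .d)) (.g .c1)) (.g .b)) (.g .a)) (.i (.g .b))) (.g .d)) (.g .c1)) (.g .d)))),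
  (.p (.g .e) 2),
  (.m (.m (.m (.i (.g .e)) (.g .c1)) (.g .e)) (.i (.m (.m (.m (.g .b) (.g .c3)) (.g .b)) (.i (.g .c1))))),
  (.m (.m (.m (.i (.g .e)) (.g .c3)) (.g .e)) (.i (.m (.m (.m (.m (.m (.p (.g .b) 2) (.g .a)) (.g .c2)) (.i (.g .c1))) (.i (.g .c4))) (.i (.g .a))))),
  (.m (.m (.m (.i (.g .e)) (.g .c4)) (.g .e)) (.i (.m (.m (.p (.g .b) 2) (.i (.g .c3))) (.g .c4)))),
  (.m (.m (.m (.i (.g .e)) (.g .c5)) (.g .e)) (.i (.m (.m (.m (.g .c1) (.i (.g .c3))) (.g .c1)) (.i (.g .c4))))),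
  (.m (.m (.m (.g .e) (.p (.g .a) 2)) (.g .e)) (.i (.m (.m (.m (.m (.m (.m (.m (.g .a) (.p (.g .b) 2)) (.g .a)) (.i (.g .b))) (.g .a)) (.g .c1)) (.g .c5)) (.i (.g .c4))))),
  (.m (.m (.m (.i (.g .e)) (.g .b)) (.g .e)) (.i (.m (.m (.g .c1) (.i (.g .c3))) (.i (.p (.g .c4) 2))))),
  (.m (.m (.m (.m (.m (.m (.m (.g .e) (.g .a)) (.p (.g .b) 2)) (.g .a)) (.i (.g .b))) (.g .a)) (.g .e)) (.i (.m (.m (.m (.p (.g .a) 2) (.g .c1)) (.g .c5)) (.i (.g .c4))))),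
  (.m (.m (.m (.m (.m (.m (.m (.m (.m (.g .e) (.g .c2)) (.g .e)) (.i (.g .c2))) (.g .e)) (.g .c2)) (.i (.g .c4))) (.g .a)) (.g .c3)) (.p (.g .a) 3)),
  (.m (.g .d) (.i (.m (.m (.m (.m (.m (.m (.m (.m (.m (.m (.m (.m (.m (.m (.g .a) (.p (.g .b) 2)) (.i (.g .a))) (.i (.g .b))) (.i (.g .c1))) (.i (.g .c4))) (.i (.g .c5))) (.g .a)) (.g .e)) (.g .a)) (.g .e)) (.g .a)) (.i (.g .c2))) (.g .b)) (.g .e)))),
  (.m (.p (.g .d) 2) (.i (.p (.g .a) 4))),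
  (.m (.m (.m (.i (.g .b)) (.i (.g .d))) (.g .b)) (.g .d)),
  (.m (.m (.m (.i (.g .d)) (.g .a)) (.g .d)) (.i (.p (.g .a) 3))),
  (.p (.m (.g .d) (.g .c5)) 5),
  (.m (.m (.m (.m (.m (.m (.g .d) (.g .c5)) (.g .d)) (.i (.g .c5))) (.g .d)) (.g .c5)) (.i (.p (.g .a) 2))),
  (.m (.g .a1) (.i (.g .a))),
  (.m (.g .a2) (.i (.m (.m (.i (.i (.g .b))) (.g .a)) (.i (.g .b))))),
  (.m (.g .a3) (.i (.m (.m (.i (.i (.p (.g .b) 2))) (.g .a)) (.i (.p (.g .b) 2))))),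
  (.m (.g .a4) (.i (.m (.m (.i (.p (.g .b) 2)) (.g .a)) (.p (.g .b) 2)))),
  (.m (.g .u) (.i (.p (.g .a) 2))),
  (.m (.g .x23) (.i (.g .d))),
  (.m (.g .x24) (.i (.i (.g .d)))),
  (.m (.g .x25) (.i (.m (.m (.m (.m (.m (.m (.m (.m (.m (.m (.m (.m (.m (.m (.m (.p (.g .b) 2) (.i (.g .a))) (.i (.g .b))) (.i (.g .a))) (.p (.g .b) 2)) (.i (.g .c))) (.g .a)) (.g .c)) (.i (.g .a))) (.i (.g .c))) (.g .d)) (.i (.g .c))) (.p (.g .b) 2)) (.i (.g .a))) (.g .c)) (.g .b)))),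
  (.m (.g .x29) (.i (.m (.m (.m (.m (.m (.m (.m (.m (.m (.m (.m (.m (.m (.m (.m (.m (.m (.m (.g .a) (.g .b)) (.i (.g .a))) (.p (.g .b) 2)) (.i (.g .a))) (.p (.g .b) 2)) (.i (.g .c))) (.g .a)) (.g .c)) (.g .b)) (.g .c)) (.i (.g .b))) (.g .d)) (.g .c)) (.i (.p (.g .b) 2))) (.g .d)) (.g .c)) (.g .b)) (.g .c)))),
  (.m (.g .x47) (.i (.m (.m (.m (.m (.m (.m (.m (.i (.g .c)) (.i (.g .d))) (.i (.g .a))) (.i (.g .c))) (.i (.g .a))) (.g .b)) (.i (.g .c))) (.i (.g .d))))),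
  (.m (.g .x96) (.i (.m (.g .b) (.g .d)))),
  (.m (.g .x129) (.i (.m (.i (.g .d)) (.i (.g .b))))),
  (.m (.g .x162) (.i (.m (.m (.m (.m (.m (.m (.m (.m (.m (.i (.g .a)) (.i (.g .b))) (.i (.g .a))) (.g .b)) (.i (.g .c))) (.i (.g .b))) (.g .a)) (.i (.g .c))) (.g .b)) (.g .a)))),
  (.m (.g .x163) (.i (.m (.m (.m (.m (.m (.m (.i (.p (.g .b) 2)) (.g .a)) (.g .c)) (.i (.g .a))) (.g .b)) (.g .c)) (.g .b)))),
  (.m (.g .x164) (.i (.m (.m (.m (.m (.m (.m (.i (.g .a)) (.i (.g .b))) (.i (.g .a))) (.g .c)) (.g .a)) (.g .b)) (.g .a)))),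
  (.m (.g .x165) (.i (.m (.m (.m (.m (.m (.m (.i (.g .b)) (.i (.g .a))) (.g .b)) (.g .c)) (.i (.g .b))) (.g .a)) (.g .b)))),
  (.m (.g .x166) (.i (.m (.m (.m (.m (.m (.m (.m (.m (.p (.g .b) 2) (.i (.g .a))) (.i (.g .b))) (.g .c)) (.g .b)) (.g .a)) (.g .c)) (.i (.p (.g .b) 2))) (.i (.g .c))))),
  (.m (.g .x167) (.i (.i (.p (.g .a) 3)))),
  (.m (.g .x168) (.i (.m (.m (.m (.g .b) (.i (.g .a))) (.i (.g .b))) (.i (.p (.g .a) 2))))),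
  (.m (.g .x169) (.i (.m (.m (.m (.m (.g .a) (.p (.g .b) 2)) (.g .a)) (.i (.p (.g .b) 2))) (.i (.g .a))))),
  (.m (.g .x364) (.i (.m (.m (.m (.m (.m (.m (.m (.m (.m (.m (.m (.m (.m (.m (.m (.m (.m (.m (.i (.g .a)) (.g .d)) (.i (.g .b))) (.i (.g .c))) (.i (.g .a))) (.g .b)) (.i (.g .c))) (.i (.g .d))) (.g .b)) (.i (.g .c))) (.i (.g .b))) (.i (.g .a))) (.i (.g .c))) (.g .a)) (.i (.g .b))) (.g .a)) (.g .b)) (.g .a)) (.i (.g .b))))),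
  (.m (.g .x365) (.i (.m (.m (.m (.m (.m (.m (.m (.m (.m (.m (.m (.m (.m (.m (.m (.m (.g .a) (.i (.p (.g .b) 2))) (.i (.g .a))) (.g .c)) (.g .b)) (.i (.g .c))) (.g .b)) (.i (.g .a))) (.i (.p (.g .c) 2))) (.g .d)) (.g .c)) (.g .a)) (.g .c)) (.i (.g .a))) (.g .c)) (.i (.g .b))) (.i (.g .d))))),
  (.m (.g .x366) (.i (.m (.m (.m (.m (.m (.m (.m (.m (.m (.m (.m (.m (.m (.m (.m (.m (.m (.g .b) (.g .a)) (.i (.g .b))) (.i (.g .a))) (.i (.p (.g .b) 2))) (.i (.g .a))) (.i (.g .b))) (.g .c)) (.p (.g .b) 2)) (.g .c)) (.g .b)) (.g .d)) (.g .c)) (.i (.p (.g .b) 2))) (.g .d)) (.g .c)) (.g .b)) (.g .c)))),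
  (.m (.g .x367) (.i (.m (.m (.m (.m (.m (.m (.m (.m (.m (.m (.m (.m (.m (.m (.m (.m (.m (.i (.g .c)) (.i (.g .b))) (.i (.g .c))) (.i (.g .d))) (.p (.g .b) 2)) (.i (.g .c))) (.i (.g .d))) (.i (.g .b))) (.i (.g .c))) (.i (.p (.g .b) 2))) (.i (.g .c))) (.g .b)) (.g .a)) (.p (.g .b) 2)) (.g .a)) (.g .b)) (.i (.g .a))) (.i (.g .b))))),
  (.m (.g .x368) (.i (.m (.m (.m (.m (.m (.m (.m (.m (.m (.m (.m (.m (.m (.m (.m (.m (.m (.i (.g .a)) (.i (.g .c))) (.i (.g .d))) (.g .a)) (.i (.g .c))) (.i (.g .b))) (.g .a)) (.i (.g .c))) (.i (.g .d))) (.i (.g .a))) (.i (.g .c))) (.g .a)) (.g .c)) (.i (.p (.g .b) 2))) (.i (.g .c))) (.i (.g .b))) (.i (.g .a))) (.i (.p (.g .b) 2))))),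
  (.m (.g .x369) (.i (.m (.m (.m (.m (.m (.m (.m (.m (.m (.m (.m (.m (.m (.m (.m (.m (.i (.g .a)) (.i (.g .c))) (.i (.g .d))) (.g .b)) (.i (.g .a))) (.i (.g .b))) (.i (.g .c))) (.i (.g .d))) (.g .b)) (.i (.g .a))) (.i (.g .b))) (.i (.g .c))) (.i (.g .b))) (.g .a)) (.i (.p (.g .b) 2))) (.g .a)) (.i (.g .b))))),
  (.m (.g .x370) (.i (.m (.m (.m (.m (.m (.m (.m (.m (.m (.m (.m (.m (.m (.m (.m (.m (.i (.g .d)) (.g .a)) (.g .c)) (.g .b)) (.g .c)) (.i (.g .a))) (.i (.g .c))) (.i (.g .d))) (.g .a)) (.i (.g .b))) (.i (.g .a))) (.g .c)) (.i (.g .a))) (.i (.p (.g .b) 2))) (.i (.g .a))) (.g .b)) (.i (.g .a))))),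
  (.m (.g .x371) (.i (.m (.m (.m (.m (.m (.m (.m (.m (.m (.m (.m (.m (.m (.m (.m (.i (.g .c)) (.i (.g .a))) (.g .c)) (.g .b)) (.i (.g .c))) (.i (.g .d))) (.g .c)) (.i (.g .a))) (.g .c)) (.g .a)) (.g .c)) (.i (.g .b))) (.i (.g .a))) (.i (.g .b))) (.i (.g .a))) (.g .b)))),
  (.m (.m (.m (.i (.g .z)) (.g .c1)) (.g .z)) (.i (.g .x162))),
  (.m (.m (.m (.i (.g .z)) (.g .c2)) (.g .z)) (.i (.g .x163))),
  (.m (.m (.m (.i (.g .z)) (.g .c3)) (.g .z)) (.i (.g .x164))),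
  (.m (.m (.m (.i (.g .z)) (.g .c4)) (.g .z)) (.i (.g .x165))),
  (.m (.m (.m (.i (.g .z)) (.g .c5)) (.g .z)) (.i (.g .x166))),
  (.m (.m (.m (.i (.g .z)) (.g .a1)) (.g .z)) (.i (.g .x167))),
  (.m (.m (.m (.i (.g .z)) (.g .a2)) (.g .z)) (.i (.g .x168))),
  (.m (.m (.m (.i (.g .z)) (.g .a3)) (.g .z)) (.i (.g .x169))),
  (.m (.p (.g .z) 2) (.i (.g .u))),
  (.m (.p (.m (.g .a4) (.g .z)) 3) (.g .u)),
  (.m (.m (.m (.m (.m (.g .x47) (.g .z)) (.g .x364)) (.g .z)) (.g .x368)) (.g .z)),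
  (.m (.m (.m (.m (.m (.m (.m (.i (.g .z)) (.g .x24)) (.i (.g .z))) (.g .x369)) (.g .z)) (.g .x23)) (.g .z)) (.g .x29)),
  (.m (.m (.m (.m (.m (.m (.m (.g .z) (.g .x366)) (.g .z)) (.g .x365)) (.i (.g .z))) (.g .x367)) (.i (.g .z))) (.g .x370)),
  (.m (.m (.m (.m (.m (.m (.m (.g .z) (.g .x96)) (.g .z)) (.g .x25)) (.i (.g .z))) (.g .x129)) (.i (.g .z))) (.g .x371))]

/-- the reduced words of the relators -/
def exf : List (List ℕ) := [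
  [1, 1, 1, 1, 1, 1, 1, 1],
  [9, 9, 9, 9, 9],
  [1, 9, 1, 9, 1, 9, 1, 9],
  [2, 2, 10, 1, 1, 9],
  [2, 10, 1, 9, 2, 10, 1, 9, 2, 10, 1, 9],
  [],
  [],
  [],
  [],
  [],
  [7, 7, 7, 7, 7],
  [8, 2, 8, 1, 7, 2, 7, 1, 8, 2, 8, 1, 7, 2, 7, 1, 8, 2, 8, 1, 7, 2, 7, 1, 8, 2, 8, 1, 7, 2, 7, 1, 8, 2, 8, 1, 7, 2, 7, 1],
  [8, 2, 8, 1, 8, 2, 7, 1, 7, 2, 8, 1, 7, 2, 7, 1],
  [2, 8, 8, 1, 8, 2, 7, 1, 7, 2, 7, 1, 8, 2, 8, 1, 7, 2, 7, 1],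
  [10, 8, 9, 2, 8, 1, 8, 2, 7, 1, 7, 10, 7, 9, 8, 2, 8, 1, 7, 2, 7, 1],
  [9, 8, 10, 2, 8, 1, 8, 2, 7, 1, 7, 9, 7, 10, 8, 2, 8, 1, 7, 2, 7, 1],
  [8, 10, 8, 9, 7, 10, 7, 9, 8, 2, 8, 1, 7, 2, 7, 1, 8, 2, 8, 1, 7, 2, 7, 1],
  [8, 9, 8, 10, 7, 9, 7, 10, 2, 8, 1, 8, 2, 7, 1, 7, 2, 8, 1, 8, 2, 7, 1, 7],
  [2, 8, 1, 10, 8, 9, 2, 7, 1, 10, 7, 9, 8, 2, 8, 1, 7, 2, 7, 1],
  [2, 8, 1, 9, 8, 10, 2, 7, 1, 9, 7, 10],
  [10, 8, 9, 9, 8, 10, 10, 7, 9, 9, 7, 10, 8, 2, 8, 1, 7, 2, 7, 1],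
  [2, 2, 7, 1, 1, 7, 7],
  [2, 10, 7, 9, 1, 9, 8, 10, 8, 10, 7, 7, 9],
  [2, 9, 7, 10, 1, 9, 8, 10, 8, 9, 8, 10, 10, 7, 9, 2, 7, 1, 8],
  [2, 8, 2, 8, 1, 7, 2, 7, 1, 8, 1, 8, 2, 7, 1, 7, 2, 8, 1, 8, 2, 7, 1, 7],
  [10, 2, 7, 1, 9, 9, 7, 10, 7, 9, 7, 10, 10, 8, 9, 2, 8, 1],
  [10, 10, 7, 9, 7, 7, 9, 9, 8, 10, 8, 8],
  [10, 8, 2, 8, 1, 7, 2, 7, 1, 9, 2, 8, 1, 8, 2, 7, 1, 7],
  [13, 12, 8, 12, 9, 2, 10, 8, 12, 2, 8, 1, 8, 2, 7, 1, 9, 9],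
  [],
  [13, 7, 13, 7, 10, 10, 8],
  [13, 10, 7, 9, 13, 1, 9, 7, 10, 7, 2, 8, 10, 10],
  [13, 9, 7, 10, 13, 9, 8, 10, 10, 7, 10],
  [13, 8, 2, 8, 1, 7, 2, 7, 1, 13, 9, 7, 10, 8, 10, 7, 9, 8],
  [13, 1, 1, 13, 9, 7, 10, 2, 8, 1, 8, 2, 7, 9, 2, 10, 10, 2],
  [13, 9, 13, 9, 7, 7, 10, 10, 7, 9, 8],
  [13, 1, 9, 9, 1, 10, 1, 13, 9, 7, 10, 2, 8, 1, 8, 2, 7, 2],
  [13, 2, 7, 1, 13, 2, 8, 1, 13, 2, 7, 1, 9, 8, 10, 1, 10, 7, 9, 1, 1, 1],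
  [11, 13, 10, 2, 7, 13, 2, 13, 2, 8, 2, 8, 1, 7, 2, 7, 1, 9, 7, 10, 7, 9, 1, 10, 10, 2],
  [11, 11, 2, 2, 2, 2],
  [10, 12, 9, 11],
  [12, 1, 11, 2, 2, 2],
  [11, 8, 2, 8, 1, 7, 2, 7, 1, 11, 8, 2, 8, 1, 7, 2, 7, 1, 11, 8, 2, 8, 1, 7, 2, 7, 1, 11, 8, 2, 8, 1, 7, 2, 7, 1, 11, 8, 2, 8, 1, 7, 2, 7, 1],
  [11, 8, 2, 8, 1, 7, 2, 7, 1, 11, 2, 8, 1, 8, 2, 7, 1, 7, 11, 8, 2, 8, 1, 7, 2, 7, 2],
  [],
  [3, 9, 2, 10],
  [5, 9, 9, 2, 10, 10],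
  [],
  [],
  [],
  [],
  [],
  [],
  [],
  [],
  [],
  [],
  [],
  [],
  [],
  [],
  [],
  [],
  [],
  [],
  [],
  [],
  [],
  [],
  [],
  [],
  [],
  [15, 7, 14, 2, 10, 7, 2, 9, 7, 10, 1, 9, 1],
  [15, 2, 7, 1, 14, 10, 8, 10, 1, 8, 2, 9, 9],
  [15, 10, 7, 9, 14, 2, 10, 2, 8, 1, 9, 1],
  [15, 9, 7, 10, 14, 10, 2, 9, 8, 10, 1, 9],
  [15, 8, 2, 8, 1, 7, 2, 7, 1, 14, 7, 9, 9, 8, 2, 10, 8, 9, 1, 10, 10],
  [15, 1, 14, 1, 1, 1],
  [15, 3, 14, 1, 1, 9, 1, 10],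
  [15, 5, 14, 1, 9, 9, 2, 10, 10, 2],
  [14, 14, 2, 2],
  [10, 10, 1, 9, 9, 14, 10, 10, 1, 9, 9, 14, 10, 10, 1, 9, 9, 14, 1, 1],
  [8, 12, 2, 8, 2, 9, 8, 12, 14, 2, 11, 10, 8, 2, 9, 8, 12, 9, 8, 10, 2, 8, 1, 10, 1, 9, 1, 10, 14, 2, 8, 12, 1, 8, 10, 1, 8, 12, 2, 8, 1, 7, 10, 10, 8, 10, 2, 10, 10, 14],
  [15, 12, 15, 2, 8, 12, 9, 2, 10, 8, 12, 9, 2, 10, 8, 10, 1, 10, 10, 1, 10, 14, 11, 14, 1, 9, 2, 9, 9, 2, 9, 9, 8, 1, 7, 9, 7, 10, 11, 7, 10, 10, 11, 7, 9, 7],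
  [14, 9, 1, 10, 2, 10, 10, 2, 10, 7, 9, 9, 7, 9, 11, 7, 10, 10, 11, 7, 9, 7, 14, 1, 10, 10, 2, 7, 9, 8, 9, 2, 8, 8, 11, 7, 1, 7, 2, 7, 10, 12, 15, 8, 10, 8, 12, 9, 9, 8, 12, 10, 8, 10, 10, 8, 9, 1, 9, 9, 1, 9, 2, 10, 15, 12, 1, 7, 9, 7, 2, 8, 12, 1, 10, 2, 7, 2, 10, 10, 2, 9, 2],
  [14, 9, 11, 14, 9, 9, 2, 10, 2, 9, 9, 8, 1, 7, 2, 8, 11, 8, 9, 9, 2, 7, 9, 15, 12, 10, 15, 8, 2, 7, 9, 8, 12, 7, 2, 7, 1, 7, 10, 2, 10, 2, 9]]

/-- consequences of the relations -/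
def sp : List (List ℕ) := [[3, 9, 2, 10], [5, 9, 9, 2, 10, 10], [15, 2, 7, 1, 14, 10, 8, 10, 1, 8, 2, 9, 9], [15, 10, 7, 9, 14, 2, 10, 2, 8, 1, 9, 1], [15, 9, 7, 10, 14, 10, 2, 9, 8, 10, 1, 9], [15, 8, 2, 8, 1, 7, 2, 7, 1, 14, 7, 9, 9, 8, 2, 10, 8, 9, 1, 10, 10]]

/-- definitions of the auxiliary generators -/
def dl : List (Gen × FE) := [
  (.c1, (.g .c)),
  (.c2, (.m (.m (.i (.g .a)) (.g .c)) (.g .a))),
  (.c3, (.m (.m (.i (.g .b)) (.g .c)) (.g .b))),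
  (.c4, (.m (.m (.i (.i (.g .b))) (.g .c)) (.i (.g .b)))),
  (.c5, (.m (.m (.m (.i (.g .c1)) (.i (.g .c2))) (.g .c1)) (.g .c2))),
  (.a4, (.m (.m (.i (.p (.g .b) 2)) (.g .a)) (.p (.g .b) 2))),
  (.u, (.p (.g .a) 2)),
  (.x23, (.g .d)),
  (.x24, (.i (.g .d))),
  (.x25, (.m (.m (.m (.m (.m (.m (.m (.m (.m (.m (.m (.m (.m (.m (.m (.p (.g .b) 2) (.i (.g .a))) (.i (.g .b))) (.i (.g .a))) (.p (.g .b) 2)) (.i (.g .c))) (.g .a)) (.g .c)) (.i (.g .a))) (.i (.g .c))) (.g .d)) (.i (.g .c))) (.p (.g .b) 2)) (.i (.g .a))) (.g .c)) (.g .b))),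
  (.x29, (.m (.m (.m (.m (.m (.m (.m (.m (.m (.m (.m (.m (.m (.m (.m (.m (.m (.m (.g .a) (.g .b)) (.i (.g .a))) (.p (.g .b) 2)) (.i (.g .a))) (.p (.g .b) 2)) (.i (.g .c))) (.g .a)) (.g .c)) (.g .b)) (.g .c)) (.i (.g .b))) (.g .d)) (.g .c)) (.i (.p (.g .b) 2))) (.g .d)) (.g .c)) (.g .b)) (.g .c))),
  (.x47, (.m (.m (.m (.m (.m (.m (.m (.i (.g .c)) (.i (.g .d))) (.i (.g .a))) (.i (.g .c))) (.i (.g .a))) (.g .b)) (.i (.g .c))) (.i (.g .d)))),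
  (.x96, (.m (.g .b) (.g .d))),
  (.x129, (.m (.i (.g .d)) (.i (.g .b)))),
  (.x162, (.m (.m (.m (.m (.m (.m (.m (.m (.m (.i (.g .a)) (.i (.g .b))) (.i (.g .a))) (.g .b)) (.i (.g .c))) (.i (.g .b))) (.g .a)) (.i (.g .c))) (.g .b)) (.g .a))),
  (.x163, (.m (.m (.m (.m (.m (.m (.i (.p (.g .b) 2)) (.g .a)) (.g .c)) (.i (.g .a))) (.g .b)) (.g .c)) (.g .b))),
  (.x164, (.m (.m (.m (.m (.m (.m (.i (.g .a)) (.i (.g .b))) (.i (.g .a))) (.g .c)) (.g .a)) (.g .b)) (.g .a))),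
  (.x165, (.m (.m (.m (.m (.m (.m (.i (.g .b)) (.i (.g .a))) (.g .b)) (.g .c)) (.i (.g .b))) (.g .a)) (.g .b))),
  (.x166, (.m (.m (.m (.m (.m (.m (.m (.m (.p (.g .b) 2) (.i (.g .a))) (.i (.g .b))) (.g .c)) (.g .b)) (.g .a)) (.g .c)) (.i (.p (.g .b) 2))) (.i (.g .c)))),
  (.x167, (.i (.p (.g .a) 3))),
  (.x168, (.m (.m (.m (.g .b) (.i (.g .a))) (.i (.g .b))) (.i (.p (.g .a) 2)))),
  (.x169, (.m (.m (.m (.m (.g .a) (.p (.g .b) 2)) (.g .a)) (.i (.p (.g .b) 2))) (.i (.g .a)))),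
  (.x364, (.m (.m (.m (.m (.m (.m (.m (.m (.m (.m (.m (.m (.m (.m (.m (.m (.m (.m (.i (.g .a)) (.g .d)) (.i (.g .b))) (.i (.g .c))) (.i (.g .a))) (.g .b)) (.i (.g .c))) (.i (.g .d))) (.g .b)) (.i (.g .c))) (.i (.g .b))) (.i (.g .a))) (.i (.g .c))) (.g .a)) (.i (.g .b))) (.g .a)) (.g .b)) (.g .a)) (.i (.g .b)))),
  (.x365, (.m (.m (.m (.m (.m (.m (.m (.m (.m (.m (.m (.m (.m (.m (.m (.m (.g .a) (.i (.p (.g .b) 2))) (.i (.g .a))) (.g .c)) (.g .b)) (.i (.g .c))) (.g .b)) (.i (.g .a))) (.i (.p (.g .c) 2))) (.g .d)) (.g .c)) (.g .a)) (.g .c)) (.i (.g .a))) (.g .c)) (.i (.g .b))) (.i (.g .d)))),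
  (.x366, (.m (.m (.m (.m (.m (.m (.m (.m (.m (.m (.m (.m (.m (.m (.m (.m (.m (.g .b) (.g .a)) (.i (.g .b))) (.i (.g .a))) (.i (.p (.g .b) 2))) (.i (.g .a))) (.i (.g .b))) (.g .c)) (.p (.g .b) 2)) (.g .c)) (.g .b)) (.g .d)) (.g .c)) (.i (.p (.g .b) 2))) (.g .d)) (.g .c)) (.g .b)) (.g .c))),
  (.x367, (.m (.m (.m (.m (.m (.m (.m (.m (.m (.m (.m (.m (.m (.m (.m (.m (.m (.i (.g .c)) (.i (.g .b))) (.i (.g .c))) (.i (.g .d))) (.p (.g .b) 2)) (.i (.g .c))) (.i (.g .d))) (.i (.g .b))) (.i (.g .c))) (.i (.p (.g .b) 2))) (.i (.g .c))) (.g .b)) (.g .a)) (.p (.g .b) 2)) (.g .a)) (.g .b)) (.i (.g .a))) (.i (.g .b)))),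
  (.x368, (.m (.m (.m (.m (.m (.m (.m (.m (.m (.m (.m (.m (.m (.m (.m (.m (.m (.i (.g .a)) (.i (.g .c))) (.i (.g .d))) (.g .a)) (.i (.g .c))) (.i (.g .b))) (.g .a)) (.i (.g .c))) (.i (.g .d))) (.i (.g .a))) (.i (.g .c))) (.g .a)) (.g .c)) (.i (.p (.g .b) 2))) (.i (.g .c))) (.i (.g .b))) (.i (.g .a))) (.i (.p (.g .b) 2)))),
  (.x369, (.m (.m (.m (.m (.m (.m (.m (.m (.m (.m (.m (.m (.m (.m (.m (.m (.i (.g .a)) (.i (.g .c))) (.i (.g .d))) (.g .b)) (.i (.g .a))) (.i (.g .b))) (.i (.g .c))) (.i (.g .d))) (.g .b)) (.i (.g .a))) (.i (.g .b))) (.i (.g .c))) (.i (.g .b))) (.g .a)) (.i (.p (.g .b) 2))) (.g .a)) (.i (.g .b)))),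
  (.x370, (.m (.m (.m (.m (.m (.m (.m (.m (.m (.m (.m (.m (.m (.m (.m (.m (.i (.g .d)) (.g .a)) (.g .c)) (.g .b)) (.g .c)) (.i (.g .a))) (.i (.g .c))) (.i (.g .d))) (.g .a)) (.i (.g .b))) (.i (.g .a))) (.g .c)) (.i (.g .a))) (.i (.p (.g .b) 2))) (.i (.g .a))) (.g .b)) (.i (.g .a)))),
  (.x371, (.m (.m (.m (.m (.m (.m (.m (.m (.m (.m (.m (.m (.m (.m (.m (.i (.g .c)) (.i (.g .a))) (.g .c)) (.g .b)) (.i (.g .c))) (.i (.g .d))) (.g .c)) (.i (.g .a))) (.g .c)) (.g .a)) (.g .c)) (.i (.g .b))) (.i (.g .a))) (.i (.g .b))) (.i (.g .a))) (.g .b)))]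

theorem ex_den : ex.map den = extra := rfl

theorem ex_exf : ex.map (fun e => rd (flat e)) = exf := by decide +kernel

theorem chkA : exf.all (fun w => w == [] || sp.contains w || RLG.any (fun p => rpl p.1 p.2 == w)) = true := by
  decide +kernel

theorem chkB : RLG.all (fun p => p == ([4, 9, 1, 10], 1) || p == ([6, 9, 3, 10], 1) || exf.contains (rpl p.1 p.2)) = true := by
  decide +kernel

/-- check of the definitions -/
def chkD : List Gen → List (Gen × FE) → Bool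
  | _, [] => true
  | known, (x, E) :: l =>
    ex.contains (.m (.g x) (.i E)) && (gns E).all (fun y => known.contains y) && (rd (flat E) == wx x) && chkD (x :: known) l

theorem chkC : chkD [.a, .b, .c, .d, .z, .e, .a1, .a2, .a3] dl = true := by decide +kernel

section

variable {G : Type} [Group G] {h : ℕ → G} (hinv : ∀ x, h (ivL ivG x) = (h x)⁻¹)

theorem ev_rpl (w : List ℕ) (n : ℕ) : ev h (rpl w n) = ev h w ^ n := by
  induction n with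
  | zero => simp [rpl, ev]
  | succ n ih => rw [rpl, ev_app, ih, pow_succ]

include hinv

theorem ev_iw' (u : List ℕ) : ev h (iw u) = (ev h u)⁻¹ := prod_invW hinv u

theorem ev_flat (e : FE) : ev h (flat e) = FreeGroup.lift (fun x => ev h (wx x)) (den e) := by
  induction e with
  | g x => rw [den, FreeGroup.lift_apply_of, flat]
  | m a b iha ihb => rw [den, map_mul, flat, ev_app, iha, ihb]
  | i a ih => rw [den, map_inv, flat, ev_iw' hinv, ih]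
  | p a n ih => rw [den, map_pow, flat, ev_rpl, ih]

theorem ev_redc (x : ℕ) (l : List ℕ) : ev h (redc x l) = h x * ev h l := by
  cases l with
  | nil => simp [redc, ev]
  | cons y l =>
    rw [ev_cons]
    show ev h (if Nat.beq (ivL ivG x) y then l else x :: y :: l) = _
    by_cases hy : Nat.beq (ivL ivG x) y = true
    · rw [if_pos hy]
      have hy := Nat.eq_of_beq_eq_true hy
      rw [← hy, hinv, mul_inv_cancel_left]
    · rw [if_neg hy, ev_cons, ev_cons]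

theorem ev_rd (l : List ℕ) : ev h (rd l) = ev h l := by
  induction l with
  | nil => rfl
  | cons x l ih => rw [rd, ev_redc hinv, ih, ev_cons]

end

/-- more relations -/
theorem zrel {G : Type} [Group G] {g : ℕ → G} (hg : Good g 15 ivG RLG) {s v t w : List ℕ} (hv : wOK 8 v = true)
    (hs : eqB s v = true) (ht : eqB (al v) t = true) (hw : w = [15] ++ s ++ [14] ++ iw t) : ev g w = 1 := by
  have h1 := al_word hg hv
  rw [hw, ev_app, ev_app, ev_app, ev_iw hg, eqW hg hs, ← eqW hg ht]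
  have h2 : ev g [14] = g 14 := by simp [ev]
  have h3 : ev g [15] = (g 14)⁻¹ := by simp [ev, g15 hg]
  rw [h2, h3, mul_assoc (g 14)⁻¹, h1]
  group

theorem sp_one {G : Type} [Group G] {g : ℕ → G} (hg : Good g 15 ivG RLG) : All (fun w => ev g w = 1) sp := by
  have i4 : g 4 = (g 3)⁻¹ := hg.inv 3
  have i6 : g 6 = (g 5)⁻¹ := hg.inv 5
  have i2 : g 2 = (g 1)⁻¹ := hg.inv 1
  have i10 : g 10 = (g 9)⁻¹ := hg.inv 9
  have r3 := hg.rel ([4, 9, 1, 10], 1) (by decide +kernel)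
  have r5 := hg.rel ([6, 9, 3, 10], 1) (by decide +kernel)
  simp only [pow_one, List.map_cons, List.map_nil, List.prod_cons, List.prod_nil, mul_one, i4, i6, i10] at r3 r5
  rw [inv_mul_eq_one] at r3 r5
  refine ⟨?_, ?_, ?_, ?_, ?_, ?_, trivial⟩
  · simp only [ev, List.map_cons, List.map_nil, List.prod_cons, List.prod_nil, mul_one, i2, i10, r3]
    group
  · simp only [ev, List.map_cons, List.map_nil, List.prod_cons, List.prod_nil, mul_one, i2, i10, r5, r3]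
    group
  · exact zrel hg (s := [2, 7, 1]) (v := [2, 7, 1]) (t := [10, 10, 1, 7, 2, 9, 7, 9]) (by decide +kernel) (by decide +kernel) (by decide +kernel)
      (by decide +kernel)
  · exact zrel hg (s := [10, 7, 9]) (v := [1, 7, 1, 4, 2, 8, 2, 8, 3, 8]) (t := [2, 10, 2, 7, 1, 9, 1]) (by decide +kernel) (by decide +kernel) (by decide +kernel)
      (by decide +kernel)
  · exact zrel hg (s := [9, 7, 10]) (v := [1, 3, 2, 8, 1, 7, 4, 7, 2, 7]) (t := [10, 2, 9, 7, 10, 1, 9]) (by decide +kernel) (by decide +kernel) (by decide +kernel)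
      (by decide +kernel)
  · exact zrel hg (s := [8, 2, 8, 1, 7, 2, 7, 1]) (v := [8, 2, 8, 1, 7, 2, 7, 1]) (t := [9, 9, 2, 10, 7, 9, 1, 7, 10, 10, 8]) (by decide +kernel) (by decide +kernel) (by decide +kernel)
      (by decide +kernel)

/-- the relators hold in every group with the relations -/
theorem extra_one {G : Type} [Group G] {g : ℕ → G} (hg : Good g 15 ivG RLG) {r : FreeGroup Gen} (hr : r ∈ extra) :
    FreeGroup.lift (fun x => ev g (wx x)) r = 1 := by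
  rw [← ex_den, List.mem_map] at hr
  obtain ⟨e, he, rfl⟩ := hr
  rw [← ev_flat hg.inv, ← ev_rd hg.inv]
  have h1 : rd (flat e) ∈ exf := by
    rw [← ex_exf]
    exact List.mem_map.2 ⟨e, he, rfl⟩
  have h2 := (List.all_eq_true.1 chkA) _ h1
  simp only [Bool.or_eq_true, beq_iff_eq, List.contains_iff_mem, List.any_eq_true] at h2
  rcases h2 with (h2 | h2) | ⟨p, hp, h2⟩
  · rw [h2]; rfl
  · exact (sp_one hg).mem h2
  · rw [← h2, ev_rpl]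
    exact hg.rel p hp

abbrev V : Gen → Spor.Ly := PresentedGroup.of

/-- the letters -/
def gL : ℕ → Spor.Ly
  | 1 => V .a
  | 2 => (V .a)⁻¹
  | 3 => V .a2
  | 4 => (V .a2)⁻¹
  | 5 => V .a3
  | 6 => (V .a3)⁻¹
  | 7 => V .c
  | 8 => (V .c)⁻¹
  | 9 => V .b
  | 10 => (V .b)⁻¹
  | 11 => V .d
  | 12 => (V .d)⁻¹
  | 13 => V .e
  | 14 => V .z
  | 15 => (V .z)⁻¹
  | _ => 1

theorem raw {r : FreeGroup Gen} (hr : r ∈ extra) : FreeGroup.lift V r = 1 := ex_rel hr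

theorem rawE {e : FE} (he : e ∈ ex) : FreeGroup.lift V (den e) = 1 := by
  apply raw
  rw [← ex_den]
  exact List.mem_map.2 ⟨e, he, rfl⟩

theorem gL_inv (x : ℕ) : gL (ivL ivG x) = (gL x)⁻¹ := by
  match x with
  | 0 => exact inv_one.symm
  | 1 => rfl
  | 2 => exact (inv_inv _).symm
  | 3 => rfl
  | 4 => exact (inv_inv _).symm
  | 5 => rfl
  | 6 => exact (inv_inv _).symm
  | 7 => rfl
  | 8 => exact (inv_inv _).symm
  | 9 => rfl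
  | 10 => exact (inv_inv _).symm
  | 11 => rfl
  | 12 => exact (inv_inv _).symm
  | 13 =>
    show V .e = (V .e)⁻¹
    have h := rawE (e := .p (.g .e) 2) (by decide +kernel)
    rw [den, den, map_pow, FreeGroup.lift_apply_of, pow_two] at h
    exact eq_inv_of_mul_eq_one_left h
  | 14 => rfl
  | 15 => exact (inv_inv _).symm
  | (n + 16) =>
    have : ivL ivG (n + 16) = n + 16 := by simp [ivL, ivG]
    rw [this]
    exact inv_one.symm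

theorem gL_one (x : ℕ) (hx : isLet 15 x = false) : gL x = 1 := by
  match x with
  | 0 => rfl
  | 1 | 2 | 3 | 4 | 5 | 6 | 7 | 8 | 9 | 10 | 11 | 12 | 13 | 14 | 15 => exact absurd hx (by decide)
  | (n + 16) => rfl

theorem lift_gns {E : FE} (h : ∀ y ∈ gns E, V y = ev gL (wx y)) : FreeGroup.lift V (den E) = ev gL (flat E) := by
  induction E with
  | g x => rw [den, FreeGroup.lift_apply_of, flat]; exact h x (by simp [gns])
  | m a b iha ihb =>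
    rw [den, map_mul, flat, ev_app, iha fun y hy => h y (by simp [gns, hy]), ihb fun y hy => h y (by simp [gns, hy])]
  | i a ih => rw [den, map_inv, flat, ev_iw' gL_inv, ih h]
  | p a n ih => rw [den, map_pow, flat, ev_rpl, ih h]

theorem vall {dl : List (Gen × FE)} {known : List Gen} (hk : ∀ y ∈ known, V y = ev gL (wx y)) (hc : chkD known dl = true) :
    ∀ y ∈ dl.map Prod.fst, V y = ev gL (wx y) := by
  induction dl generalizing known with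
  | nil => simp
  | cons p dl ih =>
    obtain ⟨x, E⟩ := p
    simp only [chkD, Bool.and_eq_true, List.contains_iff_mem, beq_iff_eq, List.all_eq_true] at hc
    obtain ⟨⟨⟨h1, h2⟩, h3⟩, h4⟩ := hc
    have h5 : V x = ev gL (wx x) := by
      have h6 := rawE h1
      rw [den, map_mul, den, FreeGroup.lift_apply_of, den, map_inv, mul_inv_eq_one,
        lift_gns (E := E) fun y hy => hk y (h2 y hy)] at h6
      rw [h6, ← ev_rd gL_inv, h3]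
    have hk' : ∀ y ∈ x :: known, V y = ev gL (wx y) := by
      intro y hy
      rcases List.mem_cons.1 hy with rfl | hy
      · exact h5
      · exact hk y hy
    intro y hy
    rw [List.map_cons] at hy
    rcases List.mem_cons.1 hy with rfl | hy
    · exact h5
    · exact ih hk' h4 y hy

theorem V_eq (x : Gen) : V x = ev gL (wx x) := by
  have hk : ∀ y ∈ [Gen.a, .b, .c, .d, .z, .e, .a1, .a2, .a3], V y = ev gL (wx y) := by
    have h1 : V .a1 = V .a := by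
      have h := rawE (e := .m (.g .a1) (.i (.g .a))) (by decide +kernel)
      rw [den, map_mul, den, FreeGroup.lift_apply_of, den, map_inv, mul_inv_eq_one, den, FreeGroup.lift_apply_of] at h
      exact h
    simp only [List.forall_mem_cons]
    have h2 : ∀ k, ev gL [k] = gL k := fun k => by simp [ev]
    refine ⟨?_, ?_, ?_, ?_, ?_, ?_, ?_, ?_, ?_, by simp⟩ <;> simp only [wx, h2] <;> first | rfl | exact h1
  have h1 := vall hk chkC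
  cases x
  · exact hk _ (by decide)
  · exact hk _ (by decide)
  · exact hk _ (by decide)
  · exact hk _ (by decide)
  · exact hk _ (by decide)
  · exact hk _ (by decide)
  · exact hk _ (by decide)
  · exact hk _ (by decide)
  · exact hk _ (by decide)
  · exact h1 _ (by decide)
  · exact h1 _ (by decide)
  · exact h1 _ (by decide)
  · exact h1 _ (by decide)
  · exact h1 _ (by decide)
  · exact h1 _ (by decide)
  · exact h1 _ (by decide)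
  · exact h1 _ (by decide)
  · exact h1 _ (by decide)
  · exact h1 _ (by decide)
  · exact h1 _ (by decide)
  · exact h1 _ (by decide)
  · exact h1 _ (by decide)
  · exact h1 _ (by decide)
  · exact h1 _ (by decide)
  · exact h1 _ (by decide)
  · exact h1 _ (by decide)
  · exact h1 _ (by decide)
  · exact h1 _ (by decide)
  · exact h1 _ (by decide)
  · exact h1 _ (by decide)
  · exact h1 _ (by decide)
  · exact h1 _ (by decide)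
  · exact h1 _ (by decide)
  · exact h1 _ (by decide)
  · exact h1 _ (by decide)
  · exact h1 _ (by decide)
  · exact h1 _ (by decide)
  · exact h1 _ (by decide)
  · exact h1 _ (by decide)

theorem gL_good : Good gL 15 ivG RLG where
  inv := gL_inv
  one := gL_one
  rel := by
    intro p hp
    have hV : ∀ e, FreeGroup.lift V (den e) = ev gL (flat e) := fun e => lift_gns fun y _ => V_eq y
    have key : ∀ w ∈ exf, ev gL w = 1 := by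
      intro w hw
      rw [← ex_exf, List.mem_map] at hw
      obtain ⟨e, he, rfl⟩ := hw
      rw [ev_rd gL_inv, ← hV]
      exact rawE he
    have h1 := (List.all_eq_true.1 chkB) _ hp
    simp only [Bool.or_eq_true, beq_iff_eq, List.contains_iff_mem] at h1
    have i10 : gL 10 = (gL 9)⁻¹ := rfl
    have i2 : gL 2 = (gL 1)⁻¹ := rfl
    have i4 : gL 4 = (gL 3)⁻¹ := rfl
    have i6 : gL 6 = (gL 5)⁻¹ := rfl
    have k3 := key [3, 9, 2, 10] (by decide +kernel)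
    have k5 := key [5, 9, 9, 2, 10, 10] (by decide +kernel)
    simp only [ev, List.map_cons, List.map_nil, List.prod_cons, List.prod_nil, mul_one, i2, i10, pow_one] at k3 k5
    have e3 : gL 3 = gL 9 * gL 1 * (gL 9)⁻¹ := by
      rw [mul_eq_one_iff_eq_inv] at k3
      rw [k3]; group
    have e5 : gL 5 = gL 9 * (gL 9 * gL 1 * (gL 9)⁻¹) * (gL 9)⁻¹ := by
      rw [mul_eq_one_iff_eq_inv] at k5
      rw [k5]; simp only [mul_inv_rev, inv_inv, mul_assoc]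
    rcases h1 with (rfl | rfl) | h1
    · simp only [ev, List.map_cons, List.map_nil, List.prod_cons, List.prod_nil, mul_one, i4, i10, e3, pow_one]
      group
    · simp only [ev, List.map_cons, List.map_nil, List.prod_cons, List.prod_nil, mul_one, i6, i10, e5, e3, pow_one]
      group
    · rw [← show ev gL p.1 = (p.1.map gL).prod from rfl, ← ev_rpl]
      exact key _ h1

theorem ev_mem {G : Type} [Group G] {g : ℕ → G} (hone : ∀ x, isLet 15 x = false → g x = 1) (u : List ℕ) :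
    ev g u ∈ Cl g 15 := by
  unfold ev
  apply Subgroup.list_prod_mem
  intro y hy
  obtain ⟨x, _, rfl⟩ := List.mem_map.1 hy
  by_cases hx : isLet 15 x = true
  · exact mem_Cl g hx
  · rw [hone x (by simpa using hx)]
    exact Subgroup.one_mem _

theorem gL_top : Cl gL 15 = ⊤ := by
  rw [eq_top_iff, ← PresentedGroup.closure_range_of (coxRelators edges ∪ {r | r ∈ extra}), Subgroup.closure_le]
  rintro _ ⟨x, rfl⟩
  show V x ∈ Cl gL 15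
  rw [V_eq]
  exact ev_mem gL_one _

/-- homomorphisms out of the presented group -/
theorem exists_hom {H : Type} [Group H] {h : ℕ → H} (hh : Good h 15 ivG RLG) :
    ∃ φ : Spor.Ly →* H, ∀ x, φ (gL x) = h x := by
  have hr : ∀ r ∈ coxRelators edges ∪ {r | r ∈ extra}, FreeGroup.lift (fun x => ev h (wx x)) r = 1 := by
    rintro r (hr | hr)
    · obtain ⟨x, hx, _⟩ := hr
      simp [coxNodes, Ly.edges] at hx
    · exact extra_one hh hr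
  refine ⟨PresentedGroup.toGroup hr, ?_⟩
  have hV : ∀ x, PresentedGroup.toGroup hr (V x) = ev h (wx x) := fun x => PresentedGroup.toGroup.of _
  have h2 : ∀ k, ev h [k] = h k := fun k => by simp [ev]
  intro x
  match x with
  | 0 => rw [gL_one 0 rfl, map_one, hh.one 0 rfl]
  | 1 => exact (hV .a).trans (h2 1)
  | 2 => rw [show gL 2 = (V .a)⁻¹ from rfl, map_inv, hV .a, wx, h2]; exact (hh.inv 1).symm
  | 3 => exact (hV .a2).trans (h2 3)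
  | 4 => rw [show gL 4 = (V .a2)⁻¹ from rfl, map_inv, hV .a2, wx, h2]; exact (hh.inv 3).symm
  | 5 => exact (hV .a3).trans (h2 5)
  | 6 => rw [show gL 6 = (V .a3)⁻¹ from rfl, map_inv, hV .a3, wx, h2]; exact (hh.inv 5).symm
  | 7 => exact (hV .c).trans (h2 7)
  | 8 => rw [show gL 8 = (V .c)⁻¹ from rfl, map_inv, hV .c, wx, h2]; exact (hh.inv 7).symm
  | 9 => exact (hV .b).trans (h2 9)
  | 10 => rw [show gL 10 = (V .b)⁻¹ from rfl, map_inv, hV .b, wx, h2]; exact (hh.inv 9).symm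
  | 11 => exact (hV .d).trans (h2 11)
  | 12 => rw [show gL 12 = (V .d)⁻¹ from rfl, map_inv, hV .d, wx, h2]; exact (hh.inv 11).symm
  | 13 => exact (hV .e).trans (h2 13)
  | 14 => exact (hV .z).trans (h2 14)
  | 15 => rw [show gL 15 = (V .z)⁻¹ from rfl, map_inv, hV .z, wx, h2]; exact (hh.inv 14).symm
  | (n + 16) =>
    have h3 : isLet 15 (n + 16) = false := by rw [← Bool.not_eq_true, isLet_iff]; omega
    rw [gL_one _ h3, map_one, hh.one _ h3]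

theorem finite_Ly : Finite Spor.Ly := (card_G gL_good gL_top).1

theorem card_Ly_le : Nat.card Spor.Ly ≤ 51765179004000000 := (card_G gL_good gL_top).2

theorem index_Ly : Finite (Spor.Ly ⧸ Cl gL 13) ∧ (Cl gL 13).index ≤ 8835156 := index_H gL_good gL_top

end Cfsg.Agent.LyG
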