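import Cfsg.Agent.CosetEnum.Ly.TT0
import Cfsg.Agent.CosetEnum.Ly.TT1
import Cfsg.Agent.CosetEnum.Ly.TT2
import Cfsg.Agent.CosetEnum.Ly.TT3

/-! Permutation table (generated data, owner: helper66). -/

set_option autoImplicit false
set_option maxRecDepth 1000000

namespace Cfsg.Agent.CosetEnum.LYT

noncomputable def tab : T := (.n 9744 (.n 4848 tab0 tab1) (.n 14640 tab2 tab3))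

def iv : List (Nat × Nat) := [(1, 2), (3, 4), (5, 6), (7, 8), (9, 10), (11, 12)]

def RL : List (List Nat × Nat) := [([1], 8), ([9], 5), ([1, 9], 4), ([2, 2, 10, 1, 1, 9], 1), ([2, 10, 1, 9], 3), ([7], 5), ([8, 2, 8, 1, 7, 2, 7, 1], 5), ([8, 2, 8, 1, 8, 2, 7, 1, 7, 2, 8, 1, 7, 2, 7, 1], 1), ([2, 8, 8, 1, 8, 2, 7, 1, 7, 2, 7, 1, 8, 2, 8, 1, 7, 2, 7, 1], 1), ([10, 8, 9, 2, 8, 1, 8, 2, 7, 1, 7, 10, 7, 9, 8, 2, 8, 1, 7, 2, 7, 1], 1), ([9, 8, 10, 2, 8, 1, 8, 2, 7, 1, 7, 9, 7, 10, 8, 2, 8, 1, 7, 2, 7, 1], 1), ([8, 10, 8, 9, 7, 10, 7, 9, 8, 2, 8, 1, 7, 2, 7, 1, 8, 2, 8, 1, 7, 2, 7, 1], 1), ([8, 9, 8, 10, 7, 9, 7, 10, 2, 8, 1, 8, 2, 7, 1, 7, 2, 8, 1, 8, 2, 7, 1, 7], 1), ([2, 8, 1, 10, 8, 9, 2, 7, 1, 10, 7, 9, 8, 2, 8, 1, 7, 2, 7, 1], 1), ([2,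 8, 1, 9, 8, 10, 2, 7, 1, 9, 7, 10], 1), ([10, 8, 9, 9, 8, 10, 10, 7, 9, 9, 7, 10, 8, 2, 8, 1, 7, 2, 7, 1], 1), ([2, 2, 7, 1, 1, 7, 7], 1), ([2, 10, 7, 9, 1, 9, 8, 10, 8, 10, 7, 7, 9], 1), ([2, 9, 7, 10, 1, 9, 8, 10, 8, 9, 8, 10, 10, 7, 9, 2, 7, 1, 8], 1), ([2, 8, 2, 8, 1, 7, 2, 7, 1, 8, 1, 8, 2, 7, 1, 7, 2, 8, 1, 8, 2, 7, 1, 7], 1), ([10, 2, 7, 1, 9, 9, 7, 10, 7, 9, 7, 10, 10, 8, 9, 2, 8, 1], 1), ([10, 10, 7, 9, 7, 7, 9, 9, 8, 10, 8, 8], 1), ([10, 8, 2, 8, 1, 7, 2, 7, 1, 9, 2, 8, 1, 8, 2, 7, 1, 7], 1), ([13, 12, 8, 12, 9, 2, 10, 8, 12, 2, 8, 1, 8, 2, 7, 1, 9, 9], 1), ([13, 7, 13, 7, 10, 10, 8], 1), ([13, 10, 7, 9, 13, 1, 9, 7, 10, 7, 2, 8, 10, 10], 1), ([13, 9, 7, 10, 13, 9, 8, 10, 10, 7, 10], 1), ([13, 8, 2, 8, 1, 7, 2, 7, 1, 13, 9,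 7, 10, 8, 10, 7, 9, 8], 1), ([13, 1, 1, 13, 9, 7, 10, 2, 8, 1, 8, 2, 7, 9, 2, 10, 10, 2], 1), ([13, 9, 13, 9, 7, 7, 10, 10, 7, 9, 8], 1), ([13, 1, 9, 9, 1, 10, 1, 13, 9, 7, 10, 2, 8, 1, 8, 2, 7, 2], 1), ([13, 2, 7, 1, 13, 2, 8, 1, 13, 2, 7, 1, 9, 8, 10, 1, 10, 7, 9, 1, 1, 1], 1), ([11, 13, 10, 2, 7, 13, 2, 13, 2, 8, 2, 8, 1, 7, 2, 7, 1, 9, 7, 10, 7, 9, 1, 10, 10, 2], 1), ([11, 11, 2, 2, 2, 2], 1), ([10, 12, 9, 11], 1), ([12, 1, 11, 2, 2, 2], 1), ([11, 8, 2, 8, 1, 7, 2, 7, 1], 5), ([11, 8, 2, 8, 1, 7, 2, 7, 1, 11, 2, 8, 1, 8, 2, 7, 1, 7, 11, 8, 2, 8, 1, 7, 2, 7, 2], 1), ([4, 9, 1, 10], 1), ([6, 9, 3, 10], 1)]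

def lets : List Nat := [1, 2, 3, 4, 5, 6, 7, 8, 9, 10, 11, 12, 13]

noncomputable def P : Par := ⟨tab, 280, 1942668892225729070919461906823518906642406839052139521251812409738904285205208498175, 19530, fun _ _ => false, .e⟩

end Cfsg.Agent.CosetEnum.LYT
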